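/-
Eichler transformations, hyperbolic pairs and singular vectors of a symmetric bilinear form in odd
characteristic.
-/
import Cfsg.Agent.Lib.MaxSub.TensorSympOrth.Forms
import Cfsg.Agent.Lib.MaxSub.SubspaceMaximalOrthBasic

set_option autoImplicit false
set_option linter.unusedSectionVars false

namespace CfsgLib.MaxSub.TensorOO

open Module
open CfsgLib.MaxSub.TensorSympOrth (SForm)

variable {F : Type*} [Field F] {U : Type*} [AddCommGroup U] [Module F U] {f : U → U → F}

/-- The Eichler transformation. -/
def eich (H : SForm f) (η θ : U) : U →ₗ[F] U :=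
  LinearMap.id + ((H.lin η).smulRight θ - (H.lin θ).smulRight η
    - (f θ θ / 2) • (H.lin η).smulRight η)

variable (H : SForm f)
include H

theorem eich_apply (η θ x : U) :
    eich H η θ x = x + (f x η • θ - f x θ • η - (f θ θ / 2 * f x η) • η) := by
  simp [eich, SForm.lin_apply, smul_smul]

theorem eich_fix {η θ x : U} (h1 : f x η = 0) (h2 : f x θ = 0) : eich H η θ x = x := by
  simp [eich_apply, h1, h2]

theorem eich_isom {η θ : U} (h : f η η = 0) (h' : f η θ = 0) (x y : U) :
    f (eich H η θ x) (eich H η θ y) = f x y := by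
  simp only [eich_apply, H.add_left, H.add_right, H.sub_left, H.sub_right, H.smul_left, H.smul_right,
    H.symm η θ, h, h', H.symm η x, H.symm θ x, H.symm η y, H.symm θ y]
  rw [H.symm y η, H.symm y θ]
  have := H.two
  field_simp
  ring

theorem eich_mul {η θ θ' : U} (h : f η η = 0) (h1 : f η θ = 0) (h2 : f η θ' = 0) (x : U) :
    eich H η θ (eich H η θ' x) = eich H η (θ + θ') x := by
  simp only [eich_apply, H.add_left, H.add_right, H.sub_left, H.smul_left, H.symm θ' θ, h,
    H.symm η θ', H.symm η θ, h1, h2]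
  have := H.two
  match_scalars <;> field_simp <;> ring

theorem eich_zero (η : U) (x : U) : eich H η 0 x = x := by
  simp [eich_apply, H.zero_right]

theorem eich_inv {η θ : U} (h : f η η = 0) (h1 : f η θ = 0) (x : U) :
    eich H η (-θ) (eich H η θ x) = x := by
  rw [eich_mul H h (by rw [H.neg_right, h1, neg_zero]) h1, neg_add_cancel, eich_zero]

/-- Eichler transformations are unipotent. -/
theorem eich_cube {η θ : U} (h : f η η = 0) (h1 : f η θ = 0) :
    ((eich H η θ : Module.End F U) - 1) ^ 3 = 0 := by
  have hN : ∀ x, ((eich H η θ : Module.End F U) - 1) x =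
      f x η • θ - f x θ • η - (f θ θ / 2 * f x η) • η := fun x => by
    rw [LinearMap.sub_apply, eich_apply, Module.End.one_apply, add_sub_cancel_left]
  refine LinearMap.ext fun x => ?_
  rw [pow_succ, pow_succ, pow_one, Module.End.mul_apply, Module.End.mul_apply, LinearMap.zero_apply]
  simp only [hN, H.sub_left, H.smul_left, H.symm η θ, h, h1, mul_zero, sub_zero, zero_smul]
  simp [H.zero_left]

/-- A singular vector has a singular partner. -/
theorem exists_pair {e : U} (he0 : e ≠ 0) (he : f e e = 0) : ∃ e', f e' e' = 0 ∧ f e e' = 1 := by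
  obtain ⟨y, hy⟩ := H.exists_left he0
  refine ⟨y - (f y y / 2) • e, ?_, ?_⟩
  · simp only [H.sub_left, H.sub_right, H.smul_left, H.smul_right, he, hy, H.symm y e]
    have := H.two
    field_simp
    ring
  · rw [H.sub_right, H.smul_right, he, mul_zero, sub_zero, H.symm, hy]

omit H in
/-- The perpendicular of a pair. -/
def pairPerp (H : SForm f) (e e' : U) : Submodule F U :=
  LinearMap.ker (H.lin e) ⊓ LinearMap.ker (H.lin e')

theorem mem_pairPerp {e e' x : U} : x ∈ pairPerp H e e' ↔ f x e = 0 ∧ f x e' = 0 := Iff.rfl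

theorem proj_pairPerp {e e' : U} (he : f e e = 0) (he' : f e' e' = 0) (h : f e e' = 1) (x : U) :
    x - f x e' • e - f x e • e' ∈ pairPerp H e e' := by
  rw [mem_pairPerp]
  simp only [H.sub_left, H.smul_left, he, he', h, H.symm e e', mul_zero, mul_one, sub_zero, sub_self,
    and_self]

/-- Every vector splits along a pair. -/
theorem split_pair {e e' : U} (he : f e e = 0) (he' : f e' e' = 0) (h : f e e' = 1) (x : U) :
    ∃ a b : F, ∃ k ∈ pairPerp H e e', x = a • e + b • e' + k :=
  ⟨f x e', f x e, _, proj_pairPerp H he he' h x, by abel⟩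

theorem pairPerp_nondeg {e e' : U} (he : f e e = 0) (he' : f e' e' = 0) (h : f e e' = 1) :
    ∀ x ∈ pairPerp H e e', (∀ y ∈ pairPerp H e e', f x y = 0) → x = 0 := fun x hx hy =>
  H.nondeg x fun y => by
    obtain ⟨a, b, k, hk, rfl⟩ := split_pair H he he' h y
    obtain ⟨h1, h2⟩ := (mem_pairPerp H).1 hx
    rw [H.add_right, H.add_right, H.smul_right, H.smul_right, h1, h2, hy k hk]
    ring

section

variable [FiniteDimensional F U]

theorem pairPerp_dim (e e' : U) : finrank F U ≤ finrank F (pairPerp H e e') + 2 := by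
  obtain ⟨P, hP, hdim⟩ := H.finrank_perp_le ![e, e']
  obtain rfl : P = pairPerp H e e' := Submodule.ext fun x => by
    rw [hP, mem_pairPerp]
    exact ⟨fun h => ⟨h 0, h 1⟩, fun h i => by fin_cases i <;> [exact h.1; exact h.2]⟩
  exact hdim

theorem exists_aniso_pairPerp (hd : 3 ≤ finrank F U) {e e' : U} (he : f e e = 0)
    (he' : f e' e' = 0) (h : f e e' = 1) : ∃ k ∈ pairPerp H e e', f k k ≠ 0 := by
  have hd' := pairPerp_dim H e e'
  have : Nontrivial (pairPerp H e e') := Module.nontrivial_of_finrank_pos (R := F) (by omega)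
  obtain ⟨x, hx⟩ := exists_ne (0 : pairPerp H e e')
  obtain ⟨a, ha⟩ := (H.restrict (pairPerp_nondeg H he he' h)).exists_aniso hx
  exact ⟨a, a.2, ha⟩

/-- An anisotropic vector perpendicular to one. -/
theorem exists_aniso_orth (hd : 2 ≤ finrank F U) {k : U} (hk : f k k ≠ 0) :
    ∃ k', f k' k' ≠ 0 ∧ f k' k = 0 := by
  by_contra hc
  push Not at hc
  obtain ⟨P, hP, hdim⟩ := H.finrank_perp_le ![k]
  have hmem : ∀ x ∈ P, f x k = 0 := fun x hx => (hP x).1 hx 0
  have hTI : ∀ x ∈ P, f x x = 0 := fun x hx => by
    by_contra hxx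
    exact hc x hxx (hmem x hx)
  obtain ⟨x, hx, hx0⟩ := (Submodule.ne_bot_iff P).1 fun e => by
    rw [e, finrank_bot] at hdim
    omega
  refine hx0 (H.nondeg x fun y => ?_)
  have hy : y - (f y k / f k k) • k ∈ P := (hP _).2 fun i => by
    fin_cases i
    show f _ k = 0
    rw [H.sub_left, H.smul_left, div_mul_cancel₀ _ hk, sub_self]
  have := H.polar_zero hTI hx hy
  rwa [H.sub_right, H.smul_right, hmem x hx, mul_zero, sub_zero] at this

/-- Two perpendicular anisotropic vectors in the perpendicular of a pair. -/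
theorem exists_two_pairPerp (hd : 4 ≤ finrank F U) {e e' : U} (he : f e e = 0)
    (he' : f e' e' = 0) (h : f e e' = 1) {k : U} (hk : k ∈ pairPerp H e e') (hkk : f k k ≠ 0) :
    ∃ k' ∈ pairPerp H e e', f k' k' ≠ 0 ∧ f k' k = 0 := by
  have hd' := pairPerp_dim H e e'
  obtain ⟨k', hk', hkk'⟩ := exists_aniso_orth (H.restrict (pairPerp_nondeg H he he' h)) (by omega)
    (k := ⟨k, hk⟩) hkk
  exact ⟨k', k'.2, hk', hkk'⟩

theorem quad_polar_nondeg : (QuadraticMap.polarBilin H.quad).Nondegenerate := by
  have h0 : ∀ x, (∀ y, QuadraticMap.polar H.quad x y = 0) → x = 0 := fun x hx =>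
    H.nondeg x fun y => by
      have := hx y
      rw [H.quad_polar] at this
      exact (mul_eq_zero.1 this).resolve_left H.two
  exact ⟨fun x hx => h0 x hx, fun x hx => h0 x fun y => by
    rw [QuadraticMap.polar_comm]; exact hx y⟩

/-- A vector of given norm in the perpendicular of a pair. -/
theorem exists_value [Finite F] (hd : 4 ≤ finrank F U) {e e' : U} (he : f e e = 0)
    (he' : f e' e' = 0) (h : f e e' = 1) {d : F} (hd0 : d ≠ 0) :
    ∃ z ∈ pairPerp H e e', f z z = d := by
  have hd' := pairPerp_dim H e e'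
  have HR := H.restrict (pairPerp_nondeg H he he' h)
  obtain ⟨z, hz⟩ := CfsgLib.MaxSub.Orth.exists_value HR.quad (quad_polar_nondeg HR) (by omega) hd0
  exact ⟨z, z.2, by rwa [HR.quad_apply] at hz⟩

/-- The singular vectors span. -/
theorem singular_span [Finite F] (hd : 3 ≤ finrank F U) (P : Submodule F U)
    (hP : ∀ x, x ≠ 0 → f x x = 0 → x ∈ P) (x : U) : x ∈ P := by
  obtain ⟨e, he0, he⟩ := H.exists_iso hd
  obtain ⟨e', he', h⟩ := exists_pair H he0 he
  have he'0 : e' ≠ 0 := fun e0 => by
    rw [e0, H.zero_right] at h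
    exact zero_ne_one h
  obtain ⟨a, b, k, hk, rfl⟩ := split_pair H he he' h x
  refine add_mem (add_mem (P.smul_mem _ (hP e he0 he)) (P.smul_mem _ (hP e' he'0 he'))) ?_
  obtain ⟨hk1, hk2⟩ := (mem_pairPerp H).1 hk
  set v := e + k - (f k k / 2) • e' with hv
  have hv0 : v ≠ 0 := fun e0 => by
    have h1 : f v e' = 1 := by
      simp [hv, H.add_left, H.sub_left, H.smul_left, h, hk2, he']
    rw [e0, H.zero_left] at h1
    exact zero_ne_one h1
  have hvv : f v v = 0 := by
    simp only [hv, H.add_left, H.add_right, H.sub_left, H.sub_right, H.smul_left, H.smul_right, he,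
      he', h, H.symm e e', hk1, hk2, H.symm k e, H.symm k e']
    have := H.two
    field_simp
    ring
  have e1 : k = v - e + (f k k / 2) • e' := by
    rw [hv]
    abel
  rw [e1]
  exact add_mem (sub_mem (hP v hv0 hvv) (hP e he0 he)) (P.smul_mem _ (hP e' he'0 he'))

/-- An endomorphism fixing all singular points is scalar. -/
theorem scalar_of_singular [Finite F] (hd : 3 ≤ finrank F U) (T : U →ₗ[F] U)
    (hT : ∀ x, x ≠ 0 → f x x = 0 → ∃ μ : F, T x = μ • x) : ∃ a : F, ∀ x, T x = a • x := by
  obtain ⟨e, he0, he⟩ := H.exists_iso hd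
  obtain ⟨e', he', h⟩ := exists_pair H he0 he
  have he'0 : e' ≠ 0 := fun e0 => by
    rw [e0, H.zero_right] at h
    exact zero_ne_one h
  obtain ⟨a, ha⟩ := hT e he0 he
  obtain ⟨b, hb⟩ := hT e' he'0 he'
  have key : ∀ k ∈ pairPerp H e e', k ≠ 0 → T k = a • k ∧ (f k k ≠ 0 → a = b) := by
    intro k hk hk0
    obtain ⟨hk1, hk2⟩ := (mem_pairPerp H).1 hk
    set c := f k k / 2 with hc
    have hs : ∀ s : F, s * s = 1 → ∃ μ : F, T (e + s • k - c • e') = μ • (e + s • k - c • e') := by
      intro s hs
      refine hT _ (fun e0 => ?_) ?_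
      · have h1 := congrArg (f · e') e0
        simp [H.add_left, H.sub_left, H.smul_left, h, hk2, he', H.zero_left] at h1
      · simp only [H.add_left, H.add_right, H.sub_left, H.sub_right, H.smul_left, H.smul_right, he,
          he', h, H.symm e e', hk1, hk2, H.symm k e, H.symm k e', hc]
        have := H.two
        field_simp
        linear_combination (4 * f k k) * hs
    obtain ⟨μ, hμ⟩ := hs 1 (one_mul 1)
    obtain ⟨μ', hμ'⟩ := hs (-1) (by ring)
    simp only [map_add, map_sub, map_smul, map_neg, ha, hb, one_smul, neg_smul] at hμ hμ'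
    have hsum : (2 * a - μ - μ') • e - (c * (2 * b - μ - μ')) • e' = (μ - μ') • k := by
      linear_combination (norm := module) hμ + hμ'
    have h1 : 2 * a - μ - μ' = 0 := by
      have := congrArg (f · e') hsum
      simpa [H.sub_left, H.smul_left, h, he', hk2] using this
    have h2 : c * (2 * b - μ - μ') = 0 := by
      have := congrArg (f · e) hsum
      simpa [H.sub_left, H.smul_left, he, hk1, H.symm e e', h] using this
    have h3 : μ - μ' = 0 := by
      rw [h1, h2, zero_smul, zero_smul, sub_zero] at hsum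
      exact (smul_eq_zero.1 hsum.symm).resolve_right hk0
    have hμa : μ = a := mul_left_cancel₀ H.two (by linear_combination h3 - h1)
    subst hμa
    refine ⟨?_, fun hkk => mul_left_cancel₀ H.two ?_⟩
    · have hcb : c * b = c * μ := mul_left_cancel₀ H.two (by linear_combination h2 - c * h3)
      linear_combination (norm := module) hμ + hcb • e'
    · have hc0 : c ≠ 0 := div_ne_zero hkk H.two
      linear_combination h3 - (mul_eq_zero.1 h2).resolve_left hc0
  obtain ⟨k, hk, hkk⟩ := exists_aniso_pairPerp H hd he he' h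
  obtain rfl := (key k hk (H.ne_zero hkk)).2 hkk
  refine ⟨a, fun x => ?_⟩
  obtain ⟨r, s, l, hl, rfl⟩ := split_pair H he he' h x
  have hl' : T l = a • l := by
    rcases eq_or_ne l 0 with rfl | hl0
    · rw [map_zero, smul_zero]
    · exact (key l hl hl0).1
  rw [map_add, map_add, map_smul, map_smul, ha, hb, hl']
  module

/-- A unipotent isometry is no transvection. -/
theorem not_rank_one {φ : U →ₗ[F] F} {v : U} (hv : v ≠ 0)
    (hiso : ∀ x y, f (x + φ x • v) (y + φ y • v) = f x y) (hφv : φ v = 0) : φ = 0 := by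
  have hb : ∀ x y, φ x * f v y + φ y * f x v + φ x * φ y * f v v = 0 := fun x y => by
    have := hiso x y
    simp only [H.add_left, H.add_right, H.smul_left, H.smul_right] at this
    linear_combination this
  by_contra hne
  obtain ⟨x0, hx0⟩ : ∃ x, φ x ≠ 0 := by
    by_contra hc
    push Not at hc
    exact hne (LinearMap.ext hc)
  have hvv : f v v = 0 := by
    have := hb v x0
    rw [hφv, zero_mul, zero_mul, zero_mul, add_zero, zero_add] at this
    exact (mul_eq_zero.1 this).resolve_left hx0
  have hd : ∀ x, φ x * f x v = 0 := fun x => by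
    have := hb x x
    rw [H.symm x v, hvv, mul_zero, add_zero] at this
    exact (mul_eq_zero.1 (show (2 : F) * (φ x * f x v) = 0 by linear_combination this)).resolve_left
      H.two
  have h0 : ∀ x, f x v = 0 := fun x => by
    by_contra hx
    have e1 : φ x = 0 := (mul_eq_zero.1 (hd x)).resolve_right hx
    have e2 : f x0 v = 0 := (mul_eq_zero.1 (hd x0)).resolve_left hx0
    have := hd (x + x0)
    rw [map_add, H.add_left, e1, e2, zero_add, add_zero] at this
    exact (mul_ne_zero hx0 hx) this
  exact hv (H.nondeg v fun y => by rw [H.symm, h0])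

/-- Totally isotropic subspaces have at most half the dimension. -/
theorem two_mul_le {W : Submodule F U} (hW : ∀ x ∈ W, f x x = 0) :
    2 * finrank F W ≤ finrank F U := by
  obtain ⟨P, hP, -⟩ := H.exists_perp_sub W
  have h1 := H.finrank_perp hP
  have h2 := Submodule.finrank_mono
    (show W ≤ P from fun x hx => (hP x).2 fun w hw => H.polar_zero hW hx hw)
  omega

end

/-- An Eichler transformation with singular partner data moves a centre to a multiple of its partner. -/
theorem eich_swap {e e' z : U} (he : f e e = 0) (h : f e e' = 1)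
    (hz : z ∈ pairPerp H e e') (hzz : f z z ≠ 0) :
    eich H e ((f z z / 2)⁻¹ • z) (eich H e' z e) = (-(f z z / 2)) • e' := by
  obtain ⟨h1, h2⟩ := (mem_pairPerp H).1 hz
  simp only [eich_apply, H.add_left, H.sub_left, H.smul_left, H.smul_right, H.symm z e, H.symm z e',
    he, h, H.symm e e', h1, h2]
  have := H.two
  match_scalars <;> field_simp <;> ring

end CfsgLib.MaxSub.TensorOO
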