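/-
Overgroups of a tensor product of two orthogonal groups in an orthogonal group: basic notions. The space
is the space of matrices, a pure tensor being `vecMulVec c x`.
-/
import Cfsg.Agent.Lib.MaxSub.TensorOO.Forms
import Cfsg.Agent.Lib.MaxSub.TensorSympOrth.Basic

set_option autoImplicit false
set_option maxHeartbeats 400000
set_option linter.unusedSectionVars false

namespace CfsgLib.MaxSub.TensorOO

open Matrix Module
open CfsgLib.MaxSub.TensorSympOrth (SForm ext_pure vmv_smul vmv_sub sub_vmv vmv_neg neg_vmv vmv_ne_zero)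
open CfsgLib.MaxSub.TensorLin (Col colMap colMap_apply mem_col vmv_eq_zero vmv_zero vm exists_dot_one
  colMap_injective finrank_col)

variable {F : Type*} [Field F] {ι κ : Type*} [Fintype ι] [Fintype κ] [DecidableEq ι] [DecidableEq κ]

local notation "MV" => Matrix ι κ F

/-- The tensor product of two linear maps. -/
def tm (L : (ι → F) →ₗ[F] (ι → F)) (M : (κ → F) →ₗ[F] (κ → F)) : Matrix ι κ F →ₗ[F] Matrix ι κ F where
  toFun X := LinearMap.toMatrix' L * X * (LinearMap.toMatrix' M)ᵀ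
  map_add' X Y := by rw [Matrix.mul_add, Matrix.add_mul]
  map_smul' t X := by rw [Matrix.mul_smul, Matrix.smul_mul, RingHom.id_apply]

theorem tm_apply (L : (ι → F) →ₗ[F] (ι → F)) (M : (κ → F) →ₗ[F] (κ → F)) (X : MV) :
    tm L M X = LinearMap.toMatrix' L * X * (LinearMap.toMatrix' M)ᵀ := rfl

theorem tm_pure (L : (ι → F) →ₗ[F] (ι → F)) (M : (κ → F) →ₗ[F] (κ → F)) (c : ι → F) (x : κ → F) :
    tm L M (vecMulVec c x) = vecMulVec (L c) (M x) := by
  rw [tm_apply, mul_vecMulVec, vecMulVec_mul, LinearMap.toMatrix'_mulVec, Matrix.vecMul_transpose,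
    LinearMap.toMatrix'_mulVec]

theorem tm_mulVec (L : (ι → F) →ₗ[F] (ι → F)) (M : (κ → F) →ₗ[F] (κ → F)) (X : MV) (μ : κ → F) :
    tm L M X *ᵥ μ = L (X *ᵥ ((LinearMap.toMatrix' M)ᵀ *ᵥ μ)) := by
  rw [tm_apply, ← mulVec_mulVec, ← mulVec_mulVec, LinearMap.toMatrix'_mulVec]

theorem tm_tm (L L' : (ι → F) →ₗ[F] (ι → F)) (M M' : (κ → F) →ₗ[F] (κ → F)) (X : MV) :
    tm L M (tm L' M' X) = tm (L ∘ₗ L') (M ∘ₗ M') X := by
  refine ext_pure (A := tm L M ∘ₗ tm L' M') (B := tm (L ∘ₗ L') (M ∘ₗ M')) (fun c x => ?_) X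
  rw [LinearMap.comp_apply, tm_pure, tm_pure, tm_pure]
  rfl

theorem tm_id (X : MV) : tm (LinearMap.id) (LinearMap.id) X = X := by
  refine ext_pure (A := tm LinearMap.id LinearMap.id) (B := LinearMap.id) (fun c x => ?_) X
  rw [tm_pure]
  rfl

/-- The first factor acting. -/
def tmL : Module.End F (ι → F) →+* Module.End F (Matrix ι κ F) where
  toFun L := tm L LinearMap.id
  map_one' := LinearMap.ext tm_id
  map_mul' L L' := LinearMap.ext fun X => (tm_tm L L' LinearMap.id LinearMap.id X).symm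
  map_zero' := LinearMap.ext fun X => by
    rw [tm_apply, map_zero, Matrix.zero_mul, Matrix.zero_mul, LinearMap.zero_apply]
  map_add' L L' := LinearMap.ext fun X => by
    rw [LinearMap.add_apply, tm_apply, tm_apply, tm_apply, map_add, Matrix.add_mul, Matrix.add_mul]

/-- The second factor acting. -/
def tmR : Module.End F (κ → F) →+* Module.End F (Matrix ι κ F) where
  toFun M := tm LinearMap.id M
  map_one' := LinearMap.ext tm_id
  map_mul' M M' := LinearMap.ext fun X => (tm_tm LinearMap.id LinearMap.id M M' X).symm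
  map_zero' := LinearMap.ext fun X => by
    rw [tm_apply, map_zero, Matrix.transpose_zero, Matrix.mul_zero, LinearMap.zero_apply]
  map_add' M M' := LinearMap.ext fun X => by
    rw [LinearMap.add_apply, tm_apply, tm_apply, tm_apply, map_add, Matrix.transpose_add,
      Matrix.mul_add]

theorem tmL_apply (L : Module.End F (ι → F)) (X : MV) :
    (tmL L : Module.End F MV) X = tm L LinearMap.id X := rfl

theorem tmR_apply (M : Module.End F (κ → F)) (X : MV) :
    (tmR M : Module.End F MV) X = tm LinearMap.id M X := rfl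

/-- The tensor product of two automorphisms. -/
def te (L : (ι → F) ≃ₗ[F] (ι → F)) (M : (κ → F) ≃ₗ[F] (κ → F)) :
    Matrix ι κ F ≃ₗ[F] Matrix ι κ F :=
  LinearEquiv.ofLinearMap (tm L.toLinearMap M.toLinearMap) (tm L.symm.toLinearMap M.symm.toLinearMap)
    (LinearMap.ext fun X => by
      rw [LinearMap.comp_apply, tm_tm, L.comp_symm, M.comp_symm]
      exact tm_id X)
    (LinearMap.ext fun X => by
      rw [LinearMap.comp_apply, tm_tm, L.symm_comp, M.symm_comp]
      exact tm_id X)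

theorem te_apply (L : (ι → F) ≃ₗ[F] (ι → F)) (M : (κ → F) ≃ₗ[F] (κ → F)) (X : MV) :
    te L M X = tm L.toLinearMap M.toLinearMap X := rfl

theorem te_pure (L : (ι → F) ≃ₗ[F] (ι → F)) (M : (κ → F) ≃ₗ[F] (κ → F)) (c : ι → F) (x : κ → F) :
    te L M (vecMulVec c x) = vecMulVec (L c) (M x) := tm_pure _ _ c x

/-- A map respecting the decomposition. -/
def Pure (g : Matrix ι κ F ≃ₗ[F] Matrix ι κ F) : Prop :=
  ∃ (L : (ι → F) →ₗ[F] (ι → F)) (M : (κ → F) →ₗ[F] (κ → F)),
    ∀ c x, g (vecMulVec c x) = vecMulVec (L c) (M x)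

theorem pure_one : Pure (1 : MV ≃ₗ[F] MV) := ⟨LinearMap.id, LinearMap.id, fun _ _ => rfl⟩

theorem Pure.mul {g g' : MV ≃ₗ[F] MV} (h : Pure g) (h' : Pure g') : Pure (g * g') := by
  obtain ⟨L, M, hg⟩ := h
  obtain ⟨L', M', hg'⟩ := h'
  exact ⟨L ∘ₗ L', M ∘ₗ M', fun c x => by rw [LinearEquiv.mul_apply, hg', hg]; rfl⟩

theorem Pure.eq_tm {g : MV ≃ₗ[F] MV} {L : (ι → F) →ₗ[F] (ι → F)} {M : (κ → F) →ₗ[F] (κ → F)}
    (h : ∀ c x, g (vecMulVec c x) = vecMulVec (L c) (M x)) (X : MV) : g X = tm L M X :=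
  ext_pure (A := g.toLinearMap) (B := tm L M) (fun c x => by rw [tm_pure]; exact h c x) X

theorem Pure.factors [Nonempty ι] [Nonempty κ] {g : MV ≃ₗ[F] MV} (h : Pure g) :
    ∃ (L : (ι → F) ≃ₗ[F] (ι → F)) (M : (κ → F) ≃ₗ[F] (κ → F)),
      ∀ c x, g (vecMulVec c x) = vecMulVec (L c) (M x) := by
  obtain ⟨L, M, hg⟩ := h
  obtain ⟨i₀⟩ := ‹Nonempty ι›
  obtain ⟨j₀⟩ := ‹Nonempty κ›
  have hL : Function.Injective L := (injective_iff_map_eq_zero L).2 fun c hc => by
    have := hg c (Pi.single j₀ 1)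
    rw [hc, zero_vecMulVec, g.map_eq_zero_iff, vmv_eq_zero] at this
    exact this.resolve_right (by simp)
  have hM : Function.Injective M := (injective_iff_map_eq_zero M).2 fun x hx => by
    have := hg (Pi.single i₀ 1) x
    rw [hx, vmv_zero, g.map_eq_zero_iff, vmv_eq_zero] at this
    exact this.resolve_left (by simp)
  exact ⟨LinearEquiv.ofInjectiveEndo L hL, LinearEquiv.ofInjectiveEndo M hM, hg⟩

theorem Pure.inv [Nonempty ι] [Nonempty κ] {g : MV ≃ₗ[F] MV} (h : Pure g) : Pure g⁻¹ := by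
  obtain ⟨L, M, hg⟩ := h.factors
  refine ⟨L.symm.toLinearMap, M.symm.toLinearMap, fun c x => ?_⟩
  show g.symm _ = _
  rw [g.symm_apply_eq, hg]
  simp

/-- Unipotent maps. -/
def Unip (g : Matrix ι κ F ≃ₗ[F] Matrix ι κ F) : Prop :=
  IsNilpotent ((g.toLinearMap : Module.End F (Matrix ι κ F)) - 1)

/-- An overgroup of the tensor product of two orthogonal groups, preserving the symmetric form. -/
structure OO (f1 : (ι → F) → (ι → F) → F) (f2 : (κ → F) → (κ → F) → F)
    (f : Matrix ι κ F → Matrix ι κ F → F) (G : Subgroup (Matrix ι κ F ≃ₗ[F] Matrix ι κ F)) : Prop where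
  h1 : SForm f1
  h2 : SForm f2
  h : SForm f
  f_pure : ∀ c d v w, f (vecMulVec c v) (vecMulVec d w) = f1 c d * f2 v w
  isom : ∀ g ∈ G, ∀ X Y, f (g X) (g Y) = f X Y
  pu : ∀ g, (∀ X Y, f (g X) (g Y) = f X Y) → Pure g → Unip g → g ∈ G
  split : ∀ g h, (∀ X Y, f (g X) (g Y) = f X Y) → Pure g → (∀ X Y, f (h X) (h Y) = f X Y) → Unip h →
    g * h ∈ G → g ∈ G
  a3 : 3 ≤ Fintype.card ι
  ab : Fintype.card ι < Fintype.card κ ∨ (Fintype.card ι = 3 ∧ Fintype.card κ = 3)
  b4 : 5 ≤ Fintype.card κ ∨ ((Fintype.card κ = 4 ∨ Fintype.card κ = 3) ∧ 5 ≤ Nat.card F ∧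
    ∀ P : Submodule F (κ → F), (∀ x ∈ P, f2 x x = 0) → finrank F P ≤ 1)
  odd : Odd (Fintype.card ι) ∨ Odd (Fintype.card κ)
  small : 4 ≤ Fintype.card ι ∨ 5 ≤ Nat.card F
  minus : Fintype.card ι = 4 → ∀ P : Submodule F (ι → F), (∀ x ∈ P, f1 x x = 0) → finrank F P ≤ 1

variable {f1 : (ι → F) → (ι → F) → F} {f2 : (κ → F) → (κ → F) → F}
  {f : Matrix ι κ F → Matrix ι κ F → F} {G : Subgroup (Matrix ι κ F ≃ₗ[F] Matrix ι κ F)}
/-- The isometries of the first factor acting in the group. -/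
def InL (_O : OO f1 f2 f G) (L : (ι → F) →ₗ[F] (ι → F)) : Prop :=
  (∀ c d, f1 (L c) (L d) = f1 c d) ∧ ∃ g ∈ G, ∀ c x, g (vecMulVec c x) = vecMulVec (L c) x

/-- The isometries of the second factor acting in the group. -/
def InR (_O : OO f1 f2 f G) (M : (κ → F) →ₗ[F] (κ → F)) : Prop :=
  (∀ x y, f2 (M x) (M y) = f2 x y) ∧ ∃ g ∈ G, ∀ c x, g (vecMulVec c x) = vecMulVec c (M x)

variable (O : OO f1 f2 f G)
include O

theorem finrank_ι : finrank F (ι → F) = Fintype.card ι := Module.finrank_fintype_fun_eq_card F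

theorem finrank_κ : finrank F (κ → F) = Fintype.card κ := Module.finrank_fintype_fun_eq_card F

theorem hda : 3 ≤ finrank F (ι → F) := by rw [finrank_ι O]; exact O.a3

theorem hdb : 3 ≤ finrank F (κ → F) := by
  rw [finrank_κ O]
  rcases O.b4 with h | ⟨h | h, -⟩ <;> omega

theorem nonempty_ι : Nonempty ι := Fintype.card_pos_iff.1 (by have := O.a3; omega)

theorem nonempty_κ : Nonempty κ := Fintype.card_pos_iff.1 (by rcases O.b4 with h | ⟨h | h, -⟩ <;> omega)

theorem pure_inv {g : MV ≃ₗ[F] MV} (h : Pure g) : Pure g⁻¹ := by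
  haveI := nonempty_ι O
  haveI := nonempty_κ O
  exact h.inv

/-- The contraction with a vector of the second factor. -/
def cv (v : κ → F) : Matrix ι κ F →ₗ[F] (ι → F) where
  toFun X i := f2 (X i) v
  map_add' X Y := funext fun i => O.h2.add_left (X i) (Y i) v
  map_smul' t X := funext fun i => O.h2.smul_left t (X i) v

theorem cv_pure (v : κ → F) (c : ι → F) (x : κ → F) : cv O v (vecMulVec c x) = f2 x v • c := by
  funext i
  show f2 (vecMulVec c x i) v = _
  rw [show vecMulVec c x i = c i • x from rfl, O.h2.smul_left, Pi.smul_apply, smul_eq_mul, mul_comm]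

theorem f_cv (X : MV) (d : ι → F) (v : κ → F) : f X (vecMulVec d v) = f1 (cv O v X) d :=
  ext_pure (A := O.h.lin (vecMulVec d v)) (B := (O.h1.lin d).comp (cv O v)) (fun c x => by
    rw [SForm.lin_apply, O.f_pure, LinearMap.comp_apply, SForm.lin_apply, cv_pure, O.h1.smul_left,
      mul_comm]) X

/-- The contraction with a vector of the first factor. -/
def cw (w : ι → F) : Matrix ι κ F →ₗ[F] (κ → F) where
  toFun X j := f1 (fun i => X i j) w
  map_add' X Y := funext fun j => O.h1.add_left (fun i => X i j) (fun i => Y i j) w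
  map_smul' t X := funext fun j => O.h1.smul_left t (fun i => X i j) w

theorem cw_pure (w : ι → F) (c : ι → F) (x : κ → F) : cw O w (vecMulVec c x) = f1 c w • x := by
  funext j
  show f1 (fun i => c i * x j) w = _
  rw [show (fun i => c i * x j) = x j • c from funext fun i => mul_comm _ _, O.h1.smul_left,
    Pi.smul_apply, smul_eq_mul, mul_comm]

theorem f_cw (X : MV) (w : ι → F) (x : κ → F) : f X (vecMulVec w x) = f2 (cw O w X) x :=
  ext_pure (A := O.h.lin (vecMulVec w x)) (B := (O.h2.lin x).comp (cw O w)) (fun c y => by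
    rw [SForm.lin_apply, O.f_pure, LinearMap.comp_apply, SForm.lin_apply, cw_pure, O.h2.smul_left]) X

theorem cw_cv (w : ι → F) (v : κ → F) (X : MV) : f2 (cw O w X) v = f1 (cv O v X) w :=
  (f_cw O X w v).symm.trans (f_cv O X w v)

theorem cv_smul_vec (t : F) (v : κ → F) (X : MV) : cv O (t • v) X = t • cv O v X :=
  funext fun i => O.h2.smul_right t (X i) v

theorem cv_add_vec (v w : κ → F) (X : MV) : cv O (v + w) X = cv O v X + cv O w X :=
  funext fun i => O.h2.add_right (X i) v w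

theorem cv_sub_vec (v w : κ → F) (X : MV) : cv O (v - w) X = cv O v X - cv O w X :=
  funext fun i => O.h2.sub_right (X i) v w

/-- The vectors perpendicular to the perpendicular of a space of pure tensors lie in it. -/
theorem col_of_perp {e : κ → F} (he : e ≠ 0) {X : MV}
    (h : ∀ Z, cv O e Z = 0 → f X Z = 0) : X ∈ Col e := by
  obtain ⟨P, hP, -⟩ := O.h2.exists_perp_sub (F ∙ e)
  have hPe : ∀ x, x ∈ P → f2 x e = 0 := fun x hx =>
    (hP x).1 hx e (Submodule.mem_span_singleton_self e)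
  obtain ⟨Q', hQ', -⟩ := O.h2.exists_perp_sub P
  have hQd := O.h2.finrank_perp hQ'
  have hPd := O.h2.finrank_perp hP
  rw [finrank_span_singleton he] at hPd
  have hle : F ∙ e ≤ Q' := by
    rw [Submodule.span_singleton_le_iff_mem]
    exact (hQ' e).2 fun w hw => O.h2.symm0 (hPe w hw)
  have heq : F ∙ e = Q' := Submodule.eq_of_le_of_finrank_eq hle (by
    rw [finrank_span_singleton he]
    omega)
  have hrow : ∀ i, X i ∈ F ∙ e := fun i => by
    rw [heq, hQ']
    intro x hx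
    have h1 : ∀ d, f1 (cv O x X) d = 0 := fun d => by
      rw [← f_cv O]
      refine h _ ?_
      rw [cv_pure, hPe x hx, zero_smul]
    exact congrFun (O.h1.nondeg _ h1) i
  choose c hc using fun i => Submodule.mem_span_singleton.1 (hrow i)
  refine mem_col.2 ⟨c, ?_⟩
  ext i j
  rw [vecMulVec_apply, ← hc i]
  rfl

/-- Isometries are determined on pure tensors. -/
theorem isom_of_pure (A : MV →ₗ[F] MV) (hA : ∀ c x d y,
    f (A (vecMulVec c x)) (A (vecMulVec d y)) = f (vecMulVec c x) (vecMulVec d y)) (X Y : MV) :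
    f (A X) (A Y) = f X Y := by
  refine ext_pure (A := (O.h.lin (A Y)).comp A) (B := O.h.lin Y) (fun c x => ?_) X
  show f (A (vecMulVec c x)) (A Y) = f (vecMulVec c x) Y
  rw [O.h.symm (A Y), O.h.symm Y]
  refine ext_pure (A := (O.h.lin (A (vecMulVec c x))).comp A) (B := O.h.lin (vecMulVec c x))
    (fun d y => ?_) Y
  show f (A (vecMulVec d y)) (A (vecMulVec c x)) = f (vecMulVec d y) (vecMulVec c x)
  exact hA d y c x

theorem InR.comp {M M' : (κ → F) →ₗ[F] (κ → F)} (h : InR O M) (h' : InR O M') : InR O (M ∘ₗ M') := by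
  obtain ⟨hi, g, hg, hgX⟩ := h
  obtain ⟨hi', g', hg', hgX'⟩ := h'
  exact ⟨fun x y => (hi _ _).trans (hi' x y), g * g', mul_mem hg hg', fun c x => by
    rw [LinearEquiv.mul_apply, hgX', hgX]; rfl⟩

theorem pu_te {L : (ι → F) ≃ₗ[F] (ι → F)} {M : (κ → F) ≃ₗ[F] (κ → F)}
    (hL : ∀ c d, f1 (L c) (L d) = f1 c d) (hM : ∀ x y, f2 (M x) (M y) = f2 x y)
    (hu : IsNilpotent ((tm L.toLinearMap M.toLinearMap : Module.End F MV) - 1)) : te L M ∈ G := by
  refine O.pu _ (fun X Y => ?_) ⟨L.toLinearMap, M.toLinearMap, te_pure L M⟩ hu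
  refine isom_of_pure O (te L M).toLinearMap (fun c x d y => ?_) X Y
  show f (te L M _) (te L M _) = _
  rw [te_pure, te_pure, O.f_pure, O.f_pure, hL, hM]

theorem inl_eich {η θ : ι → F} (h : f1 η η = 0) (h' : f1 η θ = 0) : InL O (eich O.h1 η θ) := by
  have h'' : f1 η (-θ) = 0 := by rw [O.h1.neg_right, h', neg_zero]
  let L : (ι → F) ≃ₗ[F] (ι → F) := LinearEquiv.ofLinearMap (eich O.h1 η θ) (eich O.h1 η (-θ))
    (LinearMap.ext fun x => by
      show eich O.h1 η θ (eich O.h1 η (-θ) x) = x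
      rw [eich_mul O.h1 h h' h'', add_neg_cancel, eich_zero])
    (LinearMap.ext (eich_inv O.h1 h h'))
  refine ⟨eich_isom O.h1 h h', te L (LinearEquiv.refl F _), pu_te O (eich_isom O.h1 h h')
    (fun _ _ => rfl) ?_, fun c x => te_pure _ _ c x⟩
  have := IsNilpotent.map (⟨3, eich_cube O.h1 h h'⟩ :
    IsNilpotent ((eich O.h1 η θ : Module.End F (ι → F)) - 1)) (tmL (κ := κ))
  rw [map_sub, map_one] at this
  exact this

theorem inr_eich {η θ : κ → F} (h : f2 η η = 0) (h' : f2 η θ = 0) : InR O (eich O.h2 η θ) := by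
  have h'' : f2 η (-θ) = 0 := by rw [O.h2.neg_right, h', neg_zero]
  let M : (κ → F) ≃ₗ[F] (κ → F) := LinearEquiv.ofLinearMap (eich O.h2 η θ) (eich O.h2 η (-θ))
    (LinearMap.ext fun x => by
      show eich O.h2 η θ (eich O.h2 η (-θ) x) = x
      rw [eich_mul O.h2 h h' h'', add_neg_cancel, eich_zero])
    (LinearMap.ext (eich_inv O.h2 h h'))
  refine ⟨eich_isom O.h2 h h', te (LinearEquiv.refl F _) M, pu_te O (fun _ _ => rfl)
    (eich_isom O.h2 h h') ?_, fun c x => te_pure _ _ c x⟩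
  have := IsNilpotent.map (⟨3, eich_cube O.h2 h h'⟩ :
    IsNilpotent ((eich O.h2 η θ : Module.End F (κ → F)) - 1)) (tmR (ι := ι))
  rw [map_sub, map_one] at this
  exact this

theorem inl_cv {L : (ι → F) →ₗ[F] (ι → F)} {g : MV ≃ₗ[F] MV}
    (hg : ∀ c x, g (vecMulVec c x) = vecMulVec (L c) x) (v : κ → F) (X : MV) :
    cv O v (g X) = L (cv O v X) := by
  refine ext_pure (A := cv O v ∘ₗ g.toLinearMap) (B := L ∘ₗ cv O v) (fun c x => ?_) X
  show cv O v (g (vecMulVec c x)) = L (cv O v (vecMulVec c x))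
  rw [hg, cv_pure, cv_pure, map_smul]

theorem inr_cv {M : (κ → F) →ₗ[F] (κ → F)} (hM : ∀ x y, f2 (M x) (M y) = f2 x y)
    {g : MV ≃ₗ[F] MV} (hg : ∀ c x, g (vecMulVec c x) = vecMulVec c (M x)) (v : κ → F) (X : MV) :
    cv O (M v) (g X) = cv O v X := by
  refine ext_pure (A := cv O (M v) ∘ₗ g.toLinearMap) (B := cv O v) (fun c x => ?_) X
  show cv O (M v) (g (vecMulVec c x)) = cv O v (vecMulVec c x)
  rw [hg, cv_pure, cv_pure, hM]

/-- A singular vector of the second factor moves to a multiple of a singular vector not perpendicular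
to it. -/
theorem inr_step [Finite F] {e y : κ → F} (he : f2 e e = 0) (hy : f2 y y = 0) (hey : f2 e y ≠ 0) :
    ∃ M, InR O M ∧ ∃ t : F, t ≠ 0 ∧ M e = t • y := by
  set e' := (f2 e y)⁻¹ • y with he'd
  have he' : f2 e' e' = 0 := by simp [he'd, O.h2.smul_left, O.h2.smul_right, hy]
  have h : f2 e e' = 1 := by rw [he'd, O.h2.smul_right, inv_mul_cancel₀ hey]
  obtain ⟨z, hz, hzz⟩ := exists_aniso_pairPerp O.h2 (hdb O) he he' h
  obtain ⟨hz1, hz2⟩ := (mem_pairPerp O.h2).1 hz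
  refine ⟨_, (inr_eich O he (θ := (f2 z z / 2)⁻¹ • z) (by
    rw [O.h2.smul_right, O.h2.symm0 hz1, mul_zero])).comp O (inr_eich O he' (O.h2.symm0 hz2)),
    -(f2 z z / 2) * (f2 e y)⁻¹,
    mul_ne_zero (neg_ne_zero.2 (div_ne_zero hzz O.h2.two)) (inv_ne_zero hey), ?_⟩
  show eich O.h2 e _ (eich O.h2 e' z e) = _
  rw [eich_swap O.h2 he h hz hzz, he'd, smul_smul]

/-- Singular points of the second factor are conjugate in the group. -/
theorem inr_move [Finite F] {e e₁ : κ → F} (he0 : e ≠ 0) (he : f2 e e = 0) (he₁0 : e₁ ≠ 0)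
    (he₁ : f2 e₁ e₁ = 0) : ∃ M, InR O M ∧ ∃ t : F, t ≠ 0 ∧ M e = t • e₁ := by
  by_cases h0 : f2 e e₁ ≠ 0
  · exact inr_step O he he₁ h0
  rw [not_not] at h0
  obtain ⟨y, hy, hey, he₁y⟩ : ∃ y, f2 y y = 0 ∧ f2 e y ≠ 0 ∧ f2 e₁ y ≠ 0 := by
    obtain ⟨e', he', h⟩ := exists_pair O.h2 he0 he
    by_cases h1 : f2 e₁ e' = 0
    · have HR := O.h2.restrict (pairPerp_nondeg O.h2 he he' h)
      obtain ⟨g, hg, heg⟩ := exists_pair HR
        (e := ⟨e₁, (mem_pairPerp O.h2).2 ⟨O.h2.symm0 h0, h1⟩⟩)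
        (fun e => he₁0 (congrArg Subtype.val e)) he₁
      obtain ⟨hg1, hg2⟩ := (mem_pairPerp O.h2).1 g.2
      change f2 (g : κ → F) g = 0 at hg
      change f2 e₁ (g : κ → F) = 1 at heg
      refine ⟨e' + g, ?_, ?_, ?_⟩
      · simp [O.h2.add_left, O.h2.add_right, he', hg, hg2, O.h2.symm0 hg2]
      · simp [O.h2.add_right, h, O.h2.symm0 hg1]
      · simp [O.h2.add_right, h1, heg]
    · exact ⟨e', he', by rw [h]; exact one_ne_zero, h1⟩
  obtain ⟨M, hM, t, ht, hMe⟩ := inr_step O he hy hey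
  obtain ⟨M', hM', t', ht', hMy⟩ := inr_step O hy he₁ (fun h => he₁y (O.h2.symm0 h))
  exact ⟨M' ∘ₗ M, hM'.comp O hM, t * t', mul_ne_zero ht ht', by
    rw [LinearMap.comp_apply, hMe, map_smul, hMy, smul_smul]⟩

end CfsgLib.MaxSub.TensorOO
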