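/-
The monoid generated by two quadratic unipotent maps: it is unipotent, or it has an involution
centralising both.
-/
import Cfsg.Agent.Lib.MaxSub.TensorSympOrth.Involution

set_option autoImplicit false
set_option maxHeartbeats 1000000
set_option linter.unusedSectionVars false

namespace CfsgLib.MaxSub.TensorOO

open Module
open CfsgLib.MaxSub.TensorSympOrth (upR loR pairGrp pairGrp_induction exists_involution)

variable {F : Type*} [Field F] {V : Type*} [AddCommGroup V] [Module F V]

/-- The descending flag. -/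
def Fl (a b : Module.End F V) (W : Submodule F V) : ℕ → Submodule F V
  | 0 => W
  | i + 1 => (Fl a b W i).map a ⊔ (Fl a b W i).map b

/-- Lowering the flag. -/
def Low (a b : Module.End F V) (W : Submodule F V) (g : Module.End F V) : Prop :=
  ∀ i, ∀ x ∈ Fl a b W i, g x - x ∈ Fl a b W (i + 1)

variable {a b : Module.End F V} {W : Submodule F V}

theorem Fl_anti (ha : ∀ x ∈ W, a x ∈ W) (hb : ∀ x ∈ W, b x ∈ W) :
    ∀ i, Fl a b W (i + 1) ≤ Fl a b W i
  | 0 => sup_le (Submodule.map_le_iff_le_comap.2 fun x hx => ha x hx)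
      (Submodule.map_le_iff_le_comap.2 fun x hx => hb x hx)
  | i + 1 => sup_le_sup (Submodule.map_mono (Fl_anti ha hb i)) (Submodule.map_mono (Fl_anti ha hb i))

theorem low_one : Low a b W 1 := fun i x _ => by
  rw [Module.End.one_apply, sub_self]
  exact zero_mem _

theorem low_left : Low a b W (1 + a) := fun i x hx => by
  rw [LinearMap.add_apply, Module.End.one_apply, add_sub_cancel_left]
  exact Submodule.mem_sup_left ⟨x, hx, rfl⟩

theorem low_right : Low a b W (1 + b) := fun i x hx => by
  rw [LinearMap.add_apply, Module.End.one_apply, add_sub_cancel_left]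
  exact Submodule.mem_sup_right ⟨x, hx, rfl⟩

theorem Low.mul (ha : ∀ x ∈ W, a x ∈ W) (hb : ∀ x ∈ W, b x ∈ W) {g h : Module.End F V}
    (hg : Low a b W g) (hh : Low a b W h) : Low a b W (g * h) := fun i x hx => by
  have h1 := hh i x hx
  have h2 : h x ∈ Fl a b W i := by
    simpa using add_mem (Fl_anti ha hb i h1) hx
  rw [Module.End.mul_apply, ← sub_add_sub_cancel (g (h x)) (h x) x]
  exact add_mem (hg i _ h2) h1

theorem map_mul' (f g : Module.End F V) (S : Submodule F V) : (S.map g).map f = S.map (f * g) :=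
  (Submodule.map_comp g f S).symm

theorem aba_eq (ha : a * a = 0) : a * b * a = (a * b + b * a) * a := by
  rw [add_mul, mul_assoc b, ha, mul_zero, add_zero]

theorem comm_left (ha : a * a = 0) : a * (a * b + b * a) = (a * b + b * a) * a := by
  rw [mul_add, add_mul, ← mul_assoc a a, ha, zero_mul, zero_add, mul_assoc b a a, ha, mul_zero,
    add_zero, mul_assoc]

/-- The flag of a space killed by a power of the anticommutator ends in zero. -/
theorem Fl_bot (ha : a * a = 0) (hb : b * b = 0) (haW : ∀ x ∈ W, a x ∈ W) (hbW : ∀ x ∈ W, b x ∈ W)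
    {n : ℕ} (hn : ∀ x ∈ W, ((a * b + b * a) ^ n) x = 0) : Fl a b W (2 * n + 1) = ⊥ := by
  set c := a * b + b * a with hc
  have hca : a * c = c * a := comm_left ha
  have hcb : b * c = c * b := by rw [hc, add_comm (a * b)]; exact comm_left hb
  have hbab : b * a * b = c * b := by rw [hc, add_comm (a * b)]; exact aba_eq hb
  have haba : a * b * a = c * a := aba_eq ha
  have hcaj : ∀ j, a * c ^ j = c ^ j * a := fun j => (Commute.pow_right hca j : Commute a (c ^ j))
  have hcbj : ∀ j, b * c ^ j = c ^ j * b := fun j => (Commute.pow_right hcb j : Commute b (c ^ j))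
  have key : ∀ j, Fl a b W (2 * j + 1) ≤ W.map (c ^ j * a) ⊔ W.map (c ^ j * b) := by
    intro j
    induction j with
    | zero => rw [pow_zero, one_mul, one_mul]; exact le_refl _
    | succ j ih =>
      have z1 : a * (c ^ j * a) = 0 := by rw [← mul_assoc, hcaj, mul_assoc, ha, mul_zero]
      have z2 : b * (c ^ j * b) = 0 := by rw [← mul_assoc, hcbj, mul_assoc, hb, mul_zero]
      have e1 : a * (b * (c ^ j * a)) = c ^ (j + 1) * a := by
        rw [← mul_assoc b, hcbj, mul_assoc (c ^ j), ← mul_assoc a, hcaj, mul_assoc (c ^ j),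
          ← mul_assoc a, haba, ← mul_assoc, pow_succ]
      have e2 : b * (a * (c ^ j * b)) = c ^ (j + 1) * b := by
        rw [← mul_assoc a, hcaj, mul_assoc (c ^ j), ← mul_assoc b, hcbj, mul_assoc (c ^ j),
          ← mul_assoc b, hbab, ← mul_assoc, pow_succ]
      have h2 : Fl a b W (2 * j + 2) ≤ W.map (a * (c ^ j * b)) ⊔ W.map (b * (c ^ j * a)) := by
        refine sup_le ?_ ?_
        · refine (Submodule.map_mono ih).trans ?_
          rw [Submodule.map_sup, map_mul', map_mul', z1, Submodule.map_zero, bot_sup_eq]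
          exact le_sup_left
        · refine (Submodule.map_mono ih).trans ?_
          rw [Submodule.map_sup, map_mul', map_mul', z2, Submodule.map_zero, sup_bot_eq]
          exact le_sup_right
      show (Fl a b W (2 * j + 2)).map a ⊔ (Fl a b W (2 * j + 2)).map b ≤ _
      refine sup_le ((Submodule.map_mono h2).trans ?_) ((Submodule.map_mono h2).trans ?_)
      · rw [Submodule.map_sup, map_mul', map_mul', e1, ← mul_assoc a a, ha, zero_mul,
          Submodule.map_zero, bot_sup_eq]
        exact le_sup_left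
      · rw [Submodule.map_sup, map_mul', map_mul', e2, ← mul_assoc b b, hb, zero_mul,
          Submodule.map_zero, sup_bot_eq]
        exact le_sup_right
  rw [eq_bot_iff]
  refine (key n).trans (sup_le ?_ ?_)
  · rintro _ ⟨x, hx, rfl⟩
    exact (Submodule.mem_bot F).2 (hn _ (haW x hx))
  · rintro _ ⟨x, hx, rfl⟩
    exact (Submodule.mem_bot F).2 (hn _ (hbW x hx))

theorem Low.nil {g : Module.End F V} {n : ℕ} (hg : Low a b W g) (hbot : Fl a b W n = ⊥)
    (haW : ∀ x ∈ W, a x ∈ W) (hbW : ∀ x ∈ W, b x ∈ W) {m : ℕ} (hm : n ≤ m) {x : V} (hx : x ∈ W) :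
    ((g - 1) ^ m) x = 0 := by
  have : ∀ j, ((g - 1) ^ j) x ∈ Fl a b W j := fun j => by
    induction j with
    | zero => rw [pow_zero, Module.End.one_apply]; exact hx
    | succ j ih =>
      rw [pow_succ', Module.End.mul_apply, LinearMap.sub_apply, Module.End.one_apply]
      exact hg j _ ih
  have hanti : ∀ i, Fl a b W (n + i) ≤ ⊥ := fun i => by
    induction i with
    | zero => rw [Nat.add_zero, hbot]
    | succ i ih => exact (Fl_anti haW hbW (n + i)).trans ih
  obtain ⟨i, rfl⟩ := Nat.exists_eq_add_of_le hm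
  exact (Submodule.mem_bot F).1 (hanti i (this (n + i)))

/-- Products of matrices over a commutative centralising subring, in matrix units. -/
theorem units_mul {E : Type*} [Ring E] {x y z w : E} (hxx : x * x = x) (hxy : x * y = y)
    (hxz : x * z = 0) (hxw : x * w = 0) (hyx : y * x = 0) (hyy : y * y = 0) (hyz : y * z = x)
    (hyw : y * w = y) (hzx : z * x = z) (hzy : z * y = w) (hzz : z * z = 0) (hzw : z * w = 0)
    (hwx : w * x = 0) (hwy : w * y = 0) (hwz : w * z = z) (hww : w * w = w)
    (p q r s p' q' r' s' : E) (c1 : ∀ t ∈ ({p', q', r', s'} : Set E), Commute x t)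
    (c2 : ∀ t ∈ ({p', q', r', s'} : Set E), Commute y t)
    (c3 : ∀ t ∈ ({p', q', r', s'} : Set E), Commute z t)
    (c4 : ∀ t ∈ ({p', q', r', s'} : Set E), Commute w t) :
    (p * x + q * y + r * z + s * w) * (p' * x + q' * y + r' * z + s' * w) =
      (p * p' + q * r') * x + (p * q' + q * s') * y + (r * p' + s * r') * z +
        (r * q' + s * s') * w := by
  have m : ∀ (u t v : E), ∀ e : E, Commute e t → u * e * (t * v) = u * t * (e * v) := by
    intro u t v e h
    rw [mul_assoc u e, ← mul_assoc e t v, h.eq, mul_assoc t e v, ← mul_assoc u t]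
  simp only [mul_add, add_mul, m _ _ _ _ (c1 p' (by simp)), m _ _ _ _ (c1 q' (by simp)),
    m _ _ _ _ (c1 r' (by simp)), m _ _ _ _ (c1 s' (by simp)), m _ _ _ _ (c2 p' (by simp)),
    m _ _ _ _ (c2 q' (by simp)), m _ _ _ _ (c2 r' (by simp)), m _ _ _ _ (c2 s' (by simp)),
    m _ _ _ _ (c3 p' (by simp)), m _ _ _ _ (c3 q' (by simp)), m _ _ _ _ (c3 r' (by simp)),
    m _ _ _ _ (c3 s' (by simp)), m _ _ _ _ (c4 p' (by simp)), m _ _ _ _ (c4 q' (by simp)),
    m _ _ _ _ (c4 r' (by simp)), m _ _ _ _ (c4 s' (by simp)), hxx, hxy, hxz, hxw, hyx, hyy, hyz, hyw,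
    hzx, hzy, hzz, hzw, hwx, hwy, hwz, hww, mul_zero, add_zero, zero_add]
  abel

/-- An involution centralising both maps, when the anticommutator is not nilpotent. -/
theorem exists_pair_involution [Fintype F] [FiniteDimensional F V] (h2 : (2 : F) ≠ 0)
    {a b : Module.End F V} (ha : a * a = 0) (hb : b * b = 0) (hc : ¬ IsNilpotent (a * b + b * a))
    (S : Submonoid (Module.End F V)) (hSa : 1 + a ∈ S) (hSb : 1 + b ∈ S) :
    ∃ h ∈ S, h * h = 1 ∧ h ≠ 1 ∧ h * a = a * h ∧ h * b = b * h ∧
      ∀ x, h x = -x → (a * b + b * a) x = 0 → x = 0 := by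
  classical
  set c := a * b + b * a with hcdef
  have hca : a * c = c * a := comm_left ha
  have hcb : b * c = c * b := by rw [hcdef, add_comm (a * b)]; exact comm_left hb
  set n := finrank F V
  set V0 := LinearMap.ker (c ^ n) with hV0
  set V1 := LinearMap.range (c ^ n) with hV1
  have haj : ∀ j x, a ((c ^ j) x) = (c ^ j) (a x) := fun j x =>
    LinearMap.congr_fun (Commute.pow_right hca j : Commute a (c ^ j)).eq x
  have hbj : ∀ j x, b ((c ^ j) x) = (c ^ j) (b x) := fun j x =>
    LinearMap.congr_fun (Commute.pow_right hcb j : Commute b (c ^ j)).eq x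
  have ha0 : ∀ x ∈ V0, a x ∈ V0 := fun x hx => by
    rw [hV0, LinearMap.mem_ker] at hx ⊢
    rw [← haj, hx, map_zero]
  have hb0 : ∀ x ∈ V0, b x ∈ V0 := fun x hx => by
    rw [hV0, LinearMap.mem_ker] at hx ⊢
    rw [← hbj, hx, map_zero]
  have ha1 : ∀ x ∈ V1, a x ∈ V1 := by
    rintro _ ⟨y, rfl⟩
    exact ⟨a y, (haj n y).symm⟩
  have hb1 : ∀ x ∈ V1, b x ∈ V1 := by
    rintro _ ⟨y, rfl⟩
    exact ⟨b y, (hbj n y).symm⟩
  have hdisj : V0 ⊓ V1 = ⊥ := (Submodule.eq_bot_iff _).2 fun x hx => by
    obtain ⟨y, rfl⟩ := hx.2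
    have h : y ∈ LinearMap.ker (c ^ (n + n)) := by
      rw [LinearMap.mem_ker, pow_add, Module.End.mul_apply]
      exact hx.1
    rw [Module.End.ker_pow_eq_ker_pow_finrank_of_le (by omega)] at h
    exact h
  have hsup : V0 ⊔ V1 = ⊤ := by
    refine Submodule.eq_top_of_finrank_eq ?_
    have h1 := Submodule.finrank_sup_add_finrank_inf_eq V0 V1
    rw [hdisj, finrank_bot] at h1
    have h3 : finrank F V1 + finrank F V0 = finrank F V :=
      LinearMap.finrank_range_add_finrank_ker (c ^ n)
    omega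
  have hV1ne : V1 ≠ ⊥ := fun h => hc ⟨n, LinearMap.range_eq_bot.1 h⟩
  haveI : Nontrivial V1 := Submodule.nontrivial_iff_ne_bot.2 hV1ne
  let a1 : Module.End F V1 := a.restrict ha1
  let b1 : Module.End F V1 := b.restrict hb1
  let c1 : Module.End F V1 := a1 * b1 + b1 * a1
  have hc1v : ∀ x : V1, ((c1 x : V1) : V) = c x := fun x => rfl
  have hca1 : a1 * a1 = 0 := LinearMap.ext fun x => Subtype.ext (LinearMap.congr_fun ha (x : V))
  have hcb1 : b1 * b1 = 0 := LinearMap.ext fun x => Subtype.ext (LinearMap.congr_fun hb (x : V))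
  have hc1inj : ∀ x : V1, c1 x = 0 → x = 0 := fun x hx => by
    have h : (c x : V) = 0 := by rw [← hc1v, hx]; rfl
    refine Subtype.ext ((Submodule.mem_bot F).1 (hdisj ▸ ⟨?_, x.2⟩))
    rcases Nat.eq_zero_or_pos n with h0 | hn
    · exfalso
      have : Subsingleton V := Module.finrank_zero_iff.1 (show finrank F V = 0 from h0)
      exact hV1ne ((Submodule.eq_bot_iff _).2 fun y _ => Subsingleton.elim y 0)
    rw [hV0]
    show (c ^ n) (x : V) = 0
    rw [← Nat.sub_add_cancel hn, pow_succ, Module.End.mul_apply, h, map_zero]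
  haveI : Finite V1 := Module.finite_of_finite F
  haveI : Finite (Module.End F V1) :=
    Finite.of_injective (fun f : Module.End F V1 => (f : V1 → V1)) DFunLike.coe_injective
  set R := Algebra.adjoin F ({c1} : Set (Module.End F V1)) with hR
  letI : CommRing R := Algebra.instCommRingAdjoinSingleton c1
  have hcen : ∀ r ∈ R, Commute a1 r ∧ Commute b1 r := by
    intro r hr
    have h : R ≤ Subalgebra.centralizer F ({a1, b1} : Set (Module.End F V1)) := by
      refine Algebra.adjoin_le ?_
      rintro _ rfl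
      show c1 ∈ Subalgebra.centralizer F _
      rw [Subalgebra.mem_centralizer_iff]
      rintro g (rfl | rfl)
      · exact comm_left hca1
      · show b1 * (a1 * b1 + b1 * a1) = (a1 * b1 + b1 * a1) * b1
        rw [add_comm (a1 * b1)]
        exact comm_left hcb1
    have := Subalgebra.mem_centralizer_iff F |>.1 (h hr)
    exact ⟨this a1 (Set.mem_insert _ _), this b1 (Set.mem_insert_of_mem _ rfl)⟩
  let φ : R := ⟨c1, Algebra.subset_adjoin rfl⟩
  haveI : Nontrivial R := ⟨⟨0, 1, fun h => zero_ne_one (congrArg Subtype.val h)⟩⟩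
  have hinj : Function.Injective fun r : R => φ * r := fun r s hrs => Subtype.ext
    (LinearMap.ext fun x => sub_eq_zero.1 (hc1inj _ (by
      rw [map_sub, sub_eq_zero]
      exact LinearMap.congr_fun (congrArg Subtype.val hrs) x)))
  obtain ⟨d, hd⟩ := (Finite.injective_iff_surjective.1 hinj) 1
  have hd' : φ * d = 1 := hd
  have hcd : c1 * (d : Module.End F V1) = 1 := congrArg Subtype.val hd'
  have hdc : (d : Module.End F V1) * c1 = 1 :=
    congrArg Subtype.val (show d * φ = 1 by rw [mul_comm]; exact hd')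
  have hda : ∀ t, a1 * ((d : Module.End F V1) * t) = d * (a1 * t) := fun t => by
    rw [← mul_assoc, (hcen _ d.2).1.eq, mul_assoc]
  have hdb : ∀ t, b1 * ((d : Module.End F V1) * t) = d * (b1 * t) := fun t => by
    rw [← mul_assoc, (hcen _ d.2).2.eq, mul_assoc]
  have haba : a1 * (b1 * a1) = c1 * a1 := by rw [← mul_assoc]; exact aba_eq hca1
  have hbab : b1 * (a1 * b1) = c1 * b1 := by
    rw [← mul_assoc]
    exact (aba_eq hcb1).trans (by rw [add_comm])
  have hDc : ∀ t, (d : Module.End F V1) * (c1 * t) = t := fun t => by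
    rw [← mul_assoc, hdc, one_mul]
  have hA : ∀ t, a1 * (a1 * t) = 0 := fun t => by rw [← mul_assoc, hca1, zero_mul]
  have hB : ∀ t, b1 * (b1 * t) = 0 := fun t => by rw [← mul_assoc, hcb1, zero_mul]
  have habat : ∀ t, a1 * (b1 * (a1 * t)) = c1 * (a1 * t) := fun t => by
    rw [← mul_assoc b1, ← mul_assoc a1, haba, mul_assoc]
  have hbabt : ∀ t, b1 * (a1 * (b1 * t)) = c1 * (b1 * t) := fun t => by
    rw [← mul_assoc a1, ← mul_assoc b1, hbab, mul_assoc]
  set e11 := (d : Module.End F V1) * (a1 * b1) with he11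
  set e21 := (d : Module.End F V1) * b1 with he21
  set e22 := (d : Module.End F V1) * (b1 * a1) with he22
  have hone : e11 + e22 = 1 := by rw [he11, he22, ← mul_add]; exact hdc
  let Φ : Matrix (Fin 2) (Fin 2) R → Module.End F V1 := fun m =>
    (m 0 0 : Module.End F V1) * e11 + (m 0 1 : Module.End F V1) * a1 +
      (m 1 0 : Module.End F V1) * e21 + (m 1 1 : Module.End F V1) * e22
  have hcomm : ∀ r : R, Commute e11 (r : Module.End F V1) ∧ Commute a1 (r : Module.End F V1) ∧
      Commute e21 (r : Module.End F V1) ∧ Commute e22 (r : Module.End F V1) := fun r => by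
    have hdr : Commute (d : Module.End F V1) (r : Module.End F V1) :=
      congrArg Subtype.val (mul_comm d r)
    obtain ⟨h1, h3⟩ := hcen _ r.2
    exact ⟨hdr.mul_left (h1.mul_left h3), h1, hdr.mul_left h3, hdr.mul_left (h3.mul_left h1)⟩
  have hΦmul : ∀ m m' : Matrix (Fin 2) (Fin 2) R, Φ (m * m') = Φ m * Φ m' := fun m m' => by
    simp only [Φ, Matrix.mul_apply, Fin.sum_univ_two, Subalgebra.coe_add, Subalgebra.coe_mul]
    symm
    refine units_mul ?_ ?_ ?_ ?_ ?_ ?_ ?_ ?_ ?_ ?_ ?_ ?_ ?_ ?_ ?_ ?_ _ _ _ _ _ _ _ _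
      (fun t ht => ?_) (fun t ht => ?_) (fun t ht => ?_) (fun t ht => ?_)
    all_goals try simp only [he11, he21, he22, mul_assoc, hda, hdb, hA, hB, habat, hbabt, haba, hbab,
      hca1, hcb1, hDc, mul_zero]
    all_goals rcases ht with rfl | rfl | rfl | rfl
    all_goals first
      | exact (hcomm _).1
      | exact (hcomm _).2.1
      | exact (hcomm _).2.2.1
      | exact (hcomm _).2.2.2
  obtain ⟨m, hm, α, hαα, hα1, hmα, hmm⟩ := exists_involution (F := F) h2 (φ := φ)
    (IsUnit.of_mul_eq_one d hd')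
  let Pr : Matrix.SpecialLinearGroup (Fin 2) R → Prop := fun m =>
    ∃ g ∈ S, (∀ x : V1, g x = ((Φ m.1 x : V1) : V)) ∧ Low a b V0 g
  have hPr : Pr m := by
    refine pairGrp_induction (P := Pr) ⟨1, one_mem S, fun x => ?_, low_one⟩ ?_
      ⟨1 + a, hSa, fun x => ?_, low_left⟩ ⟨1 + b, hSb, fun x => ?_, low_right⟩ hm
    · have : Φ (1 : Matrix (Fin 2) (Fin 2) R) = 1 := by simp [Φ, hone]
      rw [Matrix.SpecialLinearGroup.coe_one, this]
      rfl
    · rintro u v ⟨g, hg, hgx, hgl⟩ ⟨g', hg', hgx', hgl'⟩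
      refine ⟨g * g', mul_mem hg hg', fun x => ?_, hgl.mul ha0 hb0 hgl'⟩
      rw [Module.End.mul_apply, hgx', hgx, Matrix.SpecialLinearGroup.coe_mul, hΦmul]
      rfl
    · have : Φ (upR (1 : R)).1 = 1 + a1 := by
        simp [Φ, upR]
        rw [← hone]
        abel
      rw [this]
      rfl
    · have : Φ (loR φ).1 = 1 + b1 := by
        have e : c1 * e21 = b1 := by rw [he21, ← mul_assoc, hcd, one_mul]
        simp [Φ, loR, φ, e]
        rw [← hone]
        abel
      rw [this]
      rfl
  obtain ⟨g, hg, hgx, hgl⟩ := hPr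
  obtain ⟨p, hp⟩ := CharP.exists F
  have : Fact p.Prime := ⟨CharP.char_is_prime F p⟩
  have hp2 : p ≠ 2 := fun e => h2 (by
    subst e
    exact_mod_cast CharP.cast_eq_zero F 2)
  haveI : Nontrivial V := (Subtype.val_injective (p := (· ∈ V1))).nontrivial
  have : CharP (Module.End F V) p :=
    charP_of_injective_algebraMap (algebraMap F (Module.End F V)).injective p
  set k := 2 * n + 1
  set N := p ^ k with hN
  have hkN : 2 * n + 1 ≤ N := (Nat.lt_pow_self (Fact.out : p.Prime).one_lt).le
  have hNodd : Odd N := ((Fact.out : p.Prime).odd_of_ne_two hp2).pow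
  have h0 : ∀ x ∈ V0, (g ^ N) x = x := fun x hx => by
    have e := sub_pow_char_pow_of_commute (p := p) (n := k) (Commute.one_right g)
    have e2 := hgl.nil (Fl_bot ha hb ha0 hb0 (fun y hy => hy)) ha0 hb0 hkN hx
    rw [hN, e, one_pow, LinearMap.sub_apply, Module.End.one_apply, sub_eq_zero] at e2
    exact e2
  have hΦm : Φ m.1 = (α : Module.End F V1) := by
    simp [Φ, hmα, ← mul_add, hone]
  have h1 : ∀ x : V1, (g ^ N) x = (((α : Module.End F V1) x : V1) : V) := by
    have hpow : ∀ j, ∀ x : V1, (g ^ j) x = ((((α : Module.End F V1) ^ j) x : V1) : V) := by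
      intro j
      induction j with
      | zero => intro x; rfl
      | succ j ih =>
        intro x
        rw [pow_succ', pow_succ', Module.End.mul_apply, ih, hgx, hΦm]
        rfl
    intro x
    rw [hpow]
    obtain ⟨i, hi⟩ := hNodd
    have : (α : Module.End F V1) ^ N = α := by
      rw [hi, pow_add, pow_mul, pow_two, show (α : Module.End F V1) * α = 1 from
        congrArg Subtype.val hαα, one_pow, one_mul, pow_one]
    rw [this]
  have hdec : ∀ x, ∃ u ∈ V0, ∃ w : V1, x = u + (w : V) := fun x => by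
    obtain ⟨u, hu, w, hw, rfl⟩ := Submodule.mem_sup.1 (show x ∈ V0 ⊔ V1 by rw [hsup]; trivial)
    exact ⟨u, hu, ⟨w, hw⟩, rfl⟩
  refine ⟨g ^ N, pow_mem hg N, ?_, ?_, ?_, ?_, ?_⟩
  · refine LinearMap.ext fun x => ?_
    obtain ⟨u, hu, w, rfl⟩ := hdec x
    rw [Module.End.mul_apply, map_add, map_add, h0 u hu, h0 u hu, h1, h1]
    congr 1
    exact congrArg Subtype.val (LinearMap.congr_fun (congrArg Subtype.val hαα) w)
  · intro e
    refine hα1 (Subtype.ext (LinearMap.ext fun x => Subtype.ext ?_))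
    rw [← h1, e]
    rfl
  · refine LinearMap.ext fun x => ?_
    obtain ⟨u, hu, w, rfl⟩ := hdec x
    rw [Module.End.mul_apply, Module.End.mul_apply, map_add, map_add, map_add, map_add, h0 u hu,
      h0 _ (ha0 u hu), h1, show a (w : V) = ((a1 w : V1) : V) from rfl, h1]
    congr 1
    exact congrArg Subtype.val (LinearMap.congr_fun (hcen _ α.2).1.eq w).symm
  · refine LinearMap.ext fun x => ?_
    obtain ⟨u, hu, w, rfl⟩ := hdec x
    rw [Module.End.mul_apply, Module.End.mul_apply, map_add, map_add, map_add, map_add, h0 u hu,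
      h0 _ (hb0 u hu), h1, show b (w : V) = ((b1 w : V1) : V) from rfl, h1]
    congr 1
    exact congrArg Subtype.val (LinearMap.congr_fun (hcen _ α.2).2.eq w).symm
  · intro x hx hcx
    obtain ⟨u, hu, w, rfl⟩ := hdec x
    rw [map_add, h0 u hu, h1] at hx
    have hu0 : u = 0 := by
      have hmem : u + u ∈ V0 ⊓ V1 := ⟨add_mem hu hu, by
        have e : u + u = -((w : V) + (((α : Module.End F V1) w : V1) : V)) := by
          linear_combination (norm := module) hx
        rw [e]
        exact V1.neg_mem (V1.add_mem w.2 ((α : Module.End F V1) w).2)⟩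
      rw [hdisj, Submodule.mem_bot, ← two_smul F] at hmem
      exact (smul_eq_zero.1 hmem).resolve_left h2
    rw [hu0, zero_add] at hcx ⊢
    have : w = 0 := hc1inj w (Subtype.ext (by rw [hc1v]; exact hcx))
    rw [this, Submodule.coe_zero]

end CfsgLib.MaxSub.TensorOO
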