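/-
A commuting set of symmetric maps invariant under all Eichler transformations consists of scalars.
-/
import Cfsg.Agent.Lib.MaxSub.TensorOO.Forms

set_option autoImplicit false
set_option maxHeartbeats 400000
set_option linter.unusedSectionVars false

namespace CfsgLib.MaxSub.TensorOO

open Module
open CfsgLib.MaxSub.TensorSympOrth (SForm)

variable {F : Type*} [Field F] {U : Type*} [AddCommGroup U] [Module F U] {f : U → U → F}

/-- The difference with the conjugate by an Eichler transformation. -/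
def dconj (H : SForm f) (η θ : U) : Module.End F (Module.End F U) :=
  LinearMap.mulLeft F (eich H η (-θ) : Module.End F U) *
    LinearMap.mulRight F (eich H η θ : Module.End F U) - 1

variable (H : SForm f)
include H

theorem dconj_apply (η θ : U) (S : Module.End F U) :
    dconj H η θ S = (eich H η (-θ) : Module.End F U) * (S * eich H η θ) - S := rfl

theorem dconj_scalar {η θ : U} (h : f η η = 0) (h' : f η θ = 0) (c : F) :
    dconj H η θ (c • 1) = 0 := by
  rw [dconj_apply, smul_mul_assoc, one_mul, mul_smul_comm, sub_eq_zero]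
  refine LinearMap.ext fun x => ?_
  show c • eich H η (-θ) (eich H η θ x) = c • x
  rw [eich_inv H h h']

theorem dconj_comm {η θ θ' : U} (h : f η η = 0) (h1 : f η θ = 0) (h2 : f η θ' = 0)
    (S : Module.End F U) : dconj H η θ (dconj H η θ' S) = dconj H η θ' (dconj H η θ S) := by
  have h1' : f η (-θ) = 0 := by rw [H.neg_right, h1, neg_zero]
  have h2' : f η (-θ') = 0 := by rw [H.neg_right, h2, neg_zero]
  have e1 : (eich H η θ' : Module.End F U) * eich H η θ = eich H η θ * eich H η θ' :=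
    LinearMap.ext fun x => by
      show eich H η θ' (eich H η θ x) = eich H η θ (eich H η θ' x)
      rw [eich_mul H h h1 h2, eich_mul H h h2 h1, add_comm]
  have e2 : (eich H η (-θ') : Module.End F U) * eich H η (-θ) = eich H η (-θ) * eich H η (-θ') :=
    LinearMap.ext fun x => by
      show eich H η (-θ') (eich H η (-θ) x) = eich H η (-θ) (eich H η (-θ') x)
      rw [eich_mul H h h1' h2', eich_mul H h h2' h1', add_comm]
  simp only [dconj_apply, mul_sub, sub_mul]
  simp only [mul_assoc, e1]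
  simp only [← mul_assoc, e2]
  abel

theorem dconj_nilpotent {η θ : U} (h : f η η = 0) (h' : f η θ = 0) :
    IsNilpotent (dconj H η θ) := by
  set a : Module.End F U := eich H η (-θ)
  set b : Module.End F U := eich H η θ
  have ha : IsNilpotent (a - 1) := ⟨3, eich_cube H h (by rw [H.neg_right, h', neg_zero])⟩
  have hb : IsNilpotent (b - 1) := ⟨3, eich_cube H h h'⟩
  have e : dconj H η θ = LinearMap.mulLeft F (a - 1) * LinearMap.mulRight F b +
      LinearMap.mulRight F (b - 1) := LinearMap.ext fun S => by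
    rw [dconj_apply]
    show a * (S * b) - S = (a - 1) * (S * b) + S * (b - 1)
    noncomm_ring
  have c1 : ∀ A B : Module.End F U,
      Commute (LinearMap.mulLeft F A) (LinearMap.mulRight F B) :=
    fun A B => LinearMap.commute_mulLeft_right A B
  rw [e]
  refine Commute.isNilpotent_add ?_ (Commute.isNilpotent_mul_right (c1 _ _) ?_) ?_
  · refine Commute.mul_left (c1 _ _) ?_
    refine LinearMap.ext fun S => ?_
    show S * (b - 1) * b = S * b * (b - 1)
    noncomm_ring
  · obtain ⟨k, hk⟩ := ha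
    exact ⟨k, by rw [LinearMap.pow_mulLeft, hk, LinearMap.mulLeft_zero_eq_zero]⟩
  · obtain ⟨k, hk⟩ := hb
    exact ⟨k, by rw [LinearMap.pow_mulRight, hk, LinearMap.mulRight_zero_eq_zero]⟩

variable [FiniteDimensional F U] [Finite F]

/-- An endomorphism fixed up to scalars by an Eichler group is scalar up to the centre. -/
theorem fixed_shape (hd : 3 ≤ finrank F U) (hsmall : 4 ≤ finrank F U ∨ 5 ≤ Nat.card F) {η ζ : U}
    (hη : f η η = 0) (hζ : f ζ ζ = 0) (h : f η ζ = 1) {S : Module.End F U}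
    (hsym : ∀ x y, f (S x) y = f x (S y))
    (hfix : ∀ θ ∈ pairPerp H η ζ, ∃ c : F, dconj H η θ S = c • 1) :
    ∃ τ υ : F, ∀ x, S x = τ • x + (υ * f x η) • η := by
  set K := pairPerp H η ζ
  have hK : ∀ k ∈ K, f k η = 0 ∧ f k ζ = 0 := fun k hk => (mem_pairPerp H).1 hk
  choose! c hc using hfix
  have E : ∀ θ ∈ K, ∀ x y,
      f (S (eich H η θ x)) (eich H η θ y) = f (S x) y + c θ * f x y := by
    intro θ hθ x y
    have h1 : f η θ = 0 := H.symm0 (hK θ hθ).1
    have h1' : f η (-θ) = 0 := by rw [H.neg_right, h1, neg_zero]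
    have e := LinearMap.congr_fun (hc θ hθ) x
    rw [dconj_apply, LinearMap.sub_apply, LinearMap.smul_apply, Module.End.one_apply,
      Module.End.mul_apply, Module.End.mul_apply, sub_eq_iff_eq_add] at e
    have e2 := eich_isom H hη h1' (S (eich H η θ x)) (eich H η θ y)
    rw [eich_inv H hη h1, e, H.add_left, H.smul_left] at e2
    linear_combination -e2
  have uη : ∀ θ ∈ K, eich H η θ η = η := fun θ hθ => eich_fix H hη (H.symm0 (hK θ hθ).1)
  have uk : ∀ θ ∈ K, ∀ k ∈ K, eich H η θ k = k - f k θ • η := fun θ _ k hk => by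
    rw [eich_apply, (hK k hk).1, zero_smul, mul_zero, zero_smul, zero_sub, sub_zero, sub_eq_add_neg]
  have uζ : ∀ θ ∈ K, eich H η θ ζ = ζ + θ - (f θ θ / 2) • η := fun θ hθ => by
    rw [eich_apply, H.symm η ζ, h, H.symm0 (hK θ hθ).2, mul_one, one_smul, zero_smul, sub_zero]
    abel
  have hs : ∀ x y, f (S x) y = f (S y) x := fun x y => by rw [hsym, H.symm]
  obtain ⟨k₀, hk₀, hk₀n⟩ := exists_aniso_pairPerp H hd hη hζ h
  have hσ : f (S η) η = 0 := by
    have e := E k₀ hk₀ η k₀
    rw [uη k₀ hk₀, uk k₀ hk₀ k₀ hk₀, H.sub_right, H.smul_right, H.symm0 (hK k₀ hk₀).1] at e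
    exact (mul_eq_zero.1 (show f k₀ k₀ * f (S η) η = 0 by linear_combination -e)).resolve_left hk₀n
  have hcθ : ∀ θ ∈ K, c θ = f (S η) θ := fun θ hθ => by
    have e := E θ hθ η ζ
    rw [uη θ hθ, uζ θ hθ, H.sub_right, H.add_right, H.smul_right, hσ, h] at e
    linear_combination -e
  have hkk : ∀ θ ∈ K, ∀ k ∈ K, f k θ = 0 → f (S η) θ * f k k = 0 := fun θ hθ k hk hkθ => by
    have e := E θ hθ k k
    rw [uk θ hθ k hk, hkθ, zero_smul, sub_zero, hcθ θ hθ] at e
    linear_combination -e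
  have hζk : ∀ θ ∈ K, ∀ k ∈ K,
      f (S θ) k - f θ θ / 2 * f (S η) k - f k θ * (f (S η) ζ + f (S η) θ) = 0 := fun θ hθ k hk => by
    have e := E θ hθ ζ k
    rw [uk θ hθ k hk, uζ θ hθ] at e
    simp only [map_add, map_sub, map_smul, H.add_left, H.sub_left, H.sub_right, H.smul_left,
      H.smul_right, hσ, H.symm0 (hK k hk).2, hs ζ η, hs θ η] at e
    linear_combination e
  have hρ : ∀ θ ∈ K, ∀ k ∈ K, f (S θ) k = f k θ * f (S η) ζ := fun θ hθ k hk => by
    have e1 := hζk θ hθ k hk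
    have e2 := hζk (-θ) (K.neg_mem hθ) k hk
    simp only [map_neg, H.neg_left, H.neg_right, neg_neg] at e2
    exact mul_left_cancel₀ H.two (by linear_combination e1 - e2)
  have hψ : ∀ θ ∈ K, 2 * f (S ζ) θ = f θ θ * f (S η) θ := fun θ hθ => by
    have e := E θ hθ ζ ζ
    rw [uζ θ hθ] at e
    simp only [map_add, map_sub, map_smul, H.add_left, H.add_right, H.sub_left, H.sub_right,
      H.smul_left, H.smul_right, hσ, hζ, hs ζ η, hs θ η, hs θ ζ, hρ θ hθ θ hθ] at e
    have := H.two
    field_simp at e ⊢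
    refine mul_left_cancel₀ (mul_ne_zero H.two H.two) ?_
    linear_combination e
  have HR := H.restrict (pairPerp_nondeg H hη hζ h)
  have hφ : ∀ θ ∈ K, f (S η) θ = 0 := by
    have h0 : ∀ θ ∈ K, f θ θ ≠ 0 → f (S η) θ = 0 := by
      intro θ hθ hθθ
      rcases hsmall with h4 | h5
      · obtain ⟨k, hk, hkk', hkθ⟩ := exists_two_pairPerp H h4 hη hζ h hθ hθθ
        exact (mul_eq_zero.1 (hkk θ hθ k hk hkθ)).resolve_right hkk'
      · obtain ⟨t, ht0, ht1⟩ : ∃ t : F, t ≠ 0 ∧ t * t ≠ 1 := by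
          classical
          by_contra hc'
          push Not at hc'
          have : Fintype F := Fintype.ofFinite F
          have hle : (Finset.univ : Finset F) ⊆ {0, 1, -1} := fun t _ => by
            rcases eq_or_ne t 0 with rfl | ht
            · simp
            · rcases mul_self_eq_one_iff.1 (hc' t ht) with rfl | rfl <;> simp
          have hcard := (Finset.card_le_card hle).trans Finset.card_le_three
          rw [Finset.card_univ, ← Nat.card_eq_fintype_card] at hcard
          omega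
        have e1 := hψ θ hθ
        have e2 := hψ (t • θ) (K.smul_mem t hθ)
        rw [H.smul_right t (S ζ), H.smul_right t (S η), H.smul_left, H.smul_right t θ] at e2
        refine (mul_eq_zero.1 (show t * (t * t - 1) * f θ θ * f (S η) θ = 0 by
          linear_combination t * e1 - e2)).resolve_left ?_
        exact mul_ne_zero (mul_ne_zero ht0 (sub_ne_zero.2 ht1)) hθθ
    intro θ hθ
    exact HR.ext_aniso (φ := (H.lin (S η)).comp K.subtype) (ψ := 0)
      (fun a ha => by
        show f (a : U) (S η) = 0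
        exact H.symm0 (h0 a a.2 ha)) ⟨θ, hθ⟩ |> fun e => H.symm0 e
  have hψ0 : ∀ θ ∈ K, f (S ζ) θ = 0 := fun θ hθ => by
    have e := hψ θ hθ
    rw [hφ θ hθ, mul_zero] at e
    exact (mul_eq_zero.1 e).resolve_left H.two
  set τ := f (S η) ζ with hτ
  set υ := f (S ζ) ζ with hυ
  have hext : ∀ z z', f z η = f z' η → f z ζ = f z' ζ → (∀ k ∈ K, f z k = f z' k) → z = z' :=
    fun z z' e1 e2 e3 => H.ext_left fun y => by
      obtain ⟨a, b, k, hk, rfl⟩ := split_pair H hη hζ h y
      simp only [H.add_right, H.smul_right, e1, e2, e3 k hk]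
  refine ⟨τ, υ, fun x => ?_⟩
  have eη : S η = τ • η := hext _ _ (by rw [H.smul_left, hη, mul_zero, hσ])
    (by rw [H.smul_left, h, mul_one]) fun k hk => by
      rw [H.smul_left, H.symm0 (hK k hk).1, mul_zero, hφ k hk]
  have eζ : S ζ = τ • ζ + υ • η := hext _ _
    (by rw [H.add_left, H.smul_left, H.smul_left, hη, H.symm η ζ, h, hs ζ η]; ring)
    (by rw [H.add_left, H.smul_left, H.smul_left, hζ, h]; ring) fun k hk => by
      rw [H.add_left, H.smul_left, H.smul_left, H.symm0 (hK k hk).1, H.symm0 (hK k hk).2, hψ0 k hk]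
      ring
  have ek : ∀ k ∈ K, S k = τ • k := fun k hk => hext _ _
    (by rw [hs, hφ k hk, H.smul_left, (hK k hk).1, mul_zero])
    (by rw [hs, hψ0 k hk, H.smul_left, (hK k hk).2, mul_zero]) fun k' hk' => by
      rw [hρ k hk k' hk', H.smul_left, H.symm k k', mul_comm]
  obtain ⟨a, b, k, hk, rfl⟩ := split_pair H hη hζ h x
  rw [map_add, map_add, map_smul, map_smul, eη, eζ, ek k hk, H.add_left, H.add_left, H.smul_left,
    H.smul_left, hη, H.symm η ζ, h, (hK k hk).1]
  module

/-- A family invariant under differences with Eichler conjugates has a member fixed up to scalars. -/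
theorem exists_fixed_family {T : Type*} {η ζ : U} (hη : f η η = 0) (Γ : Set (T → Module.End F U))
    (hΓ : ∀ θ ∈ pairPerp H η ζ, ∀ γ ∈ Γ, (fun t => dconj H η θ (γ t)) ∈ Γ)
    {γ₀ : T → Module.End F U} (hγ₀ : γ₀ ∈ Γ) (hns : ¬ ∀ t, ∃ c : F, γ₀ t = c • 1) :
    ∃ γ ∈ Γ, (¬ ∀ t, ∃ c : F, γ t = c • 1) ∧
      ∀ θ ∈ pairPerp H η ζ, ∀ t, ∃ c : F, dconj H η θ (γ t) = c • 1 := by
  classical
  have hηK : ∀ θ ∈ pairPerp H η ζ, f η θ = 0 := fun θ hθ => H.symm0 ((mem_pairPerp H).1 hθ).1
  have hfin : ∀ s : Finset U, (∀ θ ∈ s, θ ∈ pairPerp H η ζ) → ∃ γ ∈ Γ,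
      (¬ ∀ t, ∃ c : F, γ t = c • 1) ∧ ∀ θ ∈ s, ∀ t, ∃ c : F, dconj H η θ (γ t) = c • 1 := by
    intro s
    induction s using Finset.induction_on with
    | empty => exact fun _ => ⟨γ₀, hγ₀, hns, fun θ hθ => absurd hθ (Finset.notMem_empty θ)⟩
    | insert θ₀ s _ ih =>
      intro hs
      have hθ₀ := hs θ₀ (Finset.mem_insert_self θ₀ s)
      obtain ⟨γ, hγ, hγn, hγs⟩ := ih fun θ hθ => hs θ (Finset.mem_insert_of_mem hθ)
      have hmem : ∀ j, (fun t => ((dconj H η θ₀) ^ j) (γ t)) ∈ Γ := fun j => by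
        induction j with
        | zero => exact hγ
        | succ j ihj =>
          have := hΓ θ₀ hθ₀ _ ihj
          simp only [pow_succ', Module.End.mul_apply]
          exact this
      have hex : ∃ j, ∀ t, ∃ c : F, ((dconj H η θ₀) ^ j) (γ t) = c • 1 := by
        obtain ⟨k, hk⟩ := dconj_nilpotent H hη (hηK θ₀ hθ₀)
        exact ⟨k, fun t => ⟨0, by rw [hk, LinearMap.zero_apply, zero_smul]⟩⟩
      obtain ⟨j, hj⟩ : ∃ j, Nat.find hex = j + 1 := by
        refine Nat.exists_eq_add_one.2 (Nat.pos_of_ne_zero fun h0 => hγn fun t => ?_)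
        have := Nat.find_spec hex t
        rwa [h0, pow_zero, Module.End.one_apply] at this
      refine ⟨_, hmem j, Nat.find_min hex (by omega), fun θ hθ t => ?_⟩
      rcases Finset.mem_insert.1 hθ with rfl | hθs
      · have := Nat.find_spec hex t
        rwa [hj, pow_succ', Module.End.mul_apply] at this
      · obtain ⟨c, hc⟩ := hγs θ hθs t
        cases j with
        | zero => exact ⟨c, hc⟩
        | succ i =>
          refine ⟨0, ?_⟩
          have hcm : ∀ i, dconj H η θ (((dconj H η θ₀) ^ i) (γ t)) =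
              ((dconj H η θ₀) ^ i) (c • 1) := fun i => by
            induction i with
            | zero => exact hc
            | succ i ihi =>
              rw [pow_succ', Module.End.mul_apply, Module.End.mul_apply,
                dconj_comm H hη (hηK θ (hs θ hθ)) (hηK θ₀ hθ₀), ihi]
          rw [hcm, pow_succ, Module.End.mul_apply, dconj_scalar H hη (hηK θ₀ hθ₀), map_zero,
            zero_smul]
  haveI : Finite U := Module.finite_of_finite F
  haveI : Fintype U := Fintype.ofFinite U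
  obtain ⟨γ, hγ, hγn, hall⟩ := hfin (Finset.univ.filter fun θ => θ ∈ pairPerp H η ζ)
    fun θ hθ => (Finset.mem_filter.1 hθ).2
  exact ⟨γ, hγ, hγn, fun θ hθ => hall θ (Finset.mem_filter.2 ⟨Finset.mem_univ θ, hθ⟩)⟩

/-- A commuting invariant set of symmetric maps consists of scalars. -/
theorem sym_scalar (hd : 3 ≤ finrank F U) (hsmall : 4 ≤ finrank F U ∨ 5 ≤ Nat.card F)
    (𝒮 : AddSubgroup (Module.End F U)) (hsym : ∀ S ∈ 𝒮, ∀ x y, f (S x) y = f x (S y))
    (hone : ∀ c : F, c • (1 : Module.End F U) ∈ 𝒮)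
    (hconj : ∀ η θ, f η η = 0 → f η θ = 0 → ∀ S ∈ 𝒮,
      (eich H η (-θ) : Module.End F U) * (S * eich H η θ) ∈ 𝒮)
    (hcomm : ∀ S ∈ 𝒮, ∀ S' ∈ 𝒮, S * S' = S' * S) {S₀ : Module.End F U} (hS₀ : S₀ ∈ 𝒮) :
    ∃ c : F, S₀ = c • 1 := by
  classical
  by_contra hns
  obtain ⟨η, hη0, hη⟩ := H.exists_iso hd
  obtain ⟨ζ, hζ, h⟩ := exists_pair H hη0 hη
  have hηK : ∀ θ ∈ pairPerp H η ζ, f η θ = 0 := fun θ hθ => H.symm0 ((mem_pairPerp H).1 hθ).1
  have hD : ∀ θ ∈ pairPerp H η ζ, ∀ S ∈ 𝒮, dconj H η θ S ∈ 𝒮 := fun θ hθ S hS => by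
    rw [dconj_apply]
    exact sub_mem (hconj η θ hη (hηK θ hθ) S hS) hS
  have hfin : ∀ s : Finset U, (∀ θ ∈ s, θ ∈ pairPerp H η ζ) → ∃ S ∈ 𝒮, (¬ ∃ c : F, S = c • 1) ∧
      ∀ θ ∈ s, ∃ c : F, dconj H η θ S = c • 1 := by
    intro s
    induction s using Finset.induction_on with
    | empty => exact fun _ => ⟨S₀, hS₀, hns, fun θ hθ => absurd hθ (Finset.notMem_empty θ)⟩
    | insert θ₀ s _ ih =>
      intro hs
      have hθ₀ := hs θ₀ (Finset.mem_insert_self θ₀ s)
      obtain ⟨S, hS, hSn, hSs⟩ := ih fun θ hθ => hs θ (Finset.mem_insert_of_mem hθ)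
      have hmem : ∀ j, ((dconj H η θ₀) ^ j) S ∈ 𝒮 := fun j => by
        induction j with
        | zero => exact hS
        | succ j ihj =>
          rw [pow_succ', Module.End.mul_apply]
          exact hD θ₀ hθ₀ _ ihj
      have hex : ∃ j, ∃ c : F, ((dconj H η θ₀) ^ j) S = c • 1 := by
        obtain ⟨k, hk⟩ := dconj_nilpotent H hη (hηK θ₀ hθ₀)
        exact ⟨k, 0, by rw [hk, LinearMap.zero_apply, zero_smul]⟩
      obtain ⟨j, hj⟩ : ∃ j, Nat.find hex = j + 1 := by
        refine Nat.exists_eq_add_one.2 (Nat.pos_of_ne_zero fun h0 => hSn ?_)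
        have := Nat.find_spec hex
        rwa [h0, pow_zero, Module.End.one_apply] at this
      refine ⟨_, hmem j, Nat.find_min hex (by omega), fun θ hθ => ?_⟩
      rcases Finset.mem_insert.1 hθ with rfl | hθs
      · have := Nat.find_spec hex
        rwa [hj, pow_succ', Module.End.mul_apply] at this
      · obtain ⟨c, hc⟩ := hSs θ hθs
        cases j with
        | zero => exact ⟨c, hc⟩
        | succ i =>
          refine ⟨0, ?_⟩
          have hcm : ∀ i, dconj H η θ (((dconj H η θ₀) ^ i) S) =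
              ((dconj H η θ₀) ^ i) (c • 1) := fun i => by
            induction i with
            | zero => exact hc
            | succ i ihi =>
              rw [pow_succ', Module.End.mul_apply, Module.End.mul_apply,
                dconj_comm H hη (hηK θ (hs θ hθ)) (hηK θ₀ hθ₀), ihi]
          rw [hcm, pow_succ, Module.End.mul_apply, dconj_scalar H hη (hηK θ₀ hθ₀), map_zero,
            zero_smul]
  haveI : Finite U := Module.finite_of_finite F
  haveI : Fintype U := Fintype.ofFinite U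
  obtain ⟨S, hS, hSn, hSall⟩ := hfin (Finset.univ.filter fun θ => θ ∈ pairPerp H η ζ)
    fun θ hθ => (Finset.mem_filter.1 hθ).2
  obtain ⟨τ, υ, hSx⟩ := fixed_shape H hd hsmall hη hζ h (hsym S hS) fun θ hθ =>
    hSall θ (Finset.mem_filter.2 ⟨Finset.mem_univ θ, hθ⟩)
  have hυ : υ ≠ 0 := fun e0 => hSn ⟨τ, LinearMap.ext fun x => by
    rw [hSx, e0, zero_mul, zero_smul, add_zero]; rfl⟩
  obtain ⟨Z, hZ, hZx⟩ : ∃ Z ∈ 𝒮, ∀ x, Z x = (υ * f x η) • η :=
    ⟨S - τ • 1, sub_mem hS (hone τ), fun x => by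
      rw [LinearMap.sub_apply, LinearMap.smul_apply, Module.End.one_apply, hSx, add_sub_cancel_left]⟩
  obtain ⟨θ, hθ, hθθ⟩ := exists_aniso_pairPerp H hd hη hζ h
  obtain ⟨hθη, hθζ⟩ := (mem_pairPerp H).1 hθ
  have hζn : f ζ (-θ) = 0 := by rw [H.neg_right, H.symm0 hθζ, neg_zero]
  have hζθ : f ζ θ = 0 := H.symm0 hθζ
  set Z' := (eich H ζ θ : Module.End F U) * (Z * eich H ζ (-θ)) with hZ'
  have hZ'm : Z' ∈ 𝒮 := by
    have := hconj ζ (-θ) hζ hζn Z hZ
    rwa [neg_neg] at this
  set v := eich H ζ θ η with hv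
  have hvη : f v η = -(f θ θ / 2) := by
    rw [hv, eich_apply]
    simp only [H.add_left, H.sub_left, H.smul_left, hη, h, H.symm η ζ, hθη, H.symm0 hθη]
    ring
  have hZ'η : Z' η = (υ * f η v) • v := by
    show eich H ζ θ (Z (eich H ζ (-θ) η)) = _
    rw [hZx, map_smul, ← hv]
    congr 2
    have e := eich_isom H hζ hζθ (eich H ζ (-θ) η) η
    rw [eich_mul H hζ hζθ hζn, add_neg_cancel, eich_zero, ← hv] at e
    exact e.symm
  have hZη : Z η = 0 := by rw [hZx, hη, mul_zero, zero_smul]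
  have e : Z (Z' η) = Z' (Z η) := LinearMap.congr_fun (hcomm Z hZ Z' hZ'm) η
  rw [hZη, map_zero, hZ'η, map_smul, hZx, smul_smul,
    H.symm v η, hvη, smul_eq_zero] at e
  rcases e with e | e
  · have hne : -(f θ θ / 2) ≠ 0 := neg_ne_zero.2 (div_ne_zero hθθ H.two)
    exact mul_ne_zero (mul_ne_zero hυ hne) (mul_ne_zero hυ hne) e
  · exact hη0 e

end CfsgLib.MaxSub.TensorOO
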