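/-
The elements of an overgroup acting trivially on the flag of a singular space of pure tensors: without
elements of rank two they are Eichler transformations of the second factor.
-/
import Cfsg.Agent.Lib.MaxSub.TensorOO.Basic
import Cfsg.Agent.Lib.MaxSub.TensorOO.SymSet

set_option autoImplicit false
set_option maxHeartbeats 1000000
set_option linter.unusedSectionVars false

namespace CfsgLib.MaxSub.TensorOO

open Matrix Module
open CfsgLib.MaxSub.TensorSympOrth (SForm ext_pure vmv_smul vmv_sub sub_vmv vmv_neg neg_vmv vmv_ne_zero)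
open CfsgLib.MaxSub.TensorLin (Col colMap colMap_apply mem_col vmv_eq_zero vmv_zero vm exists_dot_one
  colMap_injective finrank_col)

variable {F : Type*} [Field F] {ι κ : Type*} [Fintype ι] [Fintype κ] [DecidableEq ι] [DecidableEq κ]

local notation "MV" => Matrix ι κ F

variable {f1 : (ι → F) → (ι → F) → F} {f2 : (κ → F) → (κ → F) → F}
  {f : Matrix ι κ F → Matrix ι κ F → F} {G : Subgroup (Matrix ι κ F ≃ₗ[F] Matrix ι κ F)}

/-- An element of rank two with totally singular displacement. -/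
def Root (f : Matrix ι κ F → Matrix ι κ F → F) (G : Subgroup (Matrix ι κ F ≃ₗ[F] Matrix ι κ F))
    (u w : Matrix ι κ F) : Prop :=
  ∃ g ∈ G, ∀ Y, g Y = Y + f Y u • w - f Y w • u

/-- No element of rank two of tensor type. -/
def NoRoot (_O : OO f1 f2 f G) : Prop :=
  ∀ (η z : ι → F) (e : κ → F), η ≠ 0 → f1 η η = 0 → f1 η z = 0 → f1 z z ≠ 0 → e ≠ 0 → f2 e e = 0 →
    ¬ Root f G (vecMulVec η e) (vecMulVec z e)

variable (O : OO f1 f2 f G)
include O

/-- Vectors perpendicular to a vector of the second factor span its perpendicular. -/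
theorem sum_rows (X : MV) : X = ∑ i, vecMulVec (Pi.single i (1 : F)) (X i) := by
  ext i j
  simp [Matrix.sum_apply, vecMulVec_apply, Pi.single_apply]

/-- A vector killed by all contractions with vectors perpendicular to `e` is a tensor on `e`. -/
theorem col_of_cv {e : κ → F} (he : e ≠ 0) {X : MV} (h : ∀ x, f2 x e = 0 → cv O x X = 0) :
    X ∈ Col e :=
  col_of_perp O he fun Z hZ => by
    rw [sum_rows O Z, O.h.sum_right]
    exact Finset.sum_eq_zero fun i _ => by
      rw [f_cv O, h _ (congrFun hZ i), O.h1.zero_left]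

theorem cv_col {e e' : κ → F} (hee' : f2 e e' = 1) {Y : MV} (hY : Y ∈ Col e) :
    Y = vecMulVec (cv O e' Y) e := by
  obtain ⟨c, rfl⟩ := mem_col.1 hY
  rw [cv_pure, hee', one_smul]

theorem cv_col_zero {e x : κ → F} (hex : f2 e x = 0) {Y : MV} (hY : Y ∈ Col e) : cv O x Y = 0 := by
  obtain ⟨c, rfl⟩ := mem_col.1 hY
  rw [cv_pure, hex, zero_smul]

/-- Isometries fixing a space of pure tensors keep the contraction with its vector. -/
theorem cv_fix {e : κ → F} {D : MV ≃ₗ[F] MV} (hi : ∀ X Y, f (D X) (D Y) = f X Y)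
    (hD : ∀ c, D (vecMulVec c e) = vecMulVec c e) (X : MV) : cv O e (D X) = cv O e X :=
  O.h1.ext_left fun c => by rw [← f_cv O, ← f_cv O, ← hi X, hD]

omit O in
/-- Elements trivial on the flag of a space of pure tensors. -/
def DT (O : OO f1 f2 f G) (e : κ → F) (D : Matrix ι κ F ≃ₗ[F] Matrix ι κ F) : Prop :=
  D ∈ G ∧ (∀ c, D (vecMulVec c e) = vecMulVec c e) ∧ ∀ X, cv O e X = 0 → D X - X ∈ Col e

omit O in
/-- The off-diagonal part. -/
def gam (O : OO f1 f2 f G) (e' : κ → F) (D : Matrix ι κ F ≃ₗ[F] Matrix ι κ F) (x : κ → F) :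
    (ι → F) →ₗ[F] (ι → F) :=
  cv O e' ∘ₗ (D.toLinearMap - LinearMap.id) ∘ₗ colMap x

theorem gam_apply (e' : κ → F) (D : MV ≃ₗ[F] MV) (x : κ → F) (c : ι → F) :
    gam O e' D x c = cv O e' (D (vecMulVec c x) - vecMulVec c x) := rfl

theorem gam_add (e' : κ → F) (D : MV ≃ₗ[F] MV) (x y : κ → F) :
    gam O e' D (x + y) = gam O e' D x + gam O e' D y := LinearMap.ext fun c => by
  simp only [LinearMap.add_apply, gam_apply, vecMulVec_add, map_add, map_sub]
  abel

theorem gam_smul (e' : κ → F) (D : MV ≃ₗ[F] MV) (t : F) (x : κ → F) :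
    gam O e' D (t • x) = t • gam O e' D x := LinearMap.ext fun c => by
  rw [LinearMap.smul_apply, gam_apply, gam_apply, vmv_smul, map_smul, ← smul_sub, map_smul]

theorem gam_sub (e' : κ → F) (D : MV ≃ₗ[F] MV) (x y : κ → F) :
    gam O e' D (x - y) = gam O e' D x - gam O e' D y := by
  rw [eq_sub_iff_add_eq, ← gam_add O, sub_add_cancel]

section

variable {e e' : κ → F} (hee' : f2 e e' = 1) (he : f2 e e = 0)
include hee'

theorem DT.apply {D : MV ≃ₗ[F] MV} (h : DT O e D) {x : κ → F} (hx : f2 x e = 0) (c : ι → F) :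
    D (vecMulVec c x) = vecMulVec c x + vecMulVec (gam O e' D x c) e := by
  have := cv_col O hee' (h.2.2 _ (show cv O e (vecMulVec c x) = 0 by rw [cv_pure, hx, zero_smul]))
  rw [← sub_eq_iff_eq_add', this]
  rfl

theorem gam_eq {D : MV ≃ₗ[F] MV} {x : κ → F} {c a : ι → F}
    (h : D (vecMulVec c x) = vecMulVec c x + vecMulVec a e) : gam O e' D x c = a := by
  rw [gam_apply, h, add_sub_cancel_left, cv_pure, hee', one_smul]

theorem gam_self {D : MV ≃ₗ[F] MV} (h : DT O e D) : gam O e' D e = 0 := LinearMap.ext fun c => by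
  rw [gam_apply, h.2.1, sub_self, map_zero, LinearMap.zero_apply]

theorem DT.mul {D D' : MV ≃ₗ[F] MV} (h : DT O e D) (h' : DT O e D') :
    DT O e (D * D') ∧
      ∀ x, f2 x e = 0 → gam O e' (D * D') x = gam O e' D x + gam O e' D' x := by
  refine ⟨⟨mul_mem h.1 h'.1, fun c => by rw [LinearEquiv.mul_apply, h'.2.1, h.2.1], fun X hX => ?_⟩,
    fun x hx => LinearMap.ext fun c => gam_eq O hee' ?_⟩
  · rw [LinearEquiv.mul_apply]
    obtain ⟨a, ha⟩ := mem_col.1 (h'.2.2 X hX)
    have e1 : D' X = X + vecMulVec a e := by rw [ha]; abel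
    rw [e1, map_add, h.2.1, add_sub_right_comm]
    exact add_mem (h.2.2 X hX) (mem_col.2 ⟨a, rfl⟩)
  · rw [LinearEquiv.mul_apply, h'.apply O hee' hx, map_add, h.apply O hee' hx, h.2.1,
      LinearMap.add_apply, add_vecMulVec]
    abel

theorem DT.inv {D : MV ≃ₗ[F] MV} (h : DT O e D) :
    DT O e D⁻¹ ∧ ∀ x, f2 x e = 0 → gam O e' D⁻¹ x = -gam O e' D x := by
  have hfix : ∀ c, D.symm (vecMulVec c e) = vecMulVec c e := fun c => by
    rw [LinearEquiv.symm_apply_eq, h.2.1]
  refine ⟨⟨inv_mem h.1, hfix, fun X hX => ?_⟩, fun x hx => LinearMap.ext fun c => gam_eq O hee' ?_⟩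
  · obtain ⟨a, ha⟩ := mem_col.1 (h.2.2 X hX)
    refine mem_col.2 ⟨-a, ?_⟩
    have e1 : D (X - vecMulVec a e) = X := by rw [map_sub, h.2.1, ha, sub_sub_cancel]
    show _ = D.symm X - X
    conv_rhs => rw [← e1, D.symm_apply_apply, e1]
    rw [neg_vmv]
    abel
  · show D.symm _ = _
    rw [LinearEquiv.symm_apply_eq, map_add, h.apply O hee' hx, h.2.1, LinearMap.neg_apply, neg_vmv]
    abel

theorem DT.adjoint {D : MV ≃ₗ[F] MV} (h : DT O e D) {x : κ → F} (hx : f2 x e = 0) (hx' : f2 x e' = 0)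
    (c d : ι → F) :
    f1 (cv O x (D (vecMulVec c e') - vecMulVec c e')) d = -f1 c (gam O e' D x d) := by
  rw [← f_cv O]
  have e1 : vecMulVec d x = D (vecMulVec d x) - vecMulVec (gam O e' D x d) e := by
    rw [h.apply O hee' hx, add_sub_cancel_right]
  have e2 : f (D (vecMulVec c e')) (vecMulVec (gam O e' D x d) e) = f1 c (gam O e' D x d) := by
    rw [f_cv O, cv_fix O (O.isom D h.1) h.2.1, cv_pure, O.h2.symm e e', hee', one_smul]
  conv_lhs => rw [O.h.sub_left]; arg 1; rw [e1]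
  rw [O.h.sub_right, O.isom D h.1, e2, O.f_pure, O.h2.symm0 hx']
  ring

theorem DT.adjoint' (he : f2 e e = 0) {D : MV ≃ₗ[F] MV} (h : DT O e D) {x : κ → F}
    (hx : f2 x e = 0) (c d : ι → F) :
    f1 (cv O x (D (vecMulVec c e') - vecMulVec c e')) d = -f1 c (gam O e' D x d) := by
  have h1 : f2 (x - f2 x e' • e) e = 0 := by
      rw [O.h2.sub_left, O.h2.smul_left, hx, he, mul_zero, sub_zero]
  have h2 : f2 (x - f2 x e' • e) e' = 0 := by
    rw [O.h2.sub_left, O.h2.smul_left, hee', mul_one, sub_self]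
  have := h.adjoint O hee' h1 h2 c d
  rw [gam_sub O, gam_smul O, gam_self O hee' h, smul_zero, sub_zero, cv_sub_vec O, cv_smul_vec O,
    map_sub (cv O e) (D (vecMulVec c e')) (vecMulVec c e'), cv_fix O (O.isom D h.1) h.2.1, sub_self,
    smul_zero, sub_zero] at this
  exact this

/-- The elements of rank two inside. -/
theorem zs_of_fix (he : f2 e e = 0) {D : MV ≃ₗ[F] MV} (hD : D ∈ G)
    (hfix : ∀ X, cv O e X = 0 → D X = X) : ∃ T : (ι → F) →ₗ[F] (ι → F),
      (∀ c d, f1 (T c) d = -f1 c (T d)) ∧ ∀ Y, D Y = Y + vecMulVec (T (cv O e Y)) e := by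
  have hcol : ∀ Y, D Y - Y ∈ Col e := fun Y => col_of_perp O (fun e0 => by
      rw [e0, O.h2.zero_left] at hee'; exact zero_ne_one hee') fun Z hZ => by
    rw [O.h.sub_left, sub_eq_zero]
    nth_rw 1 [← hfix Z hZ]
    exact O.isom D hD Y Z
  let T : (ι → F) →ₗ[F] (ι → F) := gam O e' D e'
  have hY : ∀ Y, D Y = Y + vecMulVec (T (cv O e Y)) e := fun Y => by
    set R := Y - vecMulVec (cv O e Y) e' with hR
    have hR0 : cv O e R = 0 := by
      rw [hR, map_sub, cv_pure, O.h2.symm e e', hee', one_smul, sub_self]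
    have e1 : Y = R + vecMulVec (cv O e Y) e' := (sub_add_cancel _ _).symm
    have e2 := cv_col O hee' (hcol (vecMulVec (cv O e Y) e'))
    conv_lhs => rw [e1, map_add, hfix R hR0, ← sub_add_cancel (D (vecMulVec (cv O e Y) e'))
      (vecMulVec (cv O e Y) e'), e2]
    show _ = Y + vecMulVec (gam O e' D e' _) e
    rw [gam_apply, hR]
    abel
  refine ⟨T, fun c d => ?_, hY⟩
  have := O.isom D hD (vecMulVec c e') (vecMulVec d e')
  simp only [hY, cv_pure, O.h2.symm e e', hee', one_smul, O.h.add_left, O.h.add_right, O.f_pure,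
      mul_one, he, mul_zero, add_zero] at this
  linear_combination this

end

end CfsgLib.MaxSub.TensorOO
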