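/-
Without elements of rank two the elements trivial on the flag of a singular space of pure tensors commute.
-/
import Cfsg.Agent.Lib.MaxSub.TensorOO.Radical

set_option autoImplicit false
set_option maxHeartbeats 1000000
set_option linter.unusedSectionVars false

namespace CfsgLib.MaxSub.TensorOO

open Matrix Module
open CfsgLib.MaxSub.TensorSympOrth (SForm ext_pure vmv_smul vmv_sub sub_vmv vmv_neg neg_vmv vmv_ne_zero)
open CfsgLib.MaxSub.TensorLin (Col colMap colMap_apply mem_col vmv_eq_zero vmv_zero vm exists_dot_one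
  colMap_injective finrank_col)

variable {F : Type*} [Field F] {ι κ : Type*} [Fintype ι] [Fintype κ] [DecidableEq ι] [DecidableEq κ]

local notation "MV" => Matrix ι κ F

variable {f1 : (ι → F) → (ι → F) → F} {f2 : (κ → F) → (κ → F) → F}
  {f : Matrix ι κ F → Matrix ι κ F → F} {G : Subgroup (Matrix ι κ F ≃ₗ[F] Matrix ι κ F)}

/-- The skew maps giving elements trivial on the perpendicular of a space of pure tensors. -/
def Zs (O : OO f1 f2 f G) (e : κ → F) (T : (ι → F) →ₗ[F] (ι → F)) : Prop :=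
  ∃ g ∈ G, ∀ Y, g Y = Y + vecMulVec (T (cv O e Y)) e

/-- The skew map of two vectors. -/
def wedge (H : SForm f1) (η z : ι → F) : (ι → F) →ₗ[F] (ι → F) :=
  (H.lin η).smulRight z - (H.lin z).smulRight η

variable (O : OO f1 f2 f G)
include O

theorem wedge_apply (η z x : ι → F) : wedge O.h1 η z x = f1 x η • z - f1 x z • η := rfl

theorem Zs.conj {e : κ → F} {T L L' : (ι → F) →ₗ[F] (ι → F)} (h : Zs O e T) (hL : InL O L)
    (hinv : ∀ c, L' (L c) = c) : Zs O e (L ∘ₗ T ∘ₗ L') := by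
  obtain ⟨g, hg, hgY⟩ := h
  obtain ⟨-, u, hu, huX⟩ := hL
  refine ⟨u * g * u⁻¹, mul_mem (mul_mem hu hg) (inv_mem hu), fun Y => ?_⟩
  obtain ⟨Z, rfl⟩ := u.surjective Y
  show u (g (u.symm (u Z))) = _
  rw [u.symm_apply_apply, hgY, map_add, huX, inl_cv O huX, LinearMap.comp_apply, LinearMap.comp_apply,
    hinv]

theorem Zs.sub {e : κ → F} (he : f2 e e = 0) {T T' : (ι → F) →ₗ[F] (ι → F)} (h : Zs O e T)
    (h' : Zs O e T') : Zs O e (T - T') := by
  obtain ⟨g, hg, hgY⟩ := h
  obtain ⟨g', hg', hgY'⟩ := h'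
  refine ⟨g * g'⁻¹, mul_mem hg (inv_mem hg'), fun Y => ?_⟩
  obtain ⟨Z, rfl⟩ := g'.surjective Y
  show g (g'.symm (g' Z)) = _
  rw [g'.symm_apply_apply, hgY, hgY', map_add, cv_pure, he, zero_smul, add_zero, LinearMap.sub_apply,
    sub_vmv]
  abel

theorem zs_root {e : κ → F} {η z : ι → F} (h : Zs O e (wedge O.h1 η z)) :
    Root f G (vecMulVec η e) (vecMulVec z e) := by
  obtain ⟨g, hg, hgY⟩ := h
  refine ⟨g, hg, fun Y => ?_⟩
  rw [hgY, wedge_apply O, sub_vmv, smul_vecMulVec, smul_vecMulVec, f_cv O, f_cv O]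
  abel

theorem Zs.dconj {e : κ → F} (he : f2 e e = 0) {T : (ι → F) →ₗ[F] (ι → F)} (h : Zs O e T)
    {η θ : ι → F} (hη : f1 η η = 0) (hθ : f1 η θ = 0) :
    Zs O e (TensorOO.dconj O.h1 η θ T) := by
  have hθ' : f1 η (-θ) = 0 := by rw [O.h1.neg_right, hθ, neg_zero]
  exact Zs.sub O he (h.conj O (inl_eich O hη hθ') fun c => by
    rw [eich_mul O.h1 hη hθ hθ', add_neg_cancel, eich_zero]) h

theorem dconj_form {η θ : ι → F} (hη : f1 η η = 0) (hθ : f1 η θ = 0) (T : Module.End F (ι → F))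
    (x y : ι → F) : f1 (TensorOO.dconj O.h1 η θ T x) y =
      f1 (T (eich O.h1 η θ x)) (eich O.h1 η θ y) - f1 (T x) y := by
  have hθ' : f1 η (-θ) = 0 := by rw [O.h1.neg_right, hθ, neg_zero]
  rw [dconj_apply, LinearMap.sub_apply, Module.End.mul_apply, Module.End.mul_apply, O.h1.sub_left]
  congr 1
  conv_lhs => rw [show y = eich O.h1 η (-θ) (eich O.h1 η θ y) from (eich_inv O.h1 hη hθ y).symm]
  exact eich_isom O.h1 hη hθ' _ _

/-- The double difference of a skew map. -/
theorem dconj_dconj {η θ θ' : ι → F} (hη : f1 η η = 0) (hθ : f1 η θ = 0) (hθ' : f1 η θ' = 0)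
    {T : Module.End F (ι → F)} (hT : ∀ c d, f1 (T c) d = -f1 c (T d)) :
    TensorOO.dconj O.h1 η θ' (TensorOO.dconj O.h1 η θ T) =
      wedge O.h1 η (f1 (T η) θ • θ' + f1 (T η) θ' • θ - f1 θ θ' • T η) := by
  refine LinearMap.ext fun x => O.h1.ext_left fun y => ?_
  rw [dconj_form O hη hθ', dconj_form O hη hθ, dconj_form O hη hθ, eich_mul O.h1 hη hθ hθ',
    eich_mul O.h1 hη hθ hθ', wedge_apply O]
  have hs : ∀ c d, f1 (T c) d = -f1 (T d) c := fun c d => by rw [hT, O.h1.symm (T d)]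
  have h0 : f1 (T η) η = 0 :=
    (mul_eq_zero.1 (show (2 : F) * f1 (T η) η = 0 by linear_combination hs η η)).resolve_left O.h1.two
  have h1 : f1 (T θ) θ = 0 :=
    (mul_eq_zero.1 (show (2 : F) * f1 (T θ) θ = 0 by linear_combination hs θ θ)).resolve_left O.h1.two
  have h2 : f1 (T θ') θ' = 0 :=
    (mul_eq_zero.1 (show (2 : F) * f1 (T θ') θ' = 0 by linear_combination hs θ' θ')).resolve_left
      O.h1.two
  simp only [eich_apply, map_add, map_sub, map_smul, O.h1.add_left, O.h1.add_right, O.h1.sub_left,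
    O.h1.sub_right, O.h1.smul_left, O.h1.smul_right, h0, h1, h2, hs θ η, hs θ' η, hs θ' θ, hs x η,
    hs x θ, hs x θ', O.h1.symm θ θ', O.h1.symm θ y, O.h1.symm θ' y, O.h1.symm η y]
  have := O.h1.two
  field_simp
  rw [O.h1.symm (T η) x]
  ring

variable [Finite F]

/-- Without elements of rank two there is no such skew map. -/
theorem zs_eq_zero (hN : NoRoot O) {e : κ → F} (he0 : e ≠ 0) (he : f2 e e = 0)
    {T : (ι → F) →ₗ[F] (ι → F)} (h : Zs O e T) (hT : ∀ c d, f1 (T c) d = -f1 c (T d)) : T = 0 := by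
  have hroot : ∀ η z, η ≠ 0 → f1 η η = 0 → f1 η z = 0 → f1 z z ≠ 0 → ¬ Zs O e (wedge O.h1 η z) :=
    fun η z h1 h2 h3 h4 hz => hN η z e h1 h2 h3 h4 he0 he (zs_root O hz)
  obtain ⟨a, ha⟩ := scalar_of_singular O.h1 (hda O) T fun η hη0 hη => by
    by_contra hc
    set p := T η with hp
    have hηp : f1 η p = 0 :=
      (mul_eq_zero.1 (show (2 : F) * f1 η p = 0 by
        linear_combination (hT η η) - O.h1.symm η (T η))).resolve_left O.h1.two
    have key : ∀ θ θ', f1 η θ = 0 → f1 η θ' = 0 →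
        ¬ f1 (f1 p θ • θ' + f1 p θ' • θ - f1 θ θ' • p) (f1 p θ • θ' + f1 p θ' • θ - f1 θ θ' • p) ≠ 0 := by
      intro θ θ' h1 h2 hz
      have := (h.dconj O he hη h1).dconj O he hη h2
      rw [dconj_dconj O hη h1 h2 hT] at this
      refine hroot η _ hη0 hη ?_ hz this
      rw [O.h1.sub_right, O.h1.add_right, O.h1.smul_right, O.h1.smul_right, O.h1.smul_right, h1, h2,
        hηp, mul_zero, mul_zero, mul_zero, add_zero, sub_zero]
    by_cases hpp : f1 p p ≠ 0
    · refine key p p hηp hηp ?_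
      rw [show f1 p p • p + f1 p p • p - f1 p p • p = f1 p p • p by abel, O.h1.smul_left,
        O.h1.smul_right]
      exact mul_ne_zero hpp (mul_ne_zero hpp hpp)
    rw [not_not] at hpp
    obtain ⟨ζ, hζ, hηζ⟩ := exists_pair O.h1 hη0 hη
    set K := pairPerp O.h1 η ζ
    have HR := O.h1.restrict (pairPerp_nondeg O.h1 hη hζ hηζ)
    set k := p - f1 p ζ • η with hk
    have hkK : k ∈ K := (mem_pairPerp O.h1).2 ⟨by
      rw [hk, O.h1.sub_left, O.h1.smul_left, hη, mul_zero, sub_zero, O.h1.symm η p, hηp], by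
      rw [hk, O.h1.sub_left, O.h1.smul_left, hηζ, mul_one, sub_self]⟩
    have hk0 : k ≠ 0 := fun e0 => hc ⟨f1 p ζ, by rwa [hk, sub_eq_zero] at e0⟩
    have hkk : f1 k k = 0 := by
      rw [hk]
      simp only [O.h1.sub_left, O.h1.sub_right, O.h1.smul_left, O.h1.smul_right, hη, hpp, hηp,
        O.h1.symm η p]
      ring
    obtain ⟨θ, hθθ, hkθ⟩ := exists_pair HR (e := ⟨k, hkK⟩)
      (fun e0 => hk0 (congrArg Subtype.val e0)) hkk
    by_cases h5 : Fintype.card ι ≤ 4
    · have hK2 : 2 ≤ finrank F K := by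
        have hle := two_mul_le HR (W := F ∙ (⟨k, hkK⟩ : K)) fun x hx => by
          obtain ⟨t, rfl⟩ := Submodule.mem_span_singleton.1 hx
          show f1 ((t • k : ι → F)) (t • k) = 0
          rw [O.h1.smul_left, O.h1.smul_right, hkk, mul_zero, mul_zero]
        rw [finrank_span_singleton (fun e0 => hk0 (congrArg Subtype.val e0))] at hle
        omega
      have hcard : Fintype.card ι = 4 := by
        obtain ⟨hd1⟩ : Nonempty (finrank F K + 2 ≤ Fintype.card ι) := ⟨by
          obtain ⟨W, hW, -⟩ := O.h1.exists_perp_sub K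
          have h1 := O.h1.finrank_perp hW
          have h2 : (F ∙ η) ⊔ (F ∙ ζ) ≤ W := sup_le
            (by rw [Submodule.span_singleton_le_iff_mem]
                exact (hW η).2 fun w hw => O.h1.symm0 ((mem_pairPerp O.h1).1 hw).1)
            (by rw [Submodule.span_singleton_le_iff_mem]
                exact (hW ζ).2 fun w hw => O.h1.symm0 ((mem_pairPerp O.h1).1 hw).2)
          have h3 := Submodule.finrank_mono h2
          have h4 := Submodule.finrank_sup_add_finrank_inf_eq (F ∙ η) (F ∙ ζ)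
          have hζ0 : ζ ≠ 0 := fun e0 => by
            rw [e0, O.h1.zero_right] at hηζ
            exact zero_ne_one hηζ
          have hdis : (F ∙ η) ⊓ (F ∙ ζ) = ⊥ := (Submodule.eq_bot_iff _).2 fun x hx => by
            obtain ⟨s, hs⟩ := Submodule.mem_span_singleton.1 hx.1
            obtain ⟨t, ht⟩ := Submodule.mem_span_singleton.1 hx.2
            have := congrArg (f1 · ζ) (hs.trans ht.symm)
            simp only [O.h1.smul_left, hηζ, hζ, mul_one, mul_zero] at this
            rw [← hs, this, zero_smul]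
          rw [finrank_span_singleton hη0, finrank_span_singleton hζ0, hdis, finrank_bot] at h4
          rw [finrank_ι O] at h1
          omega⟩
        omega
      have hTS : ∀ x ∈ (F ∙ η) ⊔ (F ∙ k), f1 x x = 0 := fun x hx => by
        obtain ⟨u, hu, v, hv, rfl⟩ := Submodule.mem_sup.1 hx
        obtain ⟨s, rfl⟩ := Submodule.mem_span_singleton.1 hu
        obtain ⟨t, rfl⟩ := Submodule.mem_span_singleton.1 hv
        simp only [O.h1.add_left, O.h1.add_right, O.h1.smul_left, O.h1.smul_right, hη, hkk,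
          O.h1.symm k η, ((mem_pairPerp O.h1).1 hkK).1]
        ring
      have h1 := O.minus hcard _ hTS
      have h4 := Submodule.finrank_sup_add_finrank_inf_eq (F ∙ η) (F ∙ k)
      have hdis : (F ∙ η) ⊓ (F ∙ k) = ⊥ := (Submodule.eq_bot_iff _).2 fun x hx => by
        obtain ⟨s, hs⟩ := Submodule.mem_span_singleton.1 hx.1
        obtain ⟨t, ht⟩ := Submodule.mem_span_singleton.1 hx.2
        have := congrArg (f1 · ζ) (hs.trans ht.symm)
        simp only [O.h1.smul_left, hηζ, ((mem_pairPerp O.h1).1 hkK).2, mul_one, mul_zero] at this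
        rw [← hs, this, zero_smul]
      rw [finrank_span_singleton hη0, finrank_span_singleton hk0, hdis, finrank_bot] at h4
      omega
    have hdK : 3 ≤ finrank F K := by
      have : finrank F (ι → F) ≤ finrank F K + 2 := pairPerp_dim O.h1 η ζ
      rw [finrank_ι O] at this
      omega
    obtain ⟨θ', hθ', hθ'n⟩ := exists_aniso_pairPerp HR hdK hkk hθθ hkθ
    obtain ⟨h1, h2⟩ := (mem_pairPerp HR).1 hθ'
    change f1 (θ' : ι → F) k = 0 at h1
    change f1 (θ' : ι → F) θ = 0 at h2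
    change f1 k θ = 1 at hkθ
    change f1 (θ' : ι → F) θ' ≠ 0 at hθ'n
    have hpk : p = k + f1 p ζ • η := (sub_add_cancel _ _).symm
    have hθη := ((mem_pairPerp O.h1).1 θ.2).1
    have hθ'η := ((mem_pairPerp O.h1).1 θ'.2).1
    refine key θ θ' (O.h1.symm0 hθη) (O.h1.symm0 hθ'η) ?_
    have e1 : f1 p θ = 1 := by
      rw [hpk, O.h1.add_left, O.h1.smul_left, O.h1.symm0 hθη, hkθ, mul_zero, add_zero]
    have e2 : f1 p θ' = 0 := by
      rw [hpk, O.h1.add_left, O.h1.smul_left, O.h1.symm0 hθ'η, O.h1.symm0 h1, mul_zero, add_zero]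
    rw [e1, e2, O.h1.symm0 h2, zero_smul, zero_smul, add_zero, sub_zero, one_smul]
    exact hθ'n
  obtain ⟨x, hxx⟩ : ∃ x, f1 x x ≠ 0 := by
    obtain ⟨η, hη0, -⟩ := O.h1.exists_iso (hda O)
    exact O.h1.exists_aniso hη0
  have := hT x x
  rw [ha, O.h1.smul_left, O.h1.smul_right] at this
  have ha0 : a = 0 := (mul_eq_zero.1 (show (2 * f1 x x) * a = 0 by linear_combination this)).resolve_left
    (mul_ne_zero O.h1.two hxx)
  exact LinearMap.ext fun y => by rw [ha, ha0, zero_smul, LinearMap.zero_apply]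

/-- An element fixing the perpendicular of a space of pure tensors is trivial. -/
theorem eq_one_of_fix (hN : NoRoot O) {e : κ → F} (he0 : e ≠ 0) (he : f2 e e = 0)
    {D : MV ≃ₗ[F] MV} (hD : D ∈ G) (hfix : ∀ X, cv O e X = 0 → D X = X) : D = 1 := by
  obtain ⟨e', he', h⟩ := exists_pair O.h2 he0 he
  obtain ⟨T, hT, hY⟩ := zs_of_fix O h he hD hfix
  obtain rfl := zs_eq_zero O hN he0 he ⟨D, hD, hY⟩ hT
  exact LinearEquiv.ext fun Y => by
    rw [hY, LinearMap.zero_apply, zero_vecMulVec, add_zero]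
    rfl

/-- The elements trivial on the flag commute. -/
theorem DT.comm (hN : NoRoot O) {e : κ → F} (he0 : e ≠ 0) (he : f2 e e = 0) {D D' : MV ≃ₗ[F] MV}
    (h : DT O e D) (h' : DT O e D') : D * D' = D' * D := by
  refine mul_inv_eq_one.1 (eq_one_of_fix O hN he0 he
    (mul_mem (mul_mem h.1 h'.1) (inv_mem (mul_mem h'.1 h.1))) fun X hX => ?_)
  obtain ⟨e', he', hee'⟩ := exists_pair O.h2 he0 he
  have hcomm : ∀ Z, cv O e Z = 0 → D (D' Z) = D' (D Z) := fun Z hZ => by
    obtain ⟨a, ha⟩ := mem_col.1 (h.2.2 Z hZ)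
    obtain ⟨b, hb⟩ := mem_col.1 (h'.2.2 Z hZ)
    have e1 : D Z = Z + vecMulVec a e := by rw [ha]; abel
    have e2 : D' Z = Z + vecMulVec b e := by rw [hb]; abel
    rw [e1, e2, map_add, map_add, e1, e2, h.2.1, h'.2.1]
    abel
  obtain ⟨Z, rfl⟩ := (D' * D).surjective X
  have hZ : cv O e Z = 0 := by
    rwa [LinearEquiv.mul_apply, cv_fix O (O.isom D' h'.1) h'.2.1, cv_fix O (O.isom D h.1) h.2.1] at hX
  show (D * D') ((D' * D).symm ((D' * D) Z)) = (D' * D) Z
  rw [LinearEquiv.symm_apply_apply]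
  exact hcomm Z hZ

end CfsgLib.MaxSub.TensorOO
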