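/-
Without elements of rank two the elements trivial on the flag of a singular space of pure tensors are
Eichler transformations of the second factor.
-/
import Cfsg.Agent.Lib.MaxSub.TensorOO.Skew

set_option autoImplicit false
set_option maxHeartbeats 1000000
set_option linter.unusedSectionVars false

namespace CfsgLib.MaxSub.TensorOO

open Matrix Module
open CfsgLib.MaxSub.TensorSympOrth (SForm ext_pure vmv_smul vmv_sub sub_vmv vmv_neg neg_vmv vmv_ne_zero)
open CfsgLib.MaxSub.TensorLin (Col colMap colMap_apply mem_col vmv_eq_zero vmv_zero vm exists_dot_one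
  colMap_injective finrank_col)

variable {F : Type*} [Field F] {ι κ : Type*} [Fintype ι] [Fintype κ] [DecidableEq ι] [DecidableEq κ]

local notation "MV" => Matrix ι κ F

variable {f1 : (ι → F) → (ι → F) → F} {f2 : (κ → F) → (κ → F) → F}
  {f : Matrix ι κ F → Matrix ι κ F → F} {G : Subgroup (Matrix ι κ F ≃ₗ[F] Matrix ι κ F)}

/-- The maps occurring as single components. -/
def InS (O : OO f1 f2 f G) (e e' v : κ → F) (S : (ι → F) →ₗ[F] (ι → F)) : Prop :=
  ∃ D, DT O e D ∧ ∀ x, f2 x e = 0 → gam O e' D x = f2 x v • S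

variable (O : OO f1 f2 f G)
include O

theorem eich_pure_vmv {e w x : κ → F} (hx : f2 x e = 0) (c : ι → F) :
    vecMulVec c (eich O.h2 e w x) = vecMulVec c x + vecMulVec ((-f2 x w) • c) e := by
  rw [eich_apply, hx, zero_smul, mul_zero, zero_smul, sub_zero, zero_sub, vecMulVec_add, vmv_neg,
    vmv_smul, neg_smul, neg_vmv, smul_vecMulVec]

/-- The Eichler elements at the vector are trivial on the flag. -/
theorem dt_eich {e e' w : κ → F} (hee' : f2 e e' = 1) (he : f2 e e = 0) (hw : f2 e w = 0) :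
    ∃ D, DT O e D ∧ (∀ c x, D (vecMulVec c x) = vecMulVec c (eich O.h2 e w x)) ∧
      ∀ x, f2 x e = 0 → gam O e' D x = (-f2 x w) • LinearMap.id := by
  obtain ⟨-, g, hg, hgX⟩ := inr_eich O he hw
  refine ⟨g, ⟨hg, fun c => by rw [hgX, eich_fix O.h2 he hw], fun X hX => ?_⟩, hgX,
    fun x hx => LinearMap.ext fun c => gam_eq O hee' ?_⟩
  · rw [sum_rows O X, map_sum, ← Finset.sum_sub_distrib]
    refine sum_mem fun i _ => ?_
    rw [hgX, eich_pure_vmv O (congrFun hX i), add_sub_cancel_left]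
    exact mem_col.2 ⟨_, rfl⟩
  · rw [hgX, eich_pure_vmv O hx]
    rfl

theorem DT.eq_one [Finite F] (hN : NoRoot O) {e e' : κ → F} (hee' : f2 e e' = 1) (he : f2 e e = 0)
    {D : MV ≃ₗ[F] MV} (h : DT O e D) (hg : ∀ x, f2 x e = 0 → gam O e' D x = 0) : D = 1 := by
  have he0 : e ≠ 0 := fun e0 => by
    rw [e0, O.h2.zero_left] at hee'
    exact zero_ne_one hee'
  refine eq_one_of_fix O hN he0 he h.1 fun X hX => ?_
  rw [sum_rows O X, map_sum]
  exact Finset.sum_congr rfl fun i _ => by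
    rw [h.apply O hee' (congrFun hX i), hg _ (congrFun hX i), LinearMap.zero_apply, zero_vecMulVec,
      add_zero]

/-- The components are symmetric. -/
theorem gam_symm [Finite F] (hN : NoRoot O) {e e' : κ → F} (hee' : f2 e e' = 1) (he : f2 e e = 0)
    {D : MV ≃ₗ[F] MV} (h : DT O e D) {w : κ → F} (hw : f2 w e = 0) (hw' : f2 w e' = 0) (c d : ι → F) :
    f1 (gam O e' D w c) d = f1 c (gam O e' D w d) := by
  have he0 : e ≠ 0 := fun e0 => by
    rw [e0, O.h2.zero_left] at hee'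
    exact zero_ne_one hee'
  obtain ⟨E, hE, hEX, hEg⟩ := dt_eich O hee' he (O.h2.symm0 hw)
  have hc := LinearEquiv.congr_fun (h.comm O hN he0 he hE) (vecMulVec c e')
  rw [LinearEquiv.mul_apply, LinearEquiv.mul_apply] at hc
  have e1 : E (vecMulVec c e') =
      vecMulVec c e' + vecMulVec c w - (f2 w w / 2) • vecMulVec c e := by
    rw [hEX, eich_apply, O.h2.symm e e', hee', O.h2.symm0 hw', zero_smul, sub_zero, mul_one, one_smul,
      vecMulVec_add, vmv_sub, vmv_smul, add_sub_assoc]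
  set R := D (vecMulVec c e') - vecMulVec c e' with hR
  have hR0 : cv O e R = 0 := by rw [hR, map_sub, cv_fix O (O.isom D h.1) h.2.1, sub_self]
  have e2 : E R = R + vecMulVec ((-(1 : F)) • cv O w R) e := by
    refine eq_add_of_sub_eq' ?_
    rw [cv_col O hee' (hE.2.2 R hR0)]
    congr 1
    conv_lhs => rw [sum_rows O R]
    rw [map_sum, ← Finset.sum_sub_distrib, map_sum]
    conv_rhs => rw [sum_rows O R, map_sum, Finset.smul_sum]
    refine Finset.sum_congr rfl fun i _ => ?_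
    rw [hEX, eich_pure_vmv O (congrFun hR0 i), add_sub_cancel_left, cv_pure, cv_pure, hee', one_smul,
      smul_smul, neg_one_mul]
  have e3 : D (E (vecMulVec c e')) = D (vecMulVec c e') + (vecMulVec c w + vecMulVec (gam O e' D w c) e)
      - (f2 w w / 2) • vecMulVec c e := by
    rw [e1, map_sub, map_add, map_smul, h.apply O hee' hw, h.2.1]
  have e4 : E (D (vecMulVec c e')) = E (vecMulVec c e') + (R + vecMulVec ((-(1 : F)) • cv O w R) e) := by
    rw [← e2, ← map_add, hR, add_sub_cancel]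
  rw [e3, e4, e1] at hc
  have e5 : vecMulVec (gam O e' D w c) e = vecMulVec ((-(1 : F)) • cv O w R) e := by
    rw [hR] at hc ⊢
    linear_combination (norm := module) hc
  have e6 := congrArg (cv O e') e5
  rw [cv_pure, cv_pure, hee', one_smul, one_smul] at e6
  rw [e6, O.h1.smul_left, hR, h.adjoint O hee' hw hw']
  ring

theorem InS.add {e e' v : κ → F} (hee' : f2 e e' = 1) {S S' : (ι → F) →ₗ[F] (ι → F)}
    (h : InS O e e' v S) (h' : InS O e e' v S') : InS O e e' v (S + S') := by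
  obtain ⟨D, hD, hDg⟩ := h
  obtain ⟨D', hD', hDg'⟩ := h'
  obtain ⟨h1, h2⟩ := hD.mul O hee' hD'
  exact ⟨_, h1, fun x hx => by rw [h2 x hx, hDg x hx, hDg' x hx, smul_add]⟩

theorem InS.neg {e e' v : κ → F} (hee' : f2 e e' = 1) {S : (ι → F) →ₗ[F] (ι → F)}
    (h : InS O e e' v S) : InS O e e' v (-S) := by
  obtain ⟨D, hD, hDg⟩ := h
  obtain ⟨h1, h2⟩ := hD.inv O hee'
  exact ⟨_, h1, fun x hx => by rw [h2 x hx, hDg x hx, smul_neg]⟩

theorem inS_one {e e' v : κ → F} (hee' : f2 e e' = 1) (he : f2 e e = 0) (hv : f2 e v = 0) (t : F) :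
    InS O e e' v (t • LinearMap.id) := by
  obtain ⟨D, hD, -, hg⟩ := dt_eich O hee' he (w := (-t) • v)
    (by rw [O.h2.smul_right, hv, mul_zero])
  exact ⟨D, hD, fun x hx => by rw [hg x hx, O.h2.smul_right, smul_smul]; congr 1; ring⟩

/-- Conjugation by the first factor. -/
theorem DT.conjL {e e' : κ → F} (hee' : f2 e e' = 1) {D : MV ≃ₗ[F] MV} (h : DT O e D)
    {L L' : (ι → F) →ₗ[F] (ι → F)} (hL : InL O L) (hinv : ∀ c, L (L' c) = c) :
    ∃ D', DT O e D' ∧ ∀ x, f2 x e = 0 → gam O e' D' x = L ∘ₗ gam O e' D x ∘ₗ L' := by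
  obtain ⟨-, u, hu, huX⟩ := hL
  have hs : ∀ c x, u.symm (vecMulVec c x) = vecMulVec (L' c) x := fun c x => by
    rw [u.symm_apply_eq, huX, hinv]
  refine ⟨u * D * u⁻¹, ⟨mul_mem (mul_mem hu h.1) (inv_mem hu), fun c => ?_, fun X hX => ?_⟩,
    fun x hx => LinearMap.ext fun c => gam_eq O hee' ?_⟩
  · show u (D (u.symm _)) = _
    rw [hs, h.2.1, huX, hinv]
  · obtain ⟨Z, rfl⟩ := u.surjective X
    show u (D (u.symm (u Z))) - u Z ∈ _
    rw [u.symm_apply_apply, ← map_sub]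
    have hZ : cv O e Z = 0 := by
      refine O.h1.ext_left fun d => ?_
      rw [← f_cv O, ← O.isom u hu, huX, f_cv O, hX, O.h1.zero_left, O.h1.zero_left]
    obtain ⟨a, ha⟩ := mem_col.1 (h.2.2 Z hZ)
    exact mem_col.2 ⟨L a, by rw [← ha, huX]⟩
  · show u (D (u.symm _)) = _
    rw [hs, h.apply O hee' hx, map_add, huX, huX, hinv]
    rfl

/-- Conjugation by the second factor. -/
theorem DT.conjR {e e' : κ → F} (hee' : f2 e e' = 1) {D : MV ≃ₗ[F] MV} (h : DT O e D) {η θ : κ → F}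
    (hη : f2 η η = 0) (hθ : f2 η θ = 0) (hηe : f2 e η = 0) (hθe : f2 e θ = 0) :
    ∃ D', DT O e D' ∧
      ∀ x, f2 x e = 0 → gam O e' D' x = gam O e' D (eich O.h2 η (-θ) x) := by
  have hθ' : f2 η (-θ) = 0 := by rw [O.h2.neg_right, hθ, neg_zero]
  obtain ⟨-, u, hu, huX⟩ := inr_eich O hη hθ
  have hfix : eich O.h2 η θ e = e := eich_fix O.h2 hηe hθe
  have hperp : ∀ x, f2 x e = 0 → f2 (eich O.h2 η (-θ) x) e = 0 := fun x hx => by
    have := eich_isom O.h2 hη hθ (eich O.h2 η (-θ) x) e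
    rw [eich_mul O.h2 hη hθ hθ', add_neg_cancel, eich_zero, hfix] at this
    rw [← this, hx]
  have hs : ∀ c x, u.symm (vecMulVec c x) = vecMulVec c (eich O.h2 η (-θ) x) := fun c x => by
    rw [u.symm_apply_eq, huX, eich_mul O.h2 hη hθ hθ', add_neg_cancel, eich_zero]
  refine ⟨u * D * u⁻¹, ⟨mul_mem (mul_mem hu h.1) (inv_mem hu), fun c => ?_, fun X hX => ?_⟩,
    fun x hx => LinearMap.ext fun c => gam_eq O hee' ?_⟩
  · show u (D (u.symm _)) = _
    have : eich O.h2 η (-θ) e = e := eich_fix O.h2 hηe (by rw [O.h2.neg_right, hθe, neg_zero])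
    rw [hs, this, h.2.1, huX, hfix]
  · obtain ⟨Z, rfl⟩ := u.surjective X
    show u (D (u.symm (u Z))) - u Z ∈ _
    rw [u.symm_apply_apply, ← map_sub]
    have hZ : cv O e Z = 0 := by
      refine O.h1.ext_left fun d => ?_
      rw [← f_cv O, ← O.isom u hu, huX, hfix, f_cv O, hX]
    obtain ⟨a, ha⟩ := mem_col.1 (h.2.2 Z hZ)
    exact mem_col.2 ⟨a, by rw [← ha, huX, hfix]⟩
  · show u (D (u.symm _)) = _
    rw [hs, h.apply O hee' (hperp x hx), map_add, huX, huX, hfix,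
      eich_mul O.h2 hη hθ hθ', add_neg_cancel, eich_zero]

theorem InS.moveR {e e' v : κ → F} (hee' : f2 e e' = 1) {S : (ι → F) →ₗ[F] (ι → F)}
    (h : InS O e e' v S) {η θ : κ → F} (hη : f2 η η = 0) (hθ : f2 η θ = 0) (hηe : f2 e η = 0)
    (hθe : f2 e θ = 0) : InS O e e' (eich O.h2 η θ v) S := by
  obtain ⟨D, hD, hDg⟩ := h
  obtain ⟨D', hD', hDg'⟩ := hD.conjR O hee' hη hθ hηe hθe
  have hθ' : f2 η (-θ) = 0 := by rw [O.h2.neg_right, hθ, neg_zero]
  have hfix : eich O.h2 η (-θ) e = e := eich_fix O.h2 hηe (by rw [O.h2.neg_right, hθe, neg_zero])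
  refine ⟨D', hD', fun x hx => ?_⟩
  have h1 : f2 (eich O.h2 η (-θ) x) e = 0 := by
    rw [← hfix, eich_isom O.h2 hη hθ', hx]
  have h2 : f2 (eich O.h2 η (-θ) x) v = f2 x (eich O.h2 η θ v) := by
    rw [← eich_isom O.h2 hη hθ, eich_mul O.h2 hη hθ hθ', add_neg_cancel, eich_zero]
  rw [hDg' x hx, hDg _ h1, h2]

/-- Components with non-perpendicular vectors commute. -/
theorem InS.comm [Finite F] (hN : NoRoot O) {e e' v w : κ → F} (hee' : f2 e e' = 1) (he : f2 e e = 0)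
    (hv : f2 v e = 0) (hv' : f2 v e' = 0) (hw : f2 w e = 0) (hvw : f2 v w ≠ 0)
    {S S' : (ι → F) →ₗ[F] (ι → F)} (h : InS O e e' v S) (h' : InS O e e' w S')
    (hS : ∀ c d, f1 (S c) d = f1 c (S d)) (hS' : ∀ c d, f1 (S' c) d = f1 c (S' d)) (c : ι → F) :
    S (S' c) = S' (S c) := by
  have he0 : e ≠ 0 := fun e0 => by
    rw [e0, O.h2.zero_left] at hee'
    exact zero_ne_one hee'
  obtain ⟨D, hD, hDg⟩ := h
  obtain ⟨D', hD', hDg'⟩ := h'
  have hres : ∀ {D : MV ≃ₗ[F] MV} {v : κ → F} {S : (ι → F) →ₗ[F] (ι → F)}, DT O e D →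
      (∀ x, f2 x e = 0 → gam O e' D x = f2 x v • S) → (∀ c d, f1 (S c) d = f1 c (S d)) →
      ∀ c, ∃ a, D (vecMulVec c e') = vecMulVec c e' - vecMulVec (S c) v + vecMulVec a e := by
    intro D v S hD hDg hS c
    have hmem : D (vecMulVec c e') - vecMulVec c e' + vecMulVec (S c) v ∈ Col e := by
      refine col_of_cv O he0 fun x hx => ?_
      rw [map_add, cv_pure]
      refine O.h1.ext_left fun d => ?_
      rw [O.h1.add_left, O.h1.smul_left, hD.adjoint' O hee' he hx, hDg x hx, LinearMap.smul_apply,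
        O.h1.smul_right, hS, O.h2.symm x v, O.h1.zero_left]
      ring
    obtain ⟨a, ha⟩ := mem_col.1 hmem
    exact ⟨a, by rw [ha]; abel⟩
  obtain ⟨a, ha⟩ := hres hD hDg hS c
  obtain ⟨b, hb⟩ := hres hD' hDg' hS' c
  have hc := LinearEquiv.congr_fun (hD.comm O hN he0 he hD') (vecMulVec c e')
  rw [LinearEquiv.mul_apply, LinearEquiv.mul_apply, ha, hb, map_add, map_add, map_sub, map_sub,
    ha, hb, hD.apply O hee' hw, hD'.apply O hee' hv, hD.2.1, hD'.2.1, hDg w hw, hDg' v hv,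
    LinearMap.smul_apply, LinearMap.smul_apply, smul_vecMulVec, smul_vecMulVec, O.h2.symm v w] at hc
  have e1 : f2 v w • (vecMulVec (S (S' c)) e - vecMulVec (S' (S c)) e) = (0 : MV) := by
    linear_combination (norm := module) -hc
  have e2 := congrArg (cv O e') ((smul_eq_zero.1 e1).resolve_left hvw)
  rw [map_sub, cv_pure, cv_pure, hee', one_smul, one_smul, map_zero, sub_eq_zero] at e2
  exact e2

variable [Finite F]

/-- In a four dimensional second factor of minus type the components are scalars. -/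
theorem gam_scalar_minus (hN : NoRoot O) (hκ : ¬ 5 ≤ Fintype.card κ) {e e' : κ → F}
    (hee' : f2 e e' = 1) (he : f2 e e = 0) (he' : f2 e' e' = 0) {D : MV ≃ₗ[F] MV} (h : DT O e D)
    : ∀ x₀ : pairPerp O.h2 e e', ∃ c : F, gam O e' D (x₀ : κ → F) = c • LinearMap.id := by
  obtain ⟨hb4, hq, hTS⟩ := O.b4.resolve_left hκ
  set K := pairPerp O.h2 e e'
  have hK : ∀ k ∈ K, f2 k e = 0 ∧ f2 k e' = 0 := fun k hk => (mem_pairPerp O.h2).1 hk
  have HR := O.h2.restrict (pairPerp_nondeg O.h2 he he' hee')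
  have he0 : e ≠ 0 := fun e0 => by
    rw [e0, O.h2.zero_left] at hee'
    exact zero_ne_one hee'
  have haniso : ∀ k ∈ K, f2 k k = 0 → k = 0 := by
    intro k hk hkk
    by_contra hk0
    have h1 := hTS (Submodule.span F {e, k}) fun z hz => by
      obtain ⟨s, t, rfl⟩ := Submodule.mem_span_pair.1 hz
      simp [O.h2.add_left, O.h2.add_right, O.h2.smul_left, O.h2.smul_right, he, hkk, (hK k hk).1,
        O.h2.symm0 (hK k hk).1]
    have hlt : F ∙ e < Submodule.span F {e, k} :=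
      lt_of_le_of_ne (Submodule.span_mono (by simp)) fun h => by
        obtain ⟨t, ht⟩ := Submodule.mem_span_singleton.1
          (show k ∈ F ∙ e by rw [h]; exact Submodule.subset_span (by simp))
        have h2 := (hK k hk).2
        rw [← ht, O.h2.smul_left, hee', mul_one] at h2
        exact hk0 (by rw [← ht, h2, zero_smul])
    have := Submodule.finrank_lt_finrank_of_lt hlt
    rw [finrank_span_singleton he0] at this
    omega
  have hev : ∀ k : K, f2 e (k : κ → F) = 0 := fun k => O.h2.symm0 (hK k k.2).1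
  intro x₀
  by_contra hc
  obtain ⟨η, hη0, hη⟩ := O.h1.exists_iso (hda O)
  obtain ⟨ζ, hζ, hηζ⟩ := exists_pair O.h1 hη0 hη
  let Γ : Set (K → Module.End F (ι → F)) :=
    {γ | ∃ D, DT O e D ∧ ∀ k : K, gam O e' D (k : κ → F) = γ k}
  have hΓ : ∀ θ ∈ pairPerp O.h1 η ζ, ∀ γ ∈ Γ, (fun k => dconj O.h1 η θ (γ k)) ∈ Γ := by
    rintro θ hθ γ ⟨D₁, hD₁, hg⟩
    have hηθ : f1 η θ = 0 := O.h1.symm0 ((mem_pairPerp O.h1).1 hθ).1
    have hθ' : f1 η (-θ) = 0 := by rw [O.h1.neg_right, hηθ, neg_zero]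
    obtain ⟨D₂, hD₂, hg₂⟩ := hD₁.conjL O hee' (inl_eich O hη hθ') (L' := eich O.h1 η θ)
      (fun c => eich_inv O.h1 hη hηθ c)
    obtain ⟨h3, hg3⟩ := hD₁.inv O hee'
    obtain ⟨h4, hg4⟩ := hD₂.mul O hee' h3
    refine ⟨_, h4, fun k => ?_⟩
    rw [hg4 _ (hK k k.2).1, hg3 _ (hK k k.2).1, hg₂ _ (hK k k.2).1, hg]
    show _ = dconj O.h1 η θ (γ k)
    rw [dconj_apply, ← sub_eq_add_neg]
    rfl
  obtain ⟨γ, ⟨D₁, hD₁, hg⟩, hγn, hfix⟩ := exists_fixed_family O.h1 hη Γ hΓ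
    (γ₀ := fun k => gam O e' D (k : κ → F)) ⟨D, h, fun _ => rfl⟩ fun hall => hc (hall x₀)
  have hsym : ∀ k : K, ∀ c d, f1 (γ k c) d = f1 c (γ k d) := fun k c d => by
    rw [← hg]
    exact gam_symm O hN hee' he hD₁ (hK k k.2).1 (hK k k.2).2 c d
  choose τ υ hs using fun k => fixed_shape O.h1 (hda O) (Or.inr hq) hη hζ hηζ (hsym k)
    fun θ hθ => hfix θ hθ k
  have hτ : ∀ k : K, τ k = f1 (γ k η) ζ := fun k => by
    rw [hs, O.h1.add_left, O.h1.smul_left, O.h1.smul_left, hηζ, hη]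
    ring
  have hυ : ∀ k : K, υ k = f1 (γ k ζ) ζ := fun k => by
    rw [hs, O.h1.add_left, O.h1.smul_left, O.h1.smul_left, hζ, O.h1.symm η ζ, hηζ]
    ring
  let φ : (ι → F) → K →ₗ[F] F := fun c =>
    { toFun := fun k => f1 (γ k c) ζ
      map_add' := fun k l => by
        rw [← hg, ← hg, ← hg, Submodule.coe_add, gam_add O, LinearMap.add_apply, O.h1.add_left]
      map_smul' := fun t k => by
        rw [← hg, ← hg, Submodule.coe_smul, gam_smul O, LinearMap.smul_apply, O.h1.smul_left,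
          RingHom.id_apply, smul_eq_mul] }
  obtain ⟨w, hw⟩ := HR.exists_repr (φ η)
  obtain ⟨v, hv⟩ := HR.exists_repr (φ ζ)
  have hw' : ∀ k : K, τ k = f2 (k : κ → F) w := fun k => (hτ k).trans (hw k)
  have hv' : ∀ k : K, υ k = f2 (k : κ → F) v := fun k => (hυ k).trans (hv k)
  have hvv : f2 (v : κ → F) v ≠ 0 := fun e0 => hγn fun k => ⟨τ k, LinearMap.ext fun c => by
    rw [hs, hv', haniso _ v.2 e0, O.h2.zero_right, zero_mul, zero_smul, add_zero]
    rfl⟩
  set P : (ι → F) →ₗ[F] (ι → F) := (O.h1.lin η).smulRight η with hP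
  have hPx : ∀ c, P c = f1 c η • η := fun c => rfl
  obtain ⟨E, hE, -, hEg⟩ := dt_eich O hee' he (hev w)
  obtain ⟨h2, hg2⟩ := hD₁.mul O hee' hE
  have hIn : InS O e e' v P := by
    refine ⟨_, h2, fun y hy => ?_⟩
    have hk : y - f2 y e' • e ∈ K := (mem_pairPerp O.h2).2
      ⟨by rw [O.h2.sub_left, O.h2.smul_left, hy, he, mul_zero, sub_zero],
        by rw [O.h2.sub_left, O.h2.smul_left, hee', mul_one, sub_self]⟩
    have e1 : gam O e' D₁ y = γ ⟨_, hk⟩ := by
      rw [← hg, gam_sub O, gam_smul O, gam_self O hee' hD₁, smul_zero, sub_zero]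
    rw [hg2 y hy, hEg y hy, e1]
    refine LinearMap.ext fun c => ?_
    rw [LinearMap.add_apply, LinearMap.smul_apply, LinearMap.smul_apply, LinearMap.id_apply, hPx, hs,
      hw', hv', O.h2.sub_left, O.h2.sub_left, O.h2.smul_left, O.h2.smul_left, hev w, hev v]
    module
  obtain ⟨θ, hθ, hθθ⟩ := exists_aniso_pairPerp O.h1 (hda O) hη hζ hηζ
  obtain ⟨hθη, hθζ⟩ := (mem_pairPerp O.h1).1 hθ
  have hζθ := O.h1.symm0 hθζ
  have hζn : f1 ζ (-θ) = 0 := by rw [O.h1.neg_right, hζθ, neg_zero]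
  set u := eich O.h1 ζ θ η with hu
  have hu1 : f1 u η = -(f1 θ θ / 2) := by
    rw [hu, eich_apply]
    simp only [O.h1.add_left, O.h1.sub_left, O.h1.smul_left, hη, hηζ, O.h1.symm η ζ, hθη,
      O.h1.symm0 hθη]
    ring
  have hu0 : f1 u η ≠ 0 := by rw [hu1]; exact neg_ne_zero.2 (div_ne_zero hθθ O.h1.two)
  obtain ⟨D₅, hD₅, hg5⟩ := hIn
  obtain ⟨D₆, hD₆, hg6⟩ := hD₅.conjL O hee' (inl_eich O hζ hζθ) (L' := eich O.h1 ζ (-θ))
    (fun c => by rw [eich_mul O.h1 hζ hζθ hζn, add_neg_cancel, eich_zero])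
  have hIn' : InS O e e' v (eich O.h1 ζ θ ∘ₗ P ∘ₗ eich O.h1 ζ (-θ)) :=
    ⟨D₆, hD₆, fun y hy => by rw [hg6 y hy, hg5 y hy, LinearMap.smul_comp, LinearMap.comp_smul]⟩
  have hP' : ∀ c, eich O.h1 ζ θ (P (eich O.h1 ζ (-θ) c)) = f1 c u • u := fun c => by
    rw [hPx, map_smul, hu, ← eich_isom O.h1 hζ hζθ (eich O.h1 ζ (-θ) c) η,
      eich_mul O.h1 hζ hζθ hζn, add_neg_cancel, eich_zero]
  have hcm := InS.comm O hN hee' he (hK v v.2).1 (hK v v.2).2 (hK v v.2).1 hvv ⟨D₅, hD₅, hg5⟩ hIn'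
    (fun c d => by
      rw [hPx, hPx, O.h1.smul_left, O.h1.smul_right, O.h1.symm d η]
      ring)
    (fun c d => by
      show f1 (eich O.h1 ζ θ (P _)) d = f1 c (eich O.h1 ζ θ (P _))
      rw [hP', hP', O.h1.smul_left, O.h1.smul_right, O.h1.symm d u]
      ring) η
  have hR : ∀ c, (eich O.h1 ζ θ ∘ₗ P ∘ₗ eich O.h1 ζ (-θ)) c = f1 c u • u := fun c => hP' c
  rw [hR, show P η = 0 by rw [hPx, hη, zero_smul], map_zero, map_smul, hPx, smul_smul,
    O.h1.symm u η] at hcm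
  rcases smul_eq_zero.1 hcm with h0 | h0
  · exact mul_ne_zero hu0 hu0 h0
  · exact hη0 h0

/-- Elements trivial on the flag are Eichler transformations. -/
theorem DT.eq_eich (hN : NoRoot O) {e e' : κ → F} (hee' : f2 e e' = 1) (he : f2 e e = 0)
    (he' : f2 e' e' = 0) {D : MV ≃ₗ[F] MV} (h : DT O e D) :
    ∃ w ∈ pairPerp O.h2 e e', ∀ c x, D (vecMulVec c x) = vecMulVec c (eich O.h2 e w x) := by
  set K := pairPerp O.h2 e e'
  have hK : ∀ k ∈ K, f2 k e = 0 ∧ f2 k e' = 0 := fun k hk => (mem_pairPerp O.h2).1 hk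
  have HR := O.h2.restrict (pairPerp_nondeg O.h2 he he' hee')
  have hdK' : 5 ≤ Fintype.card κ → 3 ≤ finrank F K := fun hb => by
    have h0 : finrank F (κ → F) ≤ finrank F K + 2 := pairPerp_dim O.h2 e e'
    rw [finrank_κ O] at h0
    omega
  have hscal : 5 ≤ Fintype.card κ → ∀ v₀ ∈ K, v₀ ≠ 0 → f2 v₀ v₀ = 0 →
      ∃ c : F, gam O e' D v₀ = c • LinearMap.id := by
    intro hb v₀ hv₀ hv₀0 hv₀₀
    have hdK := hdK' hb
    obtain ⟨v₁, hv₁, hv₀₁⟩ := exists_pair HR (e := ⟨v₀, hv₀⟩)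
      (fun e0 => hv₀0 (congrArg Subtype.val e0)) hv₀₀
    obtain ⟨z, hz, hzz⟩ := exists_aniso_pairPerp HR hdK hv₀₀ hv₁ hv₀₁
    obtain ⟨hz0, hz1⟩ := (mem_pairPerp HR).1 hz
    change f2 (z : κ → F) v₀ = 0 at hz0
    change f2 (z : κ → F) v₁ = 0 at hz1
    change f2 (z : κ → F) z ≠ 0 at hzz
    change f2 v₀ (v₁ : κ → F) = 1 at hv₀₁
    change f2 (v₁ : κ → F) v₁ = 0 at hv₁
    have hv₀z := O.h2.symm0 hz0
    have hev₀ := O.h2.symm0 (hK v₀ hv₀).1
    have hez := O.h2.symm0 (hK z z.2).1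
    have hezn : f2 e (-(z : κ → F)) = 0 := by rw [O.h2.neg_right, hez, neg_zero]
    have hv₀zn : f2 v₀ (-(z : κ → F)) = 0 := by rw [O.h2.neg_right, hv₀z, neg_zero]
    set t := -f2 (z : κ → F) z
    have ht : t ≠ 0 := neg_ne_zero.2 hzz
    have hS₀ : InS O e e' v₀ (t • gam O e' D v₀) := by
      obtain ⟨D₁, hD₁, hg₁⟩ := h.conjR O hee' hv₀₀ hv₀z hev₀ hez
      obtain ⟨D₂, hD₂, hg₂⟩ := h.conjR O hee' hv₀₀ hv₀zn hev₀ hezn
      obtain ⟨h3, hg3⟩ := h.mul O hee' h
      obtain ⟨h4, hg4⟩ := h3.inv O hee'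
      obtain ⟨h5, hg5⟩ := hD₁.mul O hee' hD₂
      obtain ⟨h6, hg6⟩ := h5.mul O hee' h4
      refine ⟨_, h6, fun x hx => ?_⟩
      rw [hg6 x hx, hg5 x hx, hg4 x hx, hg3 x hx, hg₁ x hx, hg₂ x hx, neg_neg, ← gam_add O,
        ← gam_add O, ← sub_eq_add_neg, ← gam_sub O,
        show eich O.h2 v₀ (-(z : κ → F)) x + eich O.h2 v₀ z x - (x + x) = (f2 x v₀ * t) • v₀ by
          simp only [eich_apply, O.h2.neg_left, O.h2.neg_right]
          have := O.h2.two
          simp only [t]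
          match_scalars <;> field_simp <;> ring,
        gam_smul O, smul_smul]
    have hsymS : ∀ S, InS O e e' v₀ S → ∀ c d, f1 (S c) d = f1 c (S d) := by
      intro S hS c d
      obtain ⟨D', hD', hDg⟩ := hS
      have := gam_symm O hN hee' he hD' (hK v₁ v₁.2).1 (hK v₁ v₁.2).2 c d
      rwa [hDg _ (hK v₁ v₁.2).1, O.h2.symm v₀ v₁, hv₀₁, one_smul] at this
    let 𝒮 : AddSubgroup (Module.End F (ι → F)) :=
      { carrier := {S | InS O e e' v₀ S}
        zero_mem' := by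
          have := inS_one O hee' he hev₀ 0
          rwa [zero_smul] at this
        add_mem' := fun ha hb => InS.add O hee' ha hb
        neg_mem' := fun ha => InS.neg O hee' ha }
    obtain ⟨c, hc⟩ := sym_scalar O.h1 (hda O) (O.small.imp_left (fun h => by rwa [finrank_ι O]))
      𝒮 (fun S hS => hsymS S hS) (fun c => inS_one O hee' he hev₀ c)
      (fun η θ hη hθ S hS => by
        obtain ⟨D', hD', hDg⟩ := hS
        have hθ' : f1 η (-θ) = 0 := by rw [O.h1.neg_right, hθ, neg_zero]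
        obtain ⟨D'', hD'', hDg''⟩ := hD'.conjL O hee' (inl_eich O hη hθ') (L' := eich O.h1 η θ)
          (fun c => eich_inv O.h1 hη hθ c)
        exact ⟨D'', hD'', fun x hx => by
          rw [hDg'' x hx, hDg x hx, LinearMap.smul_comp, LinearMap.comp_smul]; rfl⟩)
      (fun S hS S' hS' => LinearMap.ext fun c => by
        obtain ⟨hz2, -⟩ := hK z z.2
        have hM := (InS.moveR O hee' hS' hv₁ (O.h2.symm0 hz1) (O.h2.symm0 (hK v₁ v₁.2).1)
          hez).moveR O hee' hv₀₀ (θ := (f2 (z : κ → F) z / 2)⁻¹ • (z : κ → F))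
          (by rw [O.h2.smul_right, hv₀z, mul_zero]) hev₀ (by rw [O.h2.smul_right, hez, mul_zero])
        rw [eich_swap O.h2 hv₀₀ hv₀₁ ((mem_pairPerp O.h2).2 ⟨hz0, hz1⟩) hzz] at hM
        exact InS.comm O hN hee' he (hK v₀ hv₀).1 (hK v₀ hv₀).2
          (by rw [O.h2.smul_left, (hK v₁ v₁.2).1, mul_zero])
          (by rw [O.h2.smul_right, hv₀₁, mul_one]
              exact neg_ne_zero.2 (div_ne_zero hzz O.h2.two))
          hS hM (hsymS S hS) (hsymS S' hS') c)
      hS₀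
    refine ⟨t⁻¹ * c, ?_⟩
    rw [← one_smul F (gam O e' D v₀), ← inv_mul_cancel₀ ht, mul_smul, hc, smul_smul]
    rfl
  let P : Submodule F K :=
    { carrier := {x | ∃ c : F, gam O e' D x = c • LinearMap.id}
      zero_mem' := ⟨0, by
        rw [zero_smul, Submodule.coe_zero, ← zero_smul F (0 : κ → F), gam_smul O, zero_smul]⟩
      add_mem' := fun {x y} ⟨c, hc⟩ ⟨d, hd⟩ => ⟨c + d, by
        rw [Submodule.coe_add, gam_add O, hc, hd, add_smul]⟩
      smul_mem' := fun t x ⟨c, hc⟩ => ⟨t * c, by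
        rw [Submodule.coe_smul, gam_smul O, hc, smul_smul]⟩ }
  have hall : ∀ x : K, ∃ c : F, gam O e' D x = c • LinearMap.id := fun x =>
    if hb : 5 ≤ Fintype.card κ then
      singular_span HR (hdK' hb) P (fun y hy hyy =>
        hscal hb y y.2 (fun e0 => hy (Subtype.ext e0)) hyy) x
    else gam_scalar_minus O hN hb hee' he he' h x
  obtain ⟨c₀, hc₀, -⟩ := O.h1.exists_iso (hda O)
  obtain ⟨d₀, hd₀⟩ := O.h1.exists_left hc₀
  let γ : K →ₗ[F] F :=
    { toFun := fun x => f1 d₀ (gam O e' D x c₀)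
      map_add' := fun x y => by
        rw [Submodule.coe_add, gam_add O, LinearMap.add_apply, O.h1.add_right]
      map_smul' := fun t x => by
        rw [Submodule.coe_smul, gam_smul O, LinearMap.smul_apply, O.h1.smul_right, RingHom.id_apply,
          smul_eq_mul] }
  obtain ⟨w, hw⟩ := HR.exists_repr γ
  have hγ : ∀ x : K, gam O e' D x = f2 (x : κ → F) w • LinearMap.id := fun x => by
    obtain ⟨c, hc⟩ := hall x
    have : γ x = c := by
      show f1 d₀ (gam O e' D x c₀) = c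
      rw [hc, LinearMap.smul_apply, LinearMap.id_apply, O.h1.smul_right, hd₀, mul_one]
    rw [hc, ← this, hw]
  have hew : f2 e (-(w : κ → F)) = 0 := by rw [O.h2.neg_right, O.h2.symm0 (hK w w.2).1, neg_zero]
  obtain ⟨E, hE, hEX, hEg⟩ := dt_eich O hee' he hew
  obtain ⟨h1, hg1⟩ := hE.inv O hee'
  obtain ⟨h2, hg2⟩ := h.mul O hee' h1
  have : D * E⁻¹ = 1 := h2.eq_one O hN hee' he fun x hx => by
    have hk : x - f2 x e' • e ∈ K := (mem_pairPerp O.h2).2
      ⟨by rw [O.h2.sub_left, O.h2.smul_left, hx, he, mul_zero, sub_zero],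
        by rw [O.h2.sub_left, O.h2.smul_left, hee', mul_one, sub_self]⟩
    have e1 : gam O e' D x = f2 x w • LinearMap.id := by
      have := hγ ⟨_, hk⟩
      simp only at this
      rwa [gam_sub O, gam_smul O, gam_self O hee' h, smul_zero, sub_zero, O.h2.sub_left,
        O.h2.smul_left, O.h2.symm0 (hK w w.2).1, mul_zero, sub_zero] at this
    rw [hg2 x hx, hg1 x hx, hEg x hx, e1, O.h2.neg_right, neg_neg, add_neg_cancel]
  rw [mul_inv_eq_one] at this
  exact ⟨-(w : κ → F), K.neg_mem w.2, fun c x => by rw [this, hEX]⟩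

end CfsgLib.MaxSub.TensorOO
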