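/-
Without elements of rank two an element moving a singular space of pure tensors to one of the same
kind respects the decomposition.
-/
import Cfsg.Agent.Lib.MaxSub.TensorOO.Qel

set_option autoImplicit false
set_option maxHeartbeats 1000000
set_option linter.unusedSectionVars false

namespace CfsgLib.MaxSub.TensorOO

open Matrix Module
open CfsgLib.MaxSub.TensorSympOrth (SForm ext_pure vmv_smul vmv_sub sub_vmv vmv_neg neg_vmv vmv_ne_zero)
open CfsgLib.MaxSub.TensorLin (Col colMap colMap_apply mem_col vmv_eq_zero vmv_zero vm exists_dot_one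
  colMap_injective finrank_col)

variable {F : Type*} [Field F] {ι κ : Type*} [Fintype ι] [Fintype κ] [DecidableEq ι] [DecidableEq κ]

local notation "MV" => Matrix ι κ F

variable {f1 : (ι → F) → (ι → F) → F} {f2 : (κ → F) → (κ → F) → F}
  {f : Matrix ι κ F → Matrix ι κ F → F} {G : Subgroup (Matrix ι κ F ≃ₗ[F] Matrix ι κ F)}

variable (O : OO f1 f2 f G)
include O

variable [Finite F]

theorem stab_self (hN : NoRoot O) {e : κ → F} (he0 : e ≠ 0) (he : f2 e e = 0) {g : MV ≃ₗ[F] MV}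
    (hg : g ∈ G) (hge : ∀ c, g (vecMulVec c e) ∈ Col e) : Pure g := by
  have hgi := O.isom g hg
  obtain ⟨e', he', hee'⟩ := exists_pair O.h2 he0 he
  set K := pairPerp O.h2 e e'
  have hK : ∀ k ∈ K, f2 k e = 0 ∧ f2 k e' = 0 := fun k hk => (mem_pairPerp O.h2).1 hk
  let α : (ι → F) →ₗ[F] (ι → F) := cv O e' ∘ₗ g.toLinearMap ∘ₗ colMap e
  have hα : ∀ c, g (vecMulVec c e) = vecMulVec (α c) e := fun c => cv_col O hee' (hge c)
  have hαi : Function.Injective α := (injective_iff_map_eq_zero α).2 fun c hc => by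
    have := hα c
    rw [hc, zero_vecMulVec, g.map_eq_zero_iff, vmv_eq_zero] at this
    exact this.resolve_right he0
  let αe := LinearEquiv.ofInjectiveEndo α hαi
  have hαs : ∀ c, α (αe.symm c) = c := αe.apply_symm_apply
  have hP : ∀ X, cv O e X = 0 ↔ cv O e (g X) = 0 := fun X => by
    have key : ∀ c, f1 (cv O e (g X)) (α c) = f1 (cv O e X) c := fun c => by
      rw [← f_cv O, ← f_cv O, ← hα, hgi]
    refine ⟨fun h => O.h1.nondeg _ fun c => ?_, fun h => O.h1.nondeg _ fun c => ?_⟩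
    · rw [← hαs c, key, h, O.h1.zero_left]
    · rw [← key, h, O.h1.zero_left]
  have hconj : ∀ w : K, ∃ w' : K, ∀ X, cv O e X = 0 →
      cv O (w' : κ → F) (g X) = α (cv O (w : κ → F) X) := by
    intro w
    obtain ⟨E, hE, hEX, -⟩ := dt_eich O hee' he (O.h2.symm0 (hK w w.2).1)
    have hEY : ∀ Y, cv O e Y = 0 → ∀ v, f2 e v = 0 → ∀ (E : MV ≃ₗ[F] MV),
        (∀ c x, E (vecMulVec c x) = vecMulVec c (eich O.h2 e v x)) →
        E Y = Y - vecMulVec (cv O v Y) e := by
      intro Y hY v hv E hEX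
      rw [sum_rows O Y, map_sum, map_sum,
        Finset.sum_congr rfl fun i _ => by rw [hEX, eich_pure_vmv O (congrFun hY i)]]
      rw [Finset.sum_add_distrib, sub_eq_add_neg]
      congr 1
      rw [← colMap_apply e (∑ i, cv O v (vecMulVec (Pi.single i 1) (Y i))), map_sum,
        ← Finset.sum_neg_distrib]
      exact Finset.sum_congr rfl fun i _ => by rw [colMap_apply, cv_pure, neg_smul, neg_vmv]
    have hD : DT O e (g * E * g⁻¹) := by
      refine ⟨mul_mem (mul_mem hg hE.1) (inv_mem hg), fun c => ?_, fun X hX => ?_⟩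
      · show g (E (g.symm _)) = _
        rw [← hαs c, ← hα, g.symm_apply_apply, hE.2.1]
      · obtain ⟨Y, rfl⟩ := g.surjective X
        show g (E (g.symm (g Y))) - g Y ∈ _
        rw [g.symm_apply_apply, ← map_sub]
        obtain ⟨a, ha⟩ := mem_col.1 (hE.2.2 Y ((hP Y).2 hX))
        exact mem_col.2 ⟨α a, by rw [← ha, hα]⟩
    obtain ⟨w', hw', hDX⟩ := hD.eq_eich O hN hee' he he'
    refine ⟨⟨w', hw'⟩, fun X hX => ?_⟩
    have h1 : g (E (g.symm (g X))) = g X - vecMulVec (cv O w' (g X)) e :=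
      hEY (g X) ((hP X).1 hX) w' (O.h2.symm0 (hK w' hw').1) _ hDX
    rw [g.symm_apply_apply, hEY X hX w (O.h2.symm0 (hK w w.2).1) E hEX, map_sub, hα, sub_right_inj] at h1
    have := congrArg (cv O e') h1
    rw [cv_pure, cv_pure, hee', one_smul, one_smul] at this
    exact this.symm
  choose π hπ using hconj
  have HR := O.h2.restrict (pairPerp_nondeg O.h2 he he' hee')
  have hcx : ∀ (c : ι → F) (x : κ → F), f2 x e = 0 → cv O e (vecMulVec c x) = (0 : ι → F) :=
    fun c x hx => by rw [cv_pure, hx, zero_smul]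
  obtain ⟨c₀, hc₀, -⟩ := O.h1.exists_iso (hda O)
  have hπi : Function.Injective π := fun w₁ w₂ h => by
    refine HR.ext_left fun z => ?_
    have h1 := hπ w₁ (vecMulVec c₀ (z : κ → F)) (hcx _ _ (hK z z.2).1)
    have h2 := hπ w₂ (vecMulVec c₀ (z : κ → F)) (hcx _ _ (hK z z.2).1)
    rw [h, h2] at h1
    have h3 := hαi h1
    rw [cv_pure, cv_pure, ← sub_eq_zero, ← sub_smul, smul_eq_zero, or_iff_left hc₀, sub_eq_zero] at h3
    show f2 (w₁ : κ → F) z = f2 (w₂ : κ → F) z
    rw [O.h2.symm (z : κ → F) w₁, O.h2.symm (z : κ → F) w₂, h3]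
  haveI : Finite K := Module.finite_of_finite F
  have hπs : Function.Surjective π := Finite.injective_iff_surjective.1 hπi
  obtain ⟨d₀, hd₀⟩ := O.h1.exists_left (fun h : α c₀ = 0 => hc₀ (hαi (by rw [h, map_zero])))
  let pr : (κ → F) →ₗ[F] (κ → F) :=
    LinearMap.id - (O.h2.lin e').smulRight e - (O.h2.lin e).smulRight e'
  have hpr : ∀ y, pr y = y - f2 y e' • e - f2 y e • e' := fun y => rfl
  have hprK : ∀ y, pr y ∈ K := fun y => proj_pairPerp O.h2 he he' hee' y
  have hprid : ∀ y ∈ K, pr y = y := fun y hy => by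
    rw [hpr, (hK y hy).1, (hK y hy).2, zero_smul, zero_smul, sub_zero, sub_zero]
  let β : (κ → F) →ₗ[F] (κ → F) :=
    { toFun := fun x => pr (cw O d₀ (g (vecMulVec c₀ x)))
      map_add' := fun x y => by rw [vecMulVec_add, map_add, map_add, map_add]
      map_smul' := fun t x => by rw [vmv_smul, map_smul, map_smul, map_smul, RingHom.id_apply] }
  have hβK : ∀ x, β x ∈ K := fun x => hprK _
  have hR : ∀ c, ∀ x ∈ K, ∃ a, g (vecMulVec c x) = vecMulVec (α c) (β x) + vecMulVec a e := by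
    intro c x hx
    have hR0 : cv O e (g (vecMulVec c x) - vecMulVec (α c) (β x)) = 0 := by
      rw [map_sub, (hP _).1 (hcx c x (hK x hx).1), cv_pure, (hK _ (hβK x)).1, zero_smul, sub_zero]
    have hmem : g (vecMulVec c x) - vecMulVec (α c) (β x) ∈ Col e := by
      refine col_of_cv O he0 fun y hy => ?_
      have hk : y - f2 y e' • e ∈ K := (mem_pairPerp O.h2).2
        ⟨by rw [O.h2.sub_left, O.h2.smul_left, hy, he, mul_zero, sub_zero],
          by rw [O.h2.sub_left, O.h2.smul_left, hee', mul_one, sub_self]⟩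
      obtain ⟨w, hw⟩ := hπs ⟨_, hk⟩
      have hy' : y = (π w : κ → F) + f2 y e' • e := by rw [hw]; exact (sub_add_cancel _ _).symm
      rw [hy', cv_add_vec O, cv_smul_vec O, hR0, smul_zero, add_zero, map_sub,
        hπ w _ (hcx c x (hK x hx).1), cv_pure, cv_pure, map_smul, ← sub_smul]
      suffices f2 (β x) (π w : κ → F) = f2 x (w : κ → F) by rw [this, sub_self, zero_smul]
      show f2 (pr _) _ = _
      rw [hpr, O.h2.sub_left, O.h2.sub_left, O.h2.smul_left, O.h2.smul_left,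
        O.h2.symm0 (hK _ (π w).2).1, O.h2.symm0 (hK _ (π w).2).2, mul_zero, mul_zero, sub_zero,
        sub_zero, cw_cv O, hπ w _ (hcx c₀ x (hK x hx).1), cv_pure, map_smul, O.h1.smul_left,
        O.h1.symm d₀ (α c₀), hd₀, mul_one]
    obtain ⟨a, ha⟩ := mem_col.1 hmem
    exact ⟨a, by rw [ha]; abel⟩
  -- the similitudes
  have hiso : ∀ c d, ∀ x ∈ K, ∀ y ∈ K, f1 (α c) (α d) * f2 (β x) (β y) = f1 c d * f2 x y := by
    intro c d x hx y hy
    obtain ⟨a, ha⟩ := hR c x hx
    obtain ⟨b, hb⟩ := hR d y hy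
    rw [← O.f_pure c d x y, ← hgi, ha, hb]
    simp only [O.h.add_left, O.h.add_right, O.f_pure, (hK _ (hβK x)).1,
      O.h2.symm0 (hK _ (hβK y)).1, he]
    ring
  obtain ⟨⟨x₀, hx₀⟩, ⟨y₀, hy₀⟩, hxy⟩ : ∃ x y : K, f2 (x : κ → F) y = 1 := by
    have hd : finrank F (κ → F) ≤ finrank F K + 2 := pairPerp_dim O.h2 e e'
    have := hdb O
    haveI : Nontrivial K := Module.nontrivial_of_finrank_pos (R := F) (by omega)
    obtain ⟨y, hy⟩ := exists_ne (0 : K)
    obtain ⟨x, hx⟩ := HR.exists_left hy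
    exact ⟨x, y, hx⟩
  set μ := f2 (β x₀) (β y₀) with hμ
  have hαμ : ∀ c d, f1 (α c) (α d) * μ = f1 c d := fun c d => by
    rw [hμ, hiso c d x₀ hx₀ y₀ hy₀, hxy, mul_one]
  obtain ⟨cc, hcc⟩ := O.h1.exists_left hc₀
  have hμ0 : μ ≠ 0 := fun e0 => one_ne_zero (α := F) (by rw [← hcc, ← hαμ, e0, mul_zero])
  have hβμ : ∀ x ∈ K, ∀ y ∈ K, f2 (β x) (β y) = μ * f2 x y := fun x hx y hy => by
    have h1 := hiso cc c₀ x hx y hy
    have h2 := hαμ cc c₀
    rw [hcc] at h1 h2
    linear_combination μ * h1 - (f2 (β x) (β y)) * h2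
  let M : (κ → F) →ₗ[F] (κ → F) :=
    (O.h2.lin e').smulRight e + (μ • O.h2.lin e).smulRight e' + β ∘ₗ pr
  have hM : ∀ y, M y = f2 y e' • e + (μ * f2 y e) • e' + β (pr y) := fun y => rfl
  have hMe : M e = e := by
    rw [hM, hee', he, one_smul, mul_zero, zero_smul, add_zero,
      show pr e = 0 by rw [hpr, hee', he, one_smul, zero_smul, sub_zero, sub_self], map_zero, add_zero]
  have hMiso : ∀ y y', f2 (M y) (M y') = μ * f2 y y' := by
    intro y y'
    have hy : y = f2 y e' • e + f2 y e • e' + pr y := by rw [hpr]; abel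
    have hy' : y' = f2 y' e' • e + f2 y' e • e' + pr y' := by rw [hpr]; abel
    conv_rhs => rw [hy, hy']
    simp only [hM, O.h2.add_left, O.h2.add_right, O.h2.smul_left, O.h2.smul_right, he, he', hee',
      O.h2.symm e e', (hK _ (hβK (pr y))).1, (hK _ (hβK (pr y))).2, O.h2.symm0 (hK _ (hβK (pr y'))).1,
      O.h2.symm0 (hK _ (hβK (pr y'))).2, (hK _ (hprK y)).1, (hK _ (hprK y)).2,
      O.h2.symm0 (hK _ (hprK y')).1, O.h2.symm0 (hK _ (hprK y')).2, hβμ _ (hprK y) _ (hprK y')]
    ring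
  have hMi : Function.Injective M := (injective_iff_map_eq_zero M).2 fun y hy => O.h2.nondeg y fun y' =>
    (mul_eq_zero.1 (by rw [← hMiso, hy, O.h2.zero_left] : μ * f2 y y' = 0)).resolve_left hμ0
  set p := te αe (LinearEquiv.ofInjectiveEndo M hMi) with hp
  have hpX : ∀ c x, p (vecMulVec c x) = vecMulVec (α c) (M x) := fun c x => te_pure _ _ c x
  have hpi : ∀ X Y, f (p X) (p Y) = f X Y := fun X Y => by
    refine isom_of_pure O p.toLinearMap (fun c x d y => ?_) X Y
    show f (p _) (p _) = _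
    rw [hpX, hpX, O.f_pure, O.f_pure, hMiso, ← hαμ c d]
    ring
  have hpP : ∀ c, p (vecMulVec c e) = g (vecMulVec c e) := fun c => by rw [hpX, hMe, hα]
  set h := p⁻¹ * g with hh
  have hhX : ∀ X, h X = p.symm (g X) := fun X => rfl
  have hhi : ∀ X Y, f (h X) (h Y) = f X Y := fun X Y => by
    rw [← hpi, hhX, hhX, p.apply_symm_apply, p.apply_symm_apply, hgi]
  have hhe : ∀ c, h (vecMulVec c e) = vecMulVec c e := fun c => by
    rw [hhX, ← hpP, p.symm_apply_apply]
  have hh2 : ∀ X, cv O e X = 0 → h X - X ∈ Col e := by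
    have hrow : ∀ c x, f2 x e = 0 → h (vecMulVec c x) - vecMulVec c x ∈ Col e := by
      intro c x hx
      have hk : x - f2 x e' • e ∈ K := (mem_pairPerp O.h2).2
        ⟨by rw [O.h2.sub_left, O.h2.smul_left, hx, he, mul_zero, sub_zero],
          by rw [O.h2.sub_left, O.h2.smul_left, hee', mul_one, sub_self]⟩
      obtain ⟨a, ha⟩ := hR c _ hk
      obtain ⟨k, hk', t, rfl⟩ : ∃ k ∈ K, ∃ t : F, x = k + t • e :=
        ⟨_, hk, _, (sub_add_cancel _ _).symm⟩
      have et : f2 (k + t • e) e' = t := by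
        rw [O.h2.add_left, O.h2.smul_left, (hK k hk').2, hee', mul_one, zero_add]
      rw [et, add_sub_cancel_right] at ha
      have hMk : M k = β k := by
        rw [hM, (hK k hk').1, (hK k hk').2, hprid k hk', zero_smul, mul_zero, zero_smul, zero_add,
          zero_add]
      refine mem_col.2 ⟨αe.symm a, ?_⟩
      rw [vecMulVec_add, vmv_smul, map_add, map_smul, hhe, add_sub_add_right_eq_sub, hhX, ha, map_add,
        ← hMk, ← hpX, p.symm_apply_apply, add_sub_cancel_left]
      refine (p.symm_apply_eq.2 ?_).symm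
      rw [hpX, hMe, hαs]
    intro X hX
    rw [sum_rows O X, map_sum, ← Finset.sum_sub_distrib]
    exact sum_mem fun i _ => hrow _ _ (congrFun hX i)
  have hu : Unip h := by
    refine ⟨3, LinearMap.ext fun X => ?_⟩
    have hn : ∀ Y, ((h.toLinearMap : Module.End F MV) - 1) Y = h Y - Y := fun Y => rfl
    rw [pow_succ', pow_succ', pow_one, Module.End.mul_apply, Module.End.mul_apply,
      LinearMap.zero_apply]
    have h1 : cv O e (h X - X) = 0 := by rw [map_sub, cv_fix O hhi hhe, sub_self]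
    obtain ⟨a, ha⟩ := mem_col.1 (hh2 _ h1)
    rw [hn, hn, hn, ← ha, hhe, sub_self]
  have hpG : p ∈ G := O.split p h hpi ⟨α, M, hpX⟩ hhi hu (by rwa [hh, mul_inv_cancel_left])
  have hD : DT O e h := ⟨mul_mem (inv_mem hpG) hg, hhe, hh2⟩
  obtain ⟨w, -, hw⟩ := hD.eq_eich O hN hee' he he'
  have : Pure h := ⟨LinearMap.id, eich O.h2 e w, hw⟩
  rw [show g = p * h by rw [hh, mul_inv_cancel_left]]
  exact Pure.mul ⟨α, M, hpX⟩ this

/-- An element moving a singular space of pure tensors to one of the same kind is pure. -/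
theorem pure_of_col (hN : NoRoot O) {e e₁ : κ → F} (he0 : e ≠ 0) (he : f2 e e = 0) {g : MV ≃ₗ[F] MV}
    (hg : g ∈ G) (hge : ∀ c, g (vecMulVec c e) ∈ Col e₁) : Pure g := by
  choose a ha using fun c => mem_col.1 (hge c)
  obtain ⟨c₀, hc₀, -⟩ := O.h1.exists_iso (hda O)
  have he₁0 : e₁ ≠ 0 := fun e0 => by
    have := ha c₀
    rw [e0, vmv_zero, eq_comm, g.map_eq_zero_iff, vmv_eq_zero] at this
    exact this.elim hc₀ he0
  have ha0 : ∀ c, a c = 0 → c = 0 := fun c hc => by
    have := ha c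
    rw [hc, zero_vecMulVec, eq_comm, g.map_eq_zero_iff, vmv_eq_zero] at this
    exact this.resolve_right he0
  have hperp : ∀ c, f1 (a c) (a c) * f2 e₁ e₁ = 0 := fun c => by
    rw [← O.f_pure, ha, O.isom g hg, O.f_pure, he, mul_zero]
  have he₁ : f2 e₁ e₁ = 0 := by
    obtain ⟨e₁', he₁', h1⟩ : ∃ y, f2 y y = 0 ∧ f2 e y = 1 := exists_pair O.h2 he0 he
    by_contra hne
    have hall : ∀ c d, f1 (a c) (a d) = 0 := fun c d => by
      have h := O.isom g hg (vecMulVec c e) (vecMulVec d e)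
      rw [← ha, ← ha, O.f_pure, O.f_pure, he, mul_zero] at h
      exact (mul_eq_zero.1 h).resolve_right hne
    let A : (ι → F) →ₗ[F] (ι → F) :=
      { toFun := a
        map_add' := fun c d => colMap_injective he₁0 (by
          simp only [colMap_apply, add_vecMulVec, ha, map_add])
        map_smul' := fun t c => colMap_injective he₁0 (by
          simp only [colMap_apply, smul_vecMulVec, ha, map_smul, RingHom.id_apply]) }
    have hA : Function.Surjective A :=
      LinearMap.injective_iff_surjective.1 ((injective_iff_map_eq_zero A).2 ha0)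
    refine hc₀ (ha0 _ (O.h1.nondeg (a c₀) fun y => ?_))
    obtain ⟨d, rfl⟩ := hA y
    exact hall c₀ d
  obtain ⟨M, ⟨-, u, hu, huX⟩, t, -, hMe⟩ := inr_move O he₁0 he₁ he0 he
  have h1 : Pure (u * g) := stab_self O hN he0 he (mul_mem hu hg) fun c => by
    rw [LinearEquiv.mul_apply, ← ha, huX, hMe, vmv_smul, ← smul_vecMulVec]
    exact mem_col.2 ⟨_, rfl⟩
  have h2 := (pure_inv O (g := u) ⟨LinearMap.id, M, huX⟩).mul h1
  rwa [inv_mul_cancel_left] at h2

end CfsgLib.MaxSub.TensorOO
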