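/-
Fixed spaces of pure unipotent maps, and the pure unipotent isometries with small displacement.
-/
import Cfsg.Agent.Lib.MaxSub.TensorOO.Basic

set_option autoImplicit false
set_option maxHeartbeats 1000000
set_option linter.unusedSectionVars false

namespace CfsgLib.MaxSub.TensorOO

open Matrix Module
open CfsgLib.MaxSub.TensorSympOrth (SForm ext_pure vmv_smul vmv_sub sub_vmv vmv_neg neg_vmv vmv_ne_zero)
open CfsgLib.MaxSub.TensorLin (Col colMap colMap_apply mem_col vmv_eq_zero vmv_zero vm exists_dot_one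
  colMap_injective finrank_col)

variable {F : Type*} [Field F]

section

variable {W : Type*} [AddCommGroup W] [Module F W] [Nontrivial W] (p : ℕ) [Fact p.Prime] [CharP F p]

/-- Powers of unipotent maps. -/
theorem pow_eq_one_of_nil {A : Module.End F W} (h : IsNilpotent (A - 1)) :
    ∃ k, A ^ p ^ k = 1 := by
  have : CharP (Module.End F W) p :=
    charP_of_injective_algebraMap (algebraMap F (Module.End F W)).injective p
  obtain ⟨n, hn⟩ := h
  refine ⟨n, ?_⟩
  have hle : n ≤ p ^ n := (Nat.lt_pow_self (Fact.out : p.Prime).one_lt).le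
  have e := sub_pow_char_pow_of_commute (p := p) (n := n) (Commute.one_right A)
  rw [one_pow, pow_eq_zero_of_le hle hn, eq_comm, sub_eq_zero] at e
  exact e

theorem nil_of_pow_eq_one {A : Module.End F W} {k : ℕ} (h : A ^ p ^ k = 1) : IsNilpotent (A - 1) := by
  have : CharP (Module.End F W) p :=
    charP_of_injective_algebraMap (algebraMap F (Module.End F W)).injective p
  exact ⟨p ^ k, by rw [sub_pow_char_pow_of_commute (p := p) (n := k) (Commute.one_right A), one_pow, h, sub_self]⟩

end

/-- A map with nilpotent displacement moves a non-zero invariant space into a proper subspace. -/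
theorem map_ne_of_nil {W : Type*} [AddCommGroup W] [Module F W] {N : Module.End F W}
    (hN : IsNilpotent N) {U : Submodule F W} (hU : U ≠ ⊥) : U.map N ≠ U := fun h => by
  obtain ⟨n, hn⟩ := hN
  refine hU ((Submodule.eq_bot_iff _).2 fun x hx => ?_)
  have : ∀ j, ∀ x ∈ U, ∃ y ∈ U, (N ^ j) y = x := by
    intro j
    induction j with
    | zero => exact fun x hx => ⟨x, hx, rfl⟩
    | succ j ih =>
      intro x hx
      rw [← h] at hx
      obtain ⟨y, hy, rfl⟩ := hx
      obtain ⟨z, hz, rfl⟩ := ih y hy
      exact ⟨z, hz, by rw [pow_succ', Module.End.mul_apply]⟩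
  obtain ⟨y, -, rfl⟩ := this n x hx
  rw [hn, LinearMap.zero_apply]

variable {ι κ : Type*} [Fintype ι] [Fintype κ] [DecidableEq ι] [DecidableEq κ]

local notation "MV" => Matrix ι κ F

/-- The rows under a functional. -/
def rowc (φ : (ι → F) →ₗ[F] F) : Matrix ι κ F →ₗ[F] (κ → F) where
  toFun X j := φ (fun i => X i j)
  map_add' X Y := funext fun j => φ.map_add (fun i => X i j) (fun i => Y i j)
  map_smul' t X := funext fun j => φ.map_smul t (fun i => X i j)

theorem rowc_pure (φ : (ι → F) →ₗ[F] F) (c : ι → F) (x : κ → F) :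
    rowc φ (vecMulVec c x) = φ c • x := funext fun j => by
  show φ (fun i => c i * x j) = _
  rw [show (fun i => c i * x j) = x j • c from funext fun i => mul_comm _ _, map_smul, Pi.smul_apply,
    smul_eq_mul, smul_eq_mul, mul_comm]

theorem rowc_dot (φ : (ι → F) →ₗ[F] F) (X : MV) (μ : κ → F) : rowc φ X ⬝ᵥ μ = φ (X *ᵥ μ) := by
  have e : X *ᵥ μ = ∑ j, μ j • fun i => X i j := by
    funext i
    simp only [Matrix.mulVec, dotProduct, Finset.sum_apply, Pi.smul_apply, smul_eq_mul, mul_comm]
  rw [e, map_sum]
  exact Finset.sum_congr rfl fun j _ => by rw [map_smul, smul_eq_mul, mul_comm]; rfl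

/-- Applying a matrix to a vector. -/
def mvl (μ : κ → F) : Matrix ι κ F →ₗ[F] (ι → F) where
  toFun X := X *ᵥ μ
  map_add' X Y := Matrix.add_mulVec X Y μ
  map_smul' t X := Matrix.smul_mulVec t X μ

/-- The fixed space of a pure map with unipotent first factor. -/
theorem ker_bound {L : (ι → F) →ₗ[F] (ι → F)} (M : (κ → F) →ₗ[F] (κ → F))
    (hL : IsNilpotent ((L : Module.End F (ι → F)) - 1)) :
    finrank F (LinearMap.ker ((tm L M : Module.End F MV) - 1)) ≤
      Fintype.card ι * finrank F (LinearMap.ker ((M : Module.End F (κ → F)) - 1)) := by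
  set k := finrank F (LinearMap.ker ((M : Module.End F (κ → F)) - 1))
  let S : Submodule F (ι → F) → Submodule F MV := fun U =>
    LinearMap.ker ((tm L M : Module.End F MV) - 1) ⊓
      ⨅ μ : κ → F, U.comap (mvl μ)
  have hmem : ∀ U X, X ∈ S U ↔ tm L M X = X ∧ ∀ μ, X *ᵥ μ ∈ U := fun U X => by
    simp [S, sub_eq_zero, Submodule.mem_iInf, mvl]
  have main : ∀ d, ∀ U : Submodule F (ι → F), finrank F U = d → (∀ u ∈ U, L u ∈ U) →
      finrank F (S U) ≤ d * k := by
    intro d
    induction d with
    | zero =>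
      intro U hU _
      rw [zero_mul, nonpos_iff_eq_zero, Submodule.finrank_eq_zero, Submodule.eq_bot_iff]
      intro X hX
      rw [Submodule.finrank_eq_zero] at hU
      ext i j
      have := ((hmem U X).1 hX).2 (Pi.single j 1)
      rw [hU, Submodule.mem_bot] at this
      simpa using congrFun this i
    | succ d ih =>
      intro U hU hLU
      have hU0 : U ≠ ⊥ := fun e => by rw [e, finrank_bot] at hU; omega
      set N : Module.End F (ι → F) := (L : Module.End F (ι → F)) - 1
      have hle : U.map N ≤ U := by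
        rintro _ ⟨u, hu, rfl⟩
        exact U.sub_mem (hLU u hu) hu
      obtain ⟨u, hu, hun⟩ := SetLike.exists_of_lt (lt_of_le_of_ne hle (map_ne_of_nil hL hU0))
      obtain ⟨φ, hφu, hφ⟩ := Submodule.exists_dual_map_eq_bot_of_notMem hun inferInstance
      have hφN : ∀ v ∈ U, φ (L v) = φ v := fun v hv => by
        have := Submodule.mem_map_of_mem (f := φ) (Submodule.mem_map_of_mem (f := N) hv)
        rw [hφ, Submodule.mem_bot] at this
        rwa [LinearMap.sub_apply, Module.End.one_apply, map_sub, sub_eq_zero] at this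
      let φU : U →ₗ[F] F := φ.comp U.subtype
      have hd : finrank F (U ⊓ LinearMap.ker φ : Submodule F (ι → F)) = d := by
        have h1 := LinearMap.finrank_range_add_finrank_ker φU
        have h2 : LinearMap.range φU = ⊤ := by
          refine LinearMap.range_eq_top.2 fun t => ⟨(t * (φ u)⁻¹) • ⟨u, hu⟩, ?_⟩
          show φ ((t * (φ u)⁻¹) • u) = t
          rw [map_smul, smul_eq_mul, mul_assoc, inv_mul_cancel₀ hφu, mul_one]
        have h3 : LinearMap.ker φU = (U ⊓ LinearMap.ker φ).comap U.subtype := by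
          ext v
          simp [φU]
        rw [h2, finrank_top, finrank_self, h3,
          LinearEquiv.finrank_eq (Submodule.comapSubtypeEquivOfLe inf_le_left), hU] at h1
        omega
      have ih' := ih _ hd fun v hv => ⟨hLU v hv.1, by
        show φ (L v) = 0
        rw [hφN v hv.1]
        exact hv.2⟩
      let Ψ : S U →ₗ[F] (κ → F) := (rowc φ).comp (S U).subtype
      have hrange : LinearMap.range Ψ ≤ LinearMap.ker ((M : Module.End F (κ → F)) - 1) := by
        rintro _ ⟨⟨X, hX⟩, rfl⟩
        obtain ⟨hX1, hX2⟩ := (hmem U X).1 hX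
        rw [LinearMap.mem_ker, LinearMap.sub_apply, Module.End.one_apply, sub_eq_zero]
        show M (rowc φ X) = rowc φ X
        refine (dotProduct_eq _ _ fun μ => ?_)
        conv_rhs => rw [← hX1, rowc_dot, tm_mulVec, hφN _ (hX2 _), ← rowc_dot]
        rw [← LinearMap.toMatrix'_mulVec, dotProduct_mulVec, Matrix.vecMul_transpose]
      have hker : finrank F (LinearMap.ker Ψ) ≤ d * k := by
        refine le_trans (le_of_eq ?_) ((Submodule.finrank_mono (show
          (LinearMap.ker Ψ).map (S U).subtype ≤ S (U ⊓ LinearMap.ker φ) from ?_)).trans ih')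
        · exact (LinearEquiv.finrank_eq (Submodule.equivMapOfInjective _
            (S U).injective_subtype _))
        · rintro _ ⟨⟨X, hX⟩, hX0, rfl⟩
          obtain ⟨hX1, hX2⟩ := (hmem U X).1 hX
          refine (hmem _ X).2 ⟨hX1, fun μ => ⟨hX2 μ, ?_⟩⟩
          show φ (X *ᵥ μ) = 0
          rw [← rowc_dot, show rowc φ X = 0 from hX0, zero_dotProduct]
      have h1 := LinearMap.finrank_range_add_finrank_ker Ψ
      have h2 := Submodule.finrank_mono hrange
      rw [Nat.succ_mul]
      omega
  have htop := main _ ⊤ rfl (fun _ _ => trivial)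
  rw [finrank_top, Module.finrank_fintype_fun_eq_card] at htop
  exact (Submodule.finrank_mono (fun X hX => (hmem ⊤ X).2
    ⟨sub_eq_zero.1 hX, fun _ => trivial⟩)).trans htop

/-- The displacement of a pure map with unipotent first factor. -/
theorem rank_bound {L : (ι → F) →ₗ[F] (ι → F)} (M : (κ → F) →ₗ[F] (κ → F))
    (hL : IsNilpotent ((L : Module.End F (ι → F)) - 1)) :
    Fintype.card ι * finrank F (LinearMap.range ((M : Module.End F (κ → F)) - 1)) ≤
      finrank F (LinearMap.range ((tm L M : Module.End F MV) - 1)) := by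
  have h := ker_bound M hL
  have h1 := LinearMap.finrank_range_add_finrank_ker ((M : Module.End F (κ → F)) - 1)
  have h2 := LinearMap.finrank_range_add_finrank_ker ((tm L M : Module.End F MV) - 1)
  rw [Module.finrank_fintype_fun_eq_card] at h1
  rw [Module.finrank_matrix, finrank_self, mul_one, ← h1, Nat.mul_add] at h2
  omega

/-- The displacement of a pure map with unipotent second factor. -/
theorem rank_bound' (L : (ι → F) →ₗ[F] (ι → F)) {M : (κ → F) →ₗ[F] (κ → F)}
    (hM : IsNilpotent ((M : Module.End F (κ → F)) - 1)) :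
    Fintype.card κ * finrank F (LinearMap.range ((L : Module.End F (ι → F)) - 1)) ≤
      finrank F (LinearMap.range ((tm L M : Module.End F MV) - 1)) := by
  refine (rank_bound L hM).trans (le_of_eq ?_)
  let τ : Matrix κ ι F ≃ₗ[F] MV := Matrix.transposeLinearEquiv κ ι F F
  have e : ((tm L M : Module.End F MV) - 1) =
      τ.toLinearMap ∘ₗ ((tm M L : Module.End F (Matrix κ ι F)) - 1) ∘ₗ τ.symm.toLinearMap := by
    refine LinearMap.ext fun X => ?_
    show tm L M X - X = τ (tm M L (τ.symm X) - τ.symm X)
    rw [map_sub, τ.apply_symm_apply]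
    congr 1
    refine ext_pure (A := tm L M) (B := τ.toLinearMap ∘ₗ tm M L ∘ₗ τ.symm.toLinearMap) (fun c u => ?_) X
    show tm L M (vecMulVec c u) = τ (tm M L (τ.symm (vecMulVec c u)))
    have h1 : τ.symm (vecMulVec c u) = vecMulVec u c := Matrix.transpose_vecMulVec c u
    rw [h1, tm_pure, tm_pure]
    exact (Matrix.transpose_vecMulVec _ _).symm
  rw [e, LinearMap.range_comp, LinearMap.range_comp_of_range_eq_top _ (LinearEquiv.range _),
    LinearEquiv.finrank_map_eq]

/-- The displacement of a map on the second factor. -/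
theorem range_right_le {N : (κ → F) →ₗ[F] (κ → F)} {A : MV →ₗ[F] MV}
    (hA : ∀ c x, A (vecMulVec c x) = vecMulVec c (N x)) {l : Submodule F (κ → F)}
    (hl : ∀ x, N x ∈ l) (X : MV) (i : ι) : A X i ∈ l := by
  have e : X = ∑ r, vecMulVec (Pi.single r (1 : F)) (X r) := by
    ext r j
    simp [Matrix.sum_apply, vecMulVec_apply, Pi.single_apply]
  have hcoe : ∀ Z : ι → MV, (∑ r, Z r) i = ∑ r, Z r i := fun Z => funext fun j => by
    rw [Matrix.sum_apply, Finset.sum_apply]
  rw [e, map_sum, hcoe]
  refine sum_mem fun r _ => ?_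
  rw [hA, show vecMulVec (Pi.single r (1 : F)) (N (X r)) i = (Pi.single r (1 : F) : ι → F) i • N (X r)
    from rfl]
  exact l.smul_mem _ (hl _)

/-- Spaces of rows in a two dimensional space. -/
theorem finrank_rows_pair (u v : κ → F) (S : Submodule F MV)
    (hS : ∀ X ∈ S, ∀ i, X i ∈ Submodule.span F {u, v}) : finrank F S ≤ 2 * Fintype.card ι := by
  let Φ : (ι → F) × (ι → F) →ₗ[F] MV := (colMap u).coprod (colMap v)
  have hle : S ≤ LinearMap.range Φ := fun X hX => by
    choose s t hst using fun i => Submodule.mem_span_pair.1 (hS X hX i)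
    refine ⟨(s, t), ?_⟩
    ext i j
    show (vecMulVec s u + vecMulVec t v) i j = X i j
    rw [← hst i]
    rfl
  have h1 := (Submodule.finrank_mono hle).trans (LinearMap.finrank_range_le Φ)
  rw [Module.finrank_prod, Module.finrank_fintype_fun_eq_card] at h1
  omega

variable {f1 : (ι → F) → (ι → F) → F} {f2 : (κ → F) → (κ → F) → F}
  {f : Matrix ι κ F → Matrix ι κ F → F} {G : Subgroup (Matrix ι κ F ≃ₗ[F] Matrix ι κ F)}

variable (O : OO f1 f2 f G)
include O

theorem unip_right {g : MV ≃ₗ[F] MV} {M : (κ → F) →ₗ[F] (κ → F)}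
    (hg : ∀ c x, g (vecMulVec c x) = vecMulVec c (M x))
    (hM : IsNilpotent ((M : Module.End F (κ → F)) - 1)) : Unip g := by
  have h := IsNilpotent.map hM (tmR (ι := ι))
  rw [map_sub, map_one] at h
  have e : (g.toLinearMap : Module.End F MV) = tmR M := LinearMap.ext fun X =>
    Pure.eq_tm (L := LinearMap.id) hg X
  rwa [Unip, e]

/-- A unipotent isometry has displacement of dimension other than one. -/
theorem rank_ne_one {U : Type*} [AddCommGroup U] [Module F U] [FiniteDimensional F U]
    {g : U → U → F} (H : SForm g) {A : Module.End F U} (hA : ∀ x y, g (A x) (A y) = g x y)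
    (hu : IsNilpotent (A - 1)) : finrank F (LinearMap.range (A - 1)) ≠ 1 := by
  intro h
  obtain ⟨v, hv⟩ := finrank_eq_one_iff'.1 h
  obtain ⟨hv0, hspan⟩ := hv
  choose c hc using hspan
  have hv0' : (v : U) ≠ 0 := fun e => hv0 (Subtype.ext e)
  let φ : U →ₗ[F] F :=
    { toFun := fun x => c ⟨(A - 1) x, LinearMap.mem_range_self _ x⟩
      map_add' := fun x y => by
        refine smul_left_injective F hv0' ?_
        simp only [add_smul]
        have := fun z => congrArg Subtype.val (hc ⟨(A - 1) z, LinearMap.mem_range_self _ z⟩)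
        simp only [Submodule.coe_smul] at this
        rw [this, this, this, map_add]
      map_smul' := fun t x => by
        refine smul_left_injective F hv0' ?_
        have := fun z => congrArg Subtype.val (hc ⟨(A - 1) z, LinearMap.mem_range_self _ z⟩)
        simp only [Submodule.coe_smul] at this
        simp only [RingHom.id_apply, smul_eq_mul, mul_smul]
        rw [this, this, map_smul] }
  have hφ : ∀ x, A x = x + φ x • (v : U) := fun x => by
    have := congrArg Subtype.val (hc ⟨(A - 1) x, LinearMap.mem_range_self _ x⟩)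
    rw [show φ x • (v : U) = (A - 1) x from this, LinearMap.sub_apply, Module.End.one_apply]
    abel
  have hφv : φ v = 0 := by
    obtain ⟨n, hn⟩ := hu
    have : ∀ j, ((A - 1) ^ j) (v : U) = φ v ^ j • (v : U) := fun j => by
      induction j with
      | zero => simp
      | succ j ih =>
        rw [pow_succ', Module.End.mul_apply, ih, map_smul, LinearMap.sub_apply, Module.End.one_apply,
          hφ, add_sub_cancel_left, smul_smul, pow_succ]
    have h2 := this n
    rw [hn, LinearMap.zero_apply, eq_comm, smul_eq_zero, or_iff_left hv0'] at h2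
    exact eq_zero_of_pow_eq_zero h2
  have h0 := not_rank_one H hv0' (fun x y => by rw [← hφ, ← hφ, hA]) hφv
  obtain ⟨x, hx⟩ := v.2
  refine hv0' ?_
  rw [← hx, LinearMap.sub_apply, Module.End.one_apply, hφ, h0, LinearMap.zero_apply, zero_smul,
    add_zero, sub_self]

/-- Pure unipotent isometries with small displacement act on the second factor only. -/
theorem pure_unip [Finite F] (hab : Fintype.card ι < Fintype.card κ) {x : MV ≃ₗ[F] MV} (hi : ∀ X Y, f (x X) (x Y) = f X Y) (hp : Pure x)
    (hu : Unip x)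
    (hr : finrank F (LinearMap.range ((x.toLinearMap : Module.End F MV) - 1)) ≤ 2 * Fintype.card ι) :
    ∃ M : (κ → F) →ₗ[F] (κ → F), (∀ u v, f2 (M u) (M v) = f2 u v) ∧
      IsNilpotent ((M : Module.End F (κ → F)) - 1) ∧
      (∀ c u, x (vecMulVec c u) = vecMulVec c (M u)) ∧
      finrank F (LinearMap.range ((M : Module.End F (κ → F)) - 1)) ≤ 2 := by
  obtain ⟨L, M, hx⟩ := hp
  obtain ⟨p, hp'⟩ := CharP.exists F
  have : Fact p.Prime := ⟨CharP.char_is_prime F p⟩
  haveI := nonempty_ι O
  haveI := nonempty_κ O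
  obtain ⟨c₀, hc₀⟩ := exists_ne (0 : ι → F)
  obtain ⟨y₀, hy₀⟩ := exists_ne (0 : κ → F)
  haveI : Nontrivial MV := ⟨⟨vecMulVec c₀ y₀, 0, vmv_ne_zero hc₀ hy₀⟩⟩
  obtain ⟨k, hk⟩ := pow_eq_one_of_nil p hu
  set N := p ^ k with hN
  have hinj : Function.Injective fun t : F => t ^ N := fun a b hab => by
    have h : (a - b) ^ N = 0 := by rw [hN, sub_pow_char_pow, sub_eq_zero]; exact hab
    exact sub_eq_zero.1 (eq_zero_of_pow_eq_zero h)
  have hpow : ∀ j c u, ((x.toLinearMap : Module.End F MV) ^ j) (vecMulVec c u) =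
      vecMulVec (((L : Module.End F (ι → F)) ^ j) c) (((M : Module.End F (κ → F)) ^ j) u) := by
    intro j
    induction j with
    | zero => intro c u; simp
    | succ j ih =>
      intro c u
      rw [pow_succ', pow_succ', pow_succ', Module.End.mul_apply, ih]
      exact hx _ _
  have hN1 : ∀ c u, vecMulVec (((L : Module.End F (ι → F)) ^ N) c)
      (((M : Module.End F (κ → F)) ^ N) u) = vecMulVec c u := fun c u => by
    rw [← hpow, hk, Module.End.one_apply]
  obtain ⟨ν, hν⟩ := exists_dot_one hy₀
  set s := ((M : Module.End F (κ → F)) ^ N) y₀ ⬝ᵥ ν with hs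
  have hLN : ∀ c, s • ((L : Module.End F (ι → F)) ^ N) c = c := fun c => by
    have := congrArg (fun X : MV => X *ᵥ ν) (hN1 c y₀)
    simp only [vm, hν, one_smul] at this
    exact this
  have hs0 : s ≠ 0 := fun e => hc₀ (by rw [← hLN c₀, e, zero_smul])
  obtain ⟨t, ht⟩ := (Finite.injective_iff_surjective.1 hinj) s
  have ht' : t ^ N = s := ht
  have ht0 : t ≠ 0 := fun e => hs0 (by
    rw [← ht', e, zero_pow (by rw [hN]; exact (pow_pos (Fact.out : p.Prime).pos k).ne')])
  let L' : Module.End F (ι → F) := t • L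
  let M' : Module.End F (κ → F) := t⁻¹ • M
  have hx' : ∀ c u, x (vecMulVec c u) = vecMulVec (L' c) (M' u) := fun c u => by
    show _ = vecMulVec (t • L c) (t⁻¹ • M u)
    rw [smul_vecMulVec, vmv_smul, smul_smul, mul_inv_cancel₀ ht0, one_smul, hx]
  have hL' : L' ^ N = 1 := LinearMap.ext fun c => by
    show ((t • (L : Module.End F (ι → F))) ^ N) c = c
    rw [smul_pow, LinearMap.smul_apply, ht', hLN]
  have hM' : M' ^ N = 1 := LinearMap.ext fun u => by
    show ((t⁻¹ • (M : Module.End F (κ → F))) ^ N) u = u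
    rw [smul_pow, LinearMap.smul_apply, inv_pow, ht', inv_smul_eq_iff₀ hs0]
    obtain ⟨η, hη⟩ := exists_dot_one hc₀
    have := congrArg (fun X : MV => η ᵥ* X) (hN1 c₀ u)
    simp only [vecMul_vecMulVec] at this
    rw [dotProduct_comm η c₀, hη] at this
    have h2 : η ⬝ᵥ ((L : Module.End F (ι → F)) ^ N) c₀ = s⁻¹ := by
      have h3 := congrArg (fun c => η ⬝ᵥ c) (hLN c₀)
      simp only [dotProduct_smul, smul_eq_mul] at h3
      rw [dotProduct_comm η c₀, hη] at h3
      exact eq_inv_of_mul_eq_one_right h3
    rw [h2, one_smul, inv_smul_eq_iff₀ hs0] at this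
    exact this
  have nL : IsNilpotent (L' - 1) := nil_of_pow_eq_one p hL'
  have nM : IsNilpotent (M' - 1) := nil_of_pow_eq_one p hM'
  have heq : (x.toLinearMap : Module.End F MV) = tm L' M' := LinearMap.ext (Pure.eq_tm hx')
  rw [heq] at hr
  -- the similitude constants
  have hiso : ∀ c d u v, f1 (L' c) (L' d) * f2 (M' u) (M' v) = f1 c d * f2 u v := fun c d u v => by
    rw [← O.f_pure, ← O.f_pure, ← hx', ← hx', hi]
  obtain ⟨u₀, hu₀⟩ := O.h2.exists_left hy₀
  set m := f2 (M' u₀) (M' y₀) with hm
  have hLm : ∀ c d, f1 (L' c) (L' d) * m = f1 c d := fun c d => by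
    rw [hm, hiso, hu₀, mul_one]
  obtain ⟨d₀, hd₀⟩ := O.h1.exists_left hc₀
  have hm0 : m ≠ 0 := fun e => one_ne_zero (α := F) (by rw [← hd₀, ← hLm, e, mul_zero])
  have hm1 : m = 1 := by
    have hit : ∀ j c d, f1 ((L' ^ j) c) ((L' ^ j) d) * m ^ j = f1 c d := by
      intro j
      induction j with
      | zero => intro c d; simp
      | succ j ih =>
        intro c d
        rw [pow_succ, Module.End.mul_apply, Module.End.mul_apply, pow_succ, ← mul_assoc, ih, hLm]
    have := hit N d₀ c₀
    rw [hL', Module.End.one_apply, Module.End.one_apply, hd₀, one_mul] at this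
    exact hinj (this.trans (one_pow N).symm)
  have hLi : ∀ c d, f1 (L' c) (L' d) = f1 c d := fun c d => by rw [← hLm c d, hm1, mul_one]
  have hMi : ∀ u v, f2 (M' u) (M' v) = f2 u v := fun u v => by
    have := hiso d₀ c₀ u v
    rwa [hLi, hd₀, one_mul, one_mul] at this
  have hL1 : L' = 1 := by
    have hne := rank_ne_one O O.h1 hLi nL
    have h1 := (rank_bound' L' nM).trans hr
    have h0 : finrank F (LinearMap.range (L' - 1)) = 0 := by
      by_contra hc
      have : Fintype.card κ * 2 ≤ Fintype.card κ * finrank F (LinearMap.range (L' - 1)) :=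
        Nat.mul_le_mul_left _ (by omega)
      omega
    rw [Submodule.finrank_eq_zero, LinearMap.range_eq_bot, sub_eq_zero] at h0
    exact h0
  refine ⟨M', hMi, nM, fun c u => by rw [hx', hL1, Module.End.one_apply], ?_⟩
  have h2 := (rank_bound M' nL).trans hr
  rw [mul_comm 2 (Fintype.card ι)] at h2
  exact Nat.le_of_mul_le_mul_left h2 (by have := O.a3; omega)

end CfsgLib.MaxSub.TensorOO
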