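/-
Without elements of rank two an element moving a root element of the second factor to a pure element
is pure, and a p-subgroup containing such a root element consists of pure elements.
-/
import Cfsg.Agent.Lib.MaxSub.TensorOO.Stab
import Cfsg.Agent.Lib.MaxSub.TensorOO.Unipotent

set_option autoImplicit false
set_option maxHeartbeats 1000000
set_option linter.unusedSectionVars false

namespace CfsgLib.MaxSub.TensorOO

open Matrix Module
open CfsgLib.MaxSub.TensorSympOrth (SForm ext_pure vmv_smul vmv_sub sub_vmv vmv_neg neg_vmv vmv_ne_zero)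
open CfsgLib.MaxSub.TensorLin (Col colMap colMap_apply mem_col vmv_eq_zero vmv_zero vm exists_dot_one
  colMap_injective finrank_col)

variable {F : Type*} [Field F] {ι κ : Type*} [Fintype ι] [Fintype κ] [DecidableEq ι] [DecidableEq κ]

local notation "MV" => Matrix ι κ F

/-- The displacement. -/
def dsp (g : Matrix ι κ F ≃ₗ[F] Matrix ι κ F) : Module.End F (Matrix ι κ F) :=
  (g.toLinearMap : Module.End F (Matrix ι κ F)) - 1

theorem dsp_apply (g : MV ≃ₗ[F] MV) (X : MV) : dsp g X = g X - X := rfl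

theorem dsp_conj (g h : MV ≃ₗ[F] MV) (X : MV) :
    dsp (g * h * g⁻¹) X = g (dsp h (g.symm X)) := by
  rw [dsp_apply, dsp_apply, map_sub, g.apply_symm_apply]
  rfl

theorem dsp_conj_pow (g h : MV ≃ₗ[F] MV) (n : ℕ) (X : MV) :
    ((dsp (g * h * g⁻¹)) ^ n) X = g (((dsp h) ^ n) (g.symm X)) := by
  induction n generalizing X with
  | zero => simp
  | succ n ih =>
    rw [pow_succ, pow_succ, Module.End.mul_apply, Module.End.mul_apply, ih, dsp_conj,
      g.symm_apply_apply]

theorem Unip.conj {h : MV ≃ₗ[F] MV} (hu : Unip h) (g : MV ≃ₗ[F] MV) : Unip (g * h * g⁻¹) := by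
  obtain ⟨n, hn⟩ := hu
  exact ⟨n, LinearMap.ext fun X => by
    show ((dsp (g * h * g⁻¹)) ^ n) X = 0
    rw [dsp_conj_pow, show (dsp h) ^ n = 0 from hn, LinearMap.zero_apply, map_zero]⟩

theorem dsp_right {g : MV ≃ₗ[F] MV} {M : (κ → F) →ₗ[F] (κ → F)}
    (hg : ∀ c x, g (vecMulVec c x) = vecMulVec c (M x)) (c : ι → F) (x : κ → F) :
    dsp g (vecMulVec c x) = vecMulVec c (((M : Module.End F (κ → F)) - 1) x) := by
  rw [dsp_apply, hg, LinearMap.sub_apply, Module.End.one_apply, vmv_sub]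

theorem dsp_right_pow {g : MV ≃ₗ[F] MV} {M : (κ → F) →ₗ[F] (κ → F)}
    (hg : ∀ c x, g (vecMulVec c x) = vecMulVec c (M x)) (n : ℕ) (c : ι → F) (x : κ → F) :
    ((dsp g) ^ n) (vecMulVec c x) = vecMulVec c ((((M : Module.End F (κ → F)) - 1) ^ n) x) := by
  induction n generalizing x with
  | zero => simp
  | succ n ih => rw [pow_succ, pow_succ, Module.End.mul_apply, Module.End.mul_apply, dsp_right hg, ih]

variable {f1 : (ι → F) → (ι → F) → F} {f2 : (κ → F) → (κ → F) → F}
  {f : Matrix ι κ F → Matrix ι κ F → F} {G : Subgroup (Matrix ι κ F ≃ₗ[F] Matrix ι κ F)}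

/-- A totally singular line of the second factor, given by two points. -/
def TL (_O : OO f1 f2 f G) (e v : κ → F) : Prop :=
  f2 e e = 0 ∧ f2 v v = 0 ∧ f2 e v = 0 ∧ e ≠ 0 ∧ v ∉ F ∙ e

/-- A root element of the second factor. -/
def TR (O : OO f1 f2 f G) (e v : κ → F) (T : Matrix ι κ F ≃ₗ[F] Matrix ι κ F) : Prop :=
  T ∈ G ∧ ∀ c x, T (vecMulVec c x) = vecMulVec c (eich O.h2 e v x)

variable (O : OO f1 f2 f G)
include O

theorem TL.symm {e v : κ → F} (h : TL O e v) : TL O v e :=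
  ⟨h.2.1, h.1, O.h2.symm0 h.2.2.1, fun e0 => h.2.2.2.2 (e0 ▸ zero_mem _), fun hm => by
    obtain ⟨t, ht⟩ := Submodule.mem_span_singleton.1 hm
    rcases eq_or_ne t 0 with rfl | ht0
    · exact h.2.2.2.1 (by rw [← ht, zero_smul])
    · exact h.2.2.2.2 (Submodule.mem_span_singleton.2 ⟨t⁻¹, by
        rw [← ht, smul_smul, inv_mul_cancel₀ ht0, one_smul]⟩)⟩

/-- Totally singular lines need dimension five in the second factor. -/
theorem TL.five {e v : κ → F} (h : TL O e v) : 5 ≤ finrank F (κ → F) := by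
  rw [finrank_κ O]
  rcases O.b4 with hb | ⟨-, -, hTS⟩
  · exact hb
  exfalso
  have h1 := hTS (Submodule.span F {e, v}) fun z hz => by
    obtain ⟨s, t, rfl⟩ := Submodule.mem_span_pair.1 hz
    simp [O.h2.add_left, O.h2.add_right, O.h2.smul_left, O.h2.smul_right, h.1, h.2.1, h.2.2.1,
      O.h2.symm0 h.2.2.1]
  have hlt : F ∙ e < Submodule.span F {e, v} :=
    lt_of_le_of_ne (Submodule.span_mono (by simp)) fun he => h.2.2.2.2
      (by rw [he]; exact Submodule.subset_span (by simp))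
  have := Submodule.finrank_lt_finrank_of_lt hlt
  rw [finrank_span_singleton h.2.2.2.1] at this
  omega

theorem TL.lt {e v : κ → F} (h : TL O e v) : Fintype.card ι < Fintype.card κ := by
  have := h.five O
  rw [finrank_κ O] at this
  rcases O.ab with h' | ⟨-, h'⟩ <;> omega

theorem TL.exists_dual {e v : κ → F} (h : TL O e v) : ∃ x, f2 x e = 0 ∧ f2 x v = 1 := by
  obtain ⟨φ, hφv, hφ⟩ := Submodule.exists_dual_map_eq_bot_of_notMem h.2.2.2.2 inferInstance
  obtain ⟨w, hw⟩ := O.h2.exists_repr φ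
  have he : φ e = 0 := by
    have := Submodule.mem_map_of_mem (f := φ) (Submodule.mem_span_singleton_self e)
    rwa [hφ, Submodule.mem_bot] at this
  refine ⟨(φ v)⁻¹ • w, ?_, ?_⟩
  · rw [O.h2.smul_left, O.h2.symm e w, ← hw, he, mul_zero]
  · rw [O.h2.smul_left, O.h2.symm v w, ← hw, inv_mul_cancel₀ hφv]

theorem exists_TR {e v : κ → F} (h : TL O e v) : ∃ T, TR O e v T := by
  obtain ⟨-, T, hT, hTX⟩ := inr_eich O h.1 h.2.2.1
  exact ⟨T, hT, hTX⟩

theorem TL.disp {e v : κ → F} (h : TL O e v) (x : κ → F) :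
    ((eich O.h2 e v : Module.End F (κ → F)) - 1) x = f2 x e • v - f2 x v • e := by
  rw [LinearMap.sub_apply, Module.End.one_apply, eich_apply, h.2.1, zero_div, zero_mul, zero_smul,
    sub_zero, add_sub_cancel_left]

theorem TR.dsp_sq {e v : κ → F} (h : TL O e v) {T : MV ≃ₗ[F] MV} (hT : TR O e v T) :
    (dsp T) ^ 2 = 0 := by
  refine LinearMap.ext fun X => ext_pure (A := (dsp T) ^ 2) (B := 0) (fun c x => ?_) X
  rw [dsp_right_pow hT.2, pow_two, Module.End.mul_apply, h.disp O x, map_sub, map_smul, map_smul,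
    h.disp O, h.disp O, h.1, h.2.1, O.h2.symm e v, h.2.2.1, LinearMap.zero_apply]
  simp [vmv_zero]

theorem TR.unip {e v : κ → F} (h : TL O e v) {T : MV ≃ₗ[F] MV} (hT : TR O e v T) : Unip T :=
  ⟨2, hT.dsp_sq O h⟩

theorem TR.rows {e v : κ → F} (h : TL O e v) {T : MV ≃ₗ[F] MV} (hT : TR O e v T) (X : MV) (i : ι) :
    dsp T X i ∈ Submodule.span F {e, v} :=
  range_right_le (dsp_right hT.2) (fun x => by
    rw [h.disp O x]
    exact Submodule.mem_span_pair.2 ⟨-f2 x v, f2 x e, by rw [neg_smul]; abel⟩) X i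

variable [Finite F]

/-- An element moving a root element to a pure element is pure. -/
theorem pure_of_conj_root (hN : NoRoot O) {e v : κ → F} (hl : TL O e v) {T : MV ≃ₗ[F] MV}
    (hT : TR O e v T) {g : MV ≃ₗ[F] MV} (hg : g ∈ G) (hp : Pure (g * T * g⁻¹)) : Pure g := by
  set x := g * T * g⁻¹ with hx
  have hxG : x ∈ G := mul_mem (mul_mem hg hT.1) (inv_mem hg)
  have hrank : ∀ h : MV ≃ₗ[F] MV, ∀ S : Submodule F MV, (∀ Y, dsp h Y ∈ S) → ∀ g : MV ≃ₗ[F] MV,
      finrank F (LinearMap.range (dsp (g * h * g⁻¹))) ≤ finrank F S := by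
    intro h S hS g
    rw [← LinearEquiv.finrank_map_eq g S]
    refine Submodule.finrank_mono ?_
    rintro _ ⟨Y, rfl⟩
    exact ⟨_, hS _, (dsp_conj g h Y).symm⟩
  obtain ⟨M, hMi, hMu, hMx, hMr⟩ := pure_unip O (hl.lt O) (O.isom x hxG) hp ((hT.unip O hl).conj g)
    ((hrank T (LinearMap.range (dsp T)) (fun Y => LinearMap.mem_range_self _ Y) g).trans
      (finrank_rows_pair e v _ (by rintro _ ⟨Y, rfl⟩ i; exact hT.rows O hl Y i)))
  set N := (M : Module.End F (κ → F)) - 1 with hNdef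
  obtain ⟨c₀, hc₀, -⟩ := O.h1.exists_iso (hda O)
  have hNN : ∀ u, N (N u) = 0 := fun u => by
    have e1 := dsp_right_pow hMx 2 c₀ u
    rw [dsp_conj_pow, hT.dsp_sq O hl, LinearMap.zero_apply, map_zero, eq_comm, vmv_eq_zero,
      or_iff_right hc₀, pow_two, Module.End.mul_apply] at e1
    exact e1
  have hM1 : ∀ u, M u = u + N u := fun u => by
    rw [hNdef, LinearMap.sub_apply, Module.End.one_apply]
    abel
  have hTS : ∀ a b, f2 (N a) (N b) = 0 := fun a b => by
    have h1 := hMi a (N b)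
    rw [hM1 (N b), hNN, add_zero, hM1, O.h2.add_left] at h1
    linear_combination h1
  have hrow : ∀ c, ∀ i, g (vecMulVec c e) i ∈ LinearMap.range N := by
    intro c i
    obtain ⟨u, hue, huv⟩ := hl.exists_dual O
    have h1 : dsp T (vecMulVec (-c) u) = vecMulVec c e := by
      rw [dsp_right hT.2, hl.disp O, hue, huv, zero_smul, one_smul, zero_sub, vmv_neg, neg_vmv, neg_neg]
    have h2 : g (vecMulVec c e) = dsp x (g (vecMulVec (-c) u)) := by
      rw [hx, dsp_conj, g.symm_apply_apply, h1]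
    rw [h2]
    exact range_right_le (dsp_right hMx) (fun u => LinearMap.mem_range_self N u) _ i
  obtain ⟨e', he'm, he'0⟩ : ∃ e' ∈ LinearMap.range N, e' ≠ 0 := by
    refine (Submodule.ne_bot_iff _).1 fun h => ?_
    have : g (vecMulVec c₀ e) = 0 := Matrix.ext fun i j => by
      have := hrow c₀ i
      rw [h, Submodule.mem_bot] at this
      exact congrFun this j
    exact vmv_ne_zero hc₀ hl.2.2.2.1 (g.map_eq_zero_iff.1 this)
  have hTS' : ∀ a ∈ LinearMap.range N, ∀ b ∈ LinearMap.range N, f2 a b = 0 := by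
    rintro _ ⟨a, rfl⟩ _ ⟨b, rfl⟩
    exact hTS a b
  obtain ⟨w, hwperp, hww⟩ : ∃ w, (∀ a ∈ LinearMap.range N, f2 w a = 0) ∧ f2 w w ≠ 0 := by
    obtain ⟨P, hP, hdim⟩ := O.h2.exists_perp_sub (LinearMap.range N)
    by_contra hc
    push Not at hc
    have h1 := two_mul_le O.h2 (W := P) fun y hy => hc y ((hP y).1 hy)
    have := hl.five O
    change finrank F (LinearMap.range N) ≤ 2 at hMr
    omega
  have he'w : f2 e' w = 0 := O.h2.symm0 (hwperp e' he'm)
  have he'e' : f2 e' e' = 0 := hTS' e' he'm e' he'm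
  obtain ⟨-, y, hy, hyX⟩ := inr_eich O he'e' he'w
  have hyfix : ∀ X : MV, (∀ i, X i ∈ LinearMap.range N) → y X = X := fun X hX => by
    rw [sum_rows O X, map_sum]
    exact Finset.sum_congr rfl fun i _ => by
      rw [hyX, eich_fix O.h2 (hTS' _ (hX i) e' he'm) (O.h2.symm0 (hwperp _ (hX i)))]
  set z := g⁻¹ * y * g with hz
  have hzG : z ∈ G := mul_mem (mul_mem (inv_mem hg) hy) hg
  have hzp : Pure z := pure_of_col O hN hl.2.2.2.1 hl.1 hzG fun c => mem_col.2 ⟨c, by
    show _ = g.symm (y (g (vecMulVec c e)))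
    rw [hyfix _ (hrow c), g.symm_apply_apply]⟩
  have hz' : z = g⁻¹ * y * g⁻¹⁻¹ := by rw [hz, inv_inv]
  have hyN : ∀ u, ((eich O.h2 e' w : Module.End F (κ → F)) - 1) u ∈ Submodule.span F {e', w} :=
    fun u => by
    rw [LinearMap.sub_apply, Module.End.one_apply, eich_apply, add_sub_cancel_left]
    exact Submodule.mem_span_pair.2 ⟨-(f2 u w) - f2 w w / 2 * f2 u e', f2 u e', by
      rw [sub_smul, neg_smul]; abel⟩
  have hyu : Unip y := unip_right O hyX ⟨3, eich_cube O.h2 he'e' he'w⟩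
  obtain ⟨γ, -, hγu, hγX, hγr⟩ := pure_unip O (hl.lt O) (O.isom z hzG) hzp (hz' ▸ hyu.conj g⁻¹) (by
    rw [hz']
    exact (hrank y (LinearMap.range (dsp y)) (fun Y => LinearMap.mem_range_self _ Y) g⁻¹).trans
      (finrank_rows_pair e' w _ (by
        rintro _ ⟨Y, rfl⟩ i
        exact range_right_le (dsp_right hyX) hyN Y i)))
  set N' := (γ : Module.End F (κ → F)) - 1 with hN'def
  change finrank F (LinearMap.range N') ≤ 2 at hγr
  obtain ⟨e0, he0⟩ : ∃ e0, ∀ u, N' (N' u) ∈ F ∙ e0 := by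
    set W := (LinearMap.range N').map N' with hW
    have hWle : finrank F W ≤ 1 := by
      by_cases hU : LinearMap.range N' = ⊥
      · rw [hW, hU, Submodule.map_bot, finrank_bot]
        omega
      · have hlt : W < LinearMap.range N' := lt_of_le_of_ne LinearMap.map_le_range
          (map_ne_of_nil hγu hU)
        have := Submodule.finrank_lt_finrank_of_lt hlt
        omega
    have hmem : ∀ u, N' (N' u) ∈ W := fun u =>
      Submodule.mem_map_of_mem (LinearMap.mem_range_self N' u)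
    by_cases hW0 : W = ⊥
    · exact ⟨0, fun u => by
        have := hmem u
        rw [hW0, Submodule.mem_bot] at this
        rw [this]
        exact zero_mem _⟩
    · obtain ⟨e0, he0, he00⟩ := (Submodule.ne_bot_iff W).1 hW0
      refine ⟨e0, fun u => ?_⟩
      rw [Submodule.eq_of_le_of_finrank_le ((Submodule.span_singleton_le_iff_mem _ _).2 he0)
        (by rw [finrank_span_singleton he00]; exact hWle)]
      exact hmem u
  obtain ⟨u, hu⟩ := O.h2.exists_left he'0
  have hinvp : Pure g⁻¹ := pure_of_col O hN he'0 he'e' (inv_mem hg) (e₁ := e0) fun c => by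
    have h1 : ((dsp y) ^ 2) (vecMulVec c u) = (-f2 w w) • vecMulVec c e' := by
      rw [dsp_right_pow hyX, ← vmv_smul]
      congr 1
      rw [pow_two, Module.End.mul_apply]
      simp only [LinearMap.sub_apply, Module.End.one_apply, eich_apply, add_sub_cancel_left,
        O.h2.sub_left, O.h2.smul_left, he'e', he'w, O.h2.symm e' w, hu]
      have := O.h2.two
      match_scalars <;> field_simp <;> ring
    have h2 : vecMulVec c e' = (-f2 w w)⁻¹ • ((dsp y) ^ 2) (vecMulVec c u) := by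
      rw [h1, smul_smul, inv_mul_cancel₀ (neg_ne_zero.2 hww), one_smul]
    show g.symm _ ∈ Col e0
    have h3 : g.symm (((dsp y) ^ 2) (vecMulVec c u)) = ((dsp z) ^ 2) (g.symm (vecMulVec c u)) := by
      rw [hz', dsp_conj_pow]
      show _ = g.symm (((dsp y) ^ 2) (g (g.symm _)))
      rw [g.apply_symm_apply]
    rw [h2, map_smul, h3]
    refine Submodule.smul_mem _ _ ?_
    choose r hr using fun i => Submodule.mem_span_singleton.1 (range_right_le (A := (dsp z) ^ 2)
      (N := N' ^ 2) (dsp_right_pow hγX 2)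
      (fun a => by rw [pow_two, Module.End.mul_apply]; exact he0 a) (g.symm (vecMulVec c u)) i)
    refine mem_col.2 ⟨r, ?_⟩
    ext i j
    rw [vecMulVec_apply, ← hr i]
    rfl
  have := pure_inv O hinvp
  rwa [inv_inv] at this

omit [Finite F] in
/-- The subgroup of pure elements. -/
theorem exists_pureSub : ∃ H : Subgroup (MV ≃ₗ[F] MV), ∀ g, g ∈ H ↔ Pure g :=
  ⟨{ carrier := {g | Pure g}
     one_mem' := pure_one
     mul_mem' := fun h h' => h.mul h'
     inv_mem' := fun h => pure_inv O h }, fun _ => Iff.rfl⟩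

/-- A p-subgroup containing a root element is pure. -/
theorem pure_of_pgroup (hN : NoRoot O) {e v : κ → F} (hl : TL O e v) {T : MV ≃ₗ[F] MV}
    (hT : TR O e v T) {p : ℕ} [Fact p.Prime] {P : Subgroup (MV ≃ₗ[F] MV)} (hPG : P ≤ G)
    (hP : IsPGroup p P) (hTP : T ∈ P) {x : MV ≃ₗ[F] MV} (hx : x ∈ P) : Pure x := by
  obtain ⟨Hp, hHp⟩ := exists_pureSub O
  have : Finite (MV ≃ₗ[F] MV) :=
    Finite.of_injective (fun g : MV ≃ₗ[F] MV => (g : MV → MV)) DFunLike.coe_injective
  have : Group.IsNilpotent P := hP.isNilpotent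
  set H := Hp.subgroupOf P with hH
  suffices h : H = ⊤ by
    have : (⟨x, hx⟩ : P) ∈ H := h ▸ Subgroup.mem_top _
    exact (hHp x).1 this
  by_contra h
  obtain ⟨n, hn, hnH⟩ := SetLike.exists_of_lt
    (normalizerCondition_of_isNilpotent H (lt_top_iff_ne_top.2 h))
  refine hnH ((hHp n).2 (pure_of_conj_root O hN hl hT (hPG n.2) ((hHp _).1 ?_)))
  exact (Subgroup.mem_normalizer_iff.1 hn ⟨T, hTP⟩).1
    ((hHp T).2 ⟨LinearMap.id, eich O.h2 e v, hT.2⟩)

end CfsgLib.MaxSub.TensorOO
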