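/-
Without elements of rank two the overgroup respects the tensor decomposition.
-/
import Cfsg.Agent.Lib.MaxSub.TensorOO.RootMove
import Cfsg.Agent.Lib.MaxSub.TensorOO.Pair

set_option autoImplicit false
set_option maxHeartbeats 1000000
set_option linter.unusedSectionVars false

namespace CfsgLib.MaxSub.TensorOO

open Matrix Module
open CfsgLib.MaxSub.TensorSympOrth (SForm ext_pure vmv_smul vmv_sub sub_vmv vmv_neg neg_vmv vmv_ne_zero)
open CfsgLib.MaxSub.TensorLin (Col colMap colMap_apply mem_col vmv_eq_zero vmv_zero vm exists_dot_one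
  colMap_injective finrank_col)

variable {F : Type*} [Field F] {ι κ : Type*} [Fintype ι] [Fintype κ] [DecidableEq ι] [DecidableEq κ]

local notation "MV" => Matrix ι κ F

/-- A block of pure tensors. -/
theorem exists_block (U : Submodule F (ι → F)) (W : Submodule F (κ → F)) :
    ∃ S : Submodule F MV, finrank F S = finrank F U * finrank F W ∧
      (∀ X ∈ S, ∀ i, X i ∈ W) ∧
      ∀ (P : Submodule F MV), (∀ c ∈ U, ∀ x ∈ W, vecMulVec c x ∈ P) → S ≤ P := by
  let bU := Module.finBasis F U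
  let Ψ : (Fin (finrank F U) → W) →ₗ[F] MV :=
    { toFun := fun y => ∑ r, vecMulVec (bU r : ι → F) (y r : κ → F)
      map_add' := fun y z => by
        simp only [Pi.add_apply, Submodule.coe_add, vecMulVec_add, Finset.sum_add_distrib]
      map_smul' := fun t y => by
        simp only [Pi.smul_apply, Submodule.coe_smul, vmv_smul, Finset.smul_sum, RingHom.id_apply] }
  have hinj : Function.Injective Ψ := (injective_iff_map_eq_zero Ψ).2 fun y hy => funext fun r =>
    Subtype.ext <| dotProduct_eq_zero _ fun μ => by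
      have h : ∑ r, ((y r : κ → F) ⬝ᵥ μ) • bU r = 0 := by
        refine Subtype.ext ?_
        have h0 : mvl μ (∑ r, vecMulVec (bU r : ι → F) (y r : κ → F)) = 0 := by
          rw [show (∑ r, vecMulVec (bU r : ι → F) (y r : κ → F)) = (0 : MV) from hy, map_zero]
        rw [map_sum] at h0
        rw [AddSubmonoidClass.coe_finsetSum, Submodule.coe_zero, ← h0]
        exact Finset.sum_congr rfl fun r _ => (vm _ _ _).symm
      exact Fintype.linearIndependent_iff.1 bU.linearIndependent _ h r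
  refine ⟨LinearMap.range Ψ, ?_, ?_, ?_⟩
  · rw [LinearMap.finrank_range_of_inj hinj, Module.finrank_pi_fintype, Finset.sum_const,
      Finset.card_univ, Fintype.card_fin, smul_eq_mul]
  · rintro _ ⟨y, rfl⟩ i
    have e : (∑ r, vecMulVec (bU r : ι → F) (y r : κ → F)) i =
        ∑ r, vecMulVec (bU r : ι → F) (y r : κ → F) i := funext fun j => by
      rw [Matrix.sum_apply, Finset.sum_apply]
    show (∑ r, vecMulVec (bU r : ι → F) (y r : κ → F)) i ∈ W
    rw [e]
    exact sum_mem fun r _ => W.smul_mem ((bU r : ι → F) i) (y r).2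
  · rintro P hP _ ⟨y, rfl⟩
    show (∑ r, vecMulVec (bU r : ι → F) (y r : κ → F)) ∈ P
    exact sum_mem fun r _ => hP _ (bU r).2 _ (y r).2

/-- A symmetric space with an anti-isometric involution has even dimension. -/
theorem even_of_anti {U : Type*} [AddCommGroup U] [Module F U] [FiniteDimensional F U]
    {g : U → U → F} (H : SForm g) {A : U →ₗ[F] U} (hA : ∀ x, A (A x) = x)
    (hanti : ∀ x y, g (A x) (A y) = -g x y) : Even (finrank F U) := by
  let Ep := LinearMap.ker (A - LinearMap.id)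
  let Em := LinearMap.ker (A + LinearMap.id)
  have hp : ∀ x ∈ Ep, g x x = 0 := fun x hx => by
    have e : A x = x := sub_eq_zero.1 hx
    have := hanti x x
    rw [e] at this
    exact (mul_eq_zero.1 (show (2 : F) * g x x = 0 by linear_combination this)).resolve_left H.two
  have hm : ∀ x ∈ Em, g x x = 0 := fun x hx => by
    have e : A x = -x := eq_neg_of_add_eq_zero_left hx
    have := hanti x x
    rw [e, H.neg_left, H.neg_right, neg_neg] at this
    exact (mul_eq_zero.1 (show (2 : F) * g x x = 0 by linear_combination this)).resolve_left H.two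
  have hsup : Ep ⊔ Em = ⊤ := eq_top_iff.2 fun x _ => Submodule.mem_sup.2
    ⟨(2 : F)⁻¹ • (x + A x), by
      show A _ - _ = 0
      rw [map_smul, map_add, hA, LinearMap.id_apply, add_comm (A x) x, sub_self],
    (2 : F)⁻¹ • (x - A x), by
      show A _ + _ = 0
      rw [map_smul, map_sub, hA, LinearMap.id_apply]
      module,
    by
      rw [← smul_add]
      have := H.two
      match_scalars <;> field_simp <;> ring⟩
  have h1 := two_mul_le H hp
  have h2 := two_mul_le H hm
  have h3 := Submodule.finrank_add_le_finrank_add_finrank Ep Em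
  rw [hsup, finrank_top] at h3
  exact ⟨finrank F Ep, by omega⟩

theorem det_sq {n : Type*} [Fintype n] [DecidableEq n] (A : (n → F) →ₗ[F] (n → F)) (t : F)
    (hA : ∀ x, A (A x) = t • x) : LinearMap.det A * LinearMap.det A = t ^ Fintype.card n := by
  rw [← LinearMap.det_comp, show A ∘ₗ A = t • LinearMap.id from LinearMap.ext hA, LinearMap.det_smul,
    LinearMap.det_id, mul_one, Module.finrank_fintype_fun_eq_card]

theorem eq_zero_of_eq_neg' (h2 : (2 : F) ≠ 0) {U : Type*} [AddCommGroup U] [Module F U] {x : U}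
    (hx : x = -x) : x = 0 := by
  have : (2 : F) • x = 0 := by rw [two_smul]; exact add_eq_zero_iff_eq_neg.2 hx
  exact (smul_eq_zero.1 this).resolve_left h2

variable {f1 : (ι → F) → (ι → F) → F} {f2 : (κ → F) → (κ → F) → F}
  {f : Matrix ι κ F → Matrix ι κ F → F} {G : Subgroup (Matrix ι κ F ≃ₗ[F] Matrix ι κ F)}

variable (O : OO f1 f2 f G)
include O

omit O in
theorem toLinearMap_pow (g : MV ≃ₗ[F] MV) : ∀ n : ℕ,
    ((g ^ n).toLinearMap : Module.End F MV) = (g.toLinearMap : Module.End F MV) ^ n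
  | 0 => rfl
  | n + 1 => by
    rw [pow_succ, pow_succ, ← toLinearMap_pow g n]
    rfl

/-- The four dimensional space of a totally singular line. -/
theorem exists_four [Fintype F] (hN : NoRoot O) {g : MV ≃ₗ[F] MV} (hg : g ∈ G) (hgp : ¬ Pure g)
    {e₀ v₀ : κ → F} (hl₀ : TL O e₀ v₀) {T₀ : MV ≃ₗ[F] MV} (hT₀ : TR O e₀ v₀ T₀) {e v : κ → F}
    (hl : TL O e v) :
    ∃ W : Submodule F (κ → F), finrank F W = 4 ∧ (∀ x ∈ W, (∀ y ∈ W, f2 x y = 0) → x = 0) ∧
      e ∈ W ∧ v ∈ W ∧ (∀ Y i, dsp (g * T₀ * g⁻¹) Y i ∈ W) ∧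
      W ≤ Submodule.span F {e, v} ⊔
        Submodule.span F (Set.range fun q : MV × ι => dsp (g * T₀ * g⁻¹) q.1 q.2) := by
  obtain ⟨T, hT⟩ := exists_TR O hl
  set T' := g * T₀ * g⁻¹ with hT'
  have hT'G : T' ∈ G := mul_mem (mul_mem hg hT₀.1) (inv_mem hg)
  set a := dsp T with had
  set b := dsp T' with hbd
  have ha : a * a = 0 := by rw [← pow_two]; exact hT.dsp_sq O hl
  have hb : b * b = 0 := by
    rw [← pow_two]
    exact LinearMap.ext fun X => by
      rw [hbd, hT', dsp_conj_pow, hT₀.dsp_sq O hl₀, LinearMap.zero_apply, map_zero,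
        LinearMap.zero_apply]
  have ha1 : (1 : Module.End F MV) + a = T.toLinearMap := add_sub_cancel _ _
  have hb1 : (1 : Module.End F MV) + b = T'.toLinearMap := add_sub_cancel _ _
  set P := Subgroup.closure ({T, T'} : Set (MV ≃ₗ[F] MV)) with hPd
  have hPG : P ≤ G := by
    rw [hPd, Subgroup.closure_le]
    rintro _ (rfl | rfl)
    exacts [hT.1, hT'G]
  have hTP : T ∈ P := Subgroup.subset_closure (Set.mem_insert _ _)
  have hT'P : T' ∈ P := Subgroup.subset_closure (Set.mem_insert_of_mem _ rfl)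
  obtain ⟨p, hp⟩ := CharP.exists F
  have : Fact p.Prime := ⟨CharP.char_is_prime F p⟩
  obtain ⟨c₀, hc₀, -⟩ := O.h1.exists_iso (hda O)
  haveI : Nontrivial MV := ⟨⟨vecMulVec c₀ e, 0, vmv_ne_zero hc₀ hl.2.2.2.1⟩⟩
  have hnc : ¬ IsNilpotent (a * b + b * a) := by
    rintro ⟨n, hn⟩
    have hbot := Fl_bot (W := (⊤ : Submodule F MV)) ha hb (fun _ _ => Submodule.mem_top)
      (fun _ _ => Submodule.mem_top) (n := n) (fun x _ => by rw [hn, LinearMap.zero_apply])
    have hlow : ∀ x ∈ P, Low a b ⊤ (x.toLinearMap : Module.End F MV) := by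
      intro x hx
      haveI : Finite (MV ≃ₗ[F] MV) :=
        Finite.of_injective (fun g : MV ≃ₗ[F] MV => (g : MV → MV)) DFunLike.coe_injective
      have hx' : x ∈ P.toSubmonoid := hx
      rw [hPd, Subgroup.closure_toSubmonoid_of_finite] at hx'
      clear hx
      induction hx' using Submonoid.closure_induction with
      | mem y hy =>
        rcases hy with rfl | rfl
        · rw [← ha1]; exact low_left
        · rw [← hb1]; exact low_right
      | one => exact low_one
      | mul y z _ _ hy hz => exact hy.mul (fun _ _ => Submodule.mem_top) (fun _ _ => Submodule.mem_top) hz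
    have hP : IsPGroup p P := fun x => by
      have hu : IsNilpotent (((x : MV ≃ₗ[F] MV).toLinearMap : Module.End F MV) - 1) :=
        ⟨_, LinearMap.ext fun X => (hlow _ x.2).nil hbot (fun _ _ => Submodule.mem_top) (fun _ _ => Submodule.mem_top)
          le_rfl Submodule.mem_top⟩
      obtain ⟨k, hk⟩ := pow_eq_one_of_nil p hu
      refine ⟨k, Subtype.ext (LinearEquiv.toLinearMap_injective ?_)⟩
      rw [SubmonoidClass.coe_pow, toLinearMap_pow, hk]
      rfl
    exact hgp (pure_of_conj_root O hN hl₀ hT₀ hg (pure_of_pgroup O hN hl hT hPG hP hTP hT'P))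
  let hom : (MV ≃ₗ[F] MV) →* Module.End F MV :=
    { toFun := fun x => x.toLinearMap
      map_one' := rfl
      map_mul' := fun _ _ => rfl }
  obtain ⟨h, ⟨u, hu, rfl⟩, hh2, hh1, hha, hhb, hneg⟩ := exists_pair_involution O.h.two ha hb hnc
    (P.toSubmonoid.map hom) ⟨T, hTP, ha1.symm⟩ ⟨T', hT'P, hb1.symm⟩
  have hua : ∀ X, u (a X) = a (u X) := fun X => LinearMap.congr_fun hha X
  have hub : ∀ X, u (b X) = b (u X) := fun X => LinearMap.congr_fun hhb X
  have huu : ∀ X, u (u X) = X := fun X => LinearMap.congr_fun hh2 X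
  have huTu : u * T * u⁻¹ = T := mul_inv_eq_of_eq_mul (LinearEquiv.ext fun X => by
    have h1 := hua X
    rw [had, dsp_apply, dsp_apply, map_sub, sub_left_inj] at h1
    exact h1)
  have hup : Pure u := pure_of_conj_root O hN hl hT (hPG hu)
    (by rw [huTu]; exact ⟨LinearMap.id, eich O.h2 e v, hT.2⟩)
  obtain ⟨L, M, hLM⟩ := hup
  -- normalisation
  obtain ⟨ν, hν⟩ := exists_dot_one hl.2.2.2.1
  obtain ⟨η, hη⟩ := exists_dot_one hc₀
  set r := M (M e) ⬝ᵥ ν with hr
  have hsq : ∀ c x, vecMulVec (L (L c)) (M (M x)) = vecMulVec c x := fun c x => by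
    rw [← hLM, ← hLM, huu]
  have hLL : ∀ c, r • L (L c) = c := fun c => by
    have := congrArg (fun X : MV => X *ᵥ ν) (hsq c e)
    simp only [vm, hν, one_smul] at this
    exact this
  have hr0 : r ≠ 0 := fun e0 => hc₀ (by rw [← hLL c₀, e0, zero_smul])
  have hLL' : ∀ c, L (L c) = r⁻¹ • c := fun c => by
    conv_rhs => rw [← hLL c, smul_smul, inv_mul_cancel₀ hr0, one_smul]
  have hMM : ∀ x, M (M x) = r • x := fun x => by
    have := hsq c₀ x
    rw [hLL', smul_vecMulVec, ← vmv_smul] at this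
    have h1 := congrArg (fun X : MV => η ᵥ* X) this
    simp only [vecMul_vecMulVec, dotProduct_comm η c₀, hη, one_smul] at h1
    conv_rhs => rw [← h1]
    rw [smul_smul, mul_inv_cancel₀ hr0, one_smul]
  obtain ⟨s, hs⟩ : ∃ s, s * s = r := by
    have hodd : ∀ (t d : F) (k : ℕ), t ≠ 0 → d * d = t ^ (2 * k + 1) → ∃ s, s * s = t := by
      intro t d k ht hd
      refine ⟨d / t ^ k, ?_⟩
      rw [div_mul_div_comm, hd, pow_succ, ← pow_add, ← two_mul, mul_comm,
        mul_div_assoc, div_self (pow_ne_zero _ ht), mul_one]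
    rcases O.odd with ⟨k, hk⟩ | ⟨k, hk⟩
    · obtain ⟨s, hs⟩ := hodd r⁻¹ _ k (inv_ne_zero hr0) ((det_sq L r⁻¹ hLL').trans (by rw [hk]))
      exact ⟨s⁻¹, by rw [← mul_inv, hs, inv_inv]⟩
    · exact hodd r _ k hr0 ((det_sq M r hMM).trans (by rw [hk]))
  have hs0 : s ≠ 0 := fun e0 => hr0 (by rw [← hs, e0, zero_mul])
  obtain ⟨α, β, huX, hα2, hβ2⟩ : ∃ (α : (ι → F) →ₗ[F] (ι → F)) (β : (κ → F) →ₗ[F] (κ → F)),
      (∀ c x, u (vecMulVec c x) = vecMulVec (α c) (β x)) ∧ (∀ c, α (α c) = c) ∧ ∀ x, β (β x) = x :=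
    ⟨s • L, s⁻¹ • M, fun c x => by
      rw [LinearMap.smul_apply, LinearMap.smul_apply, smul_vecMulVec, vmv_smul, smul_smul,
        mul_inv_cancel₀ hs0, one_smul, hLM],
    fun c => by
      rw [LinearMap.smul_apply, LinearMap.smul_apply, map_smul, smul_smul, hs, hLL],
    fun x => by
      rw [LinearMap.smul_apply, LinearMap.smul_apply, map_smul, smul_smul, hMM, smul_smul,
        ← mul_inv, hs, inv_mul_cancel₀ hr0, one_smul]⟩
  have hui : ∀ X Y, f (u X) (u Y) = f X Y := O.isom u (hPG hu)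
  have hiso : ∀ c d x y, f1 (α c) (α d) * f2 (β x) (β y) = f1 c d * f2 x y := fun c d x y => by
    rw [← O.f_pure, ← O.f_pure, ← huX, ← huX, hui]
  obtain ⟨x₁, hx₁⟩ := O.h2.exists_left hl.2.2.2.1
  obtain ⟨d₁, hd₁⟩ := O.h1.exists_left hc₀
  set m := f2 (β x₁) (β e) with hm
  have hαm : ∀ c d, f1 (α c) (α d) * m = f1 c d := fun c d => by rw [hm, hiso, hx₁, mul_one]
  have hm0 : m ≠ 0 := fun e0 => one_ne_zero (α := F) (by rw [← hd₁, ← hαm, e0, mul_zero])
  have hβm : ∀ x y, f2 (β x) (β y) = m * f2 x y := fun x y => by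
    have h1 := hiso d₁ c₀ x y
    have h2 := hαm d₁ c₀
    rw [hd₁] at h1 h2
    linear_combination m * h1 - f2 (β x) (β y) * h2
  have hmm : m * m = 1 := by
    have h1 := hαm (α d₁) (α c₀)
    have h2 := hαm d₁ c₀
    rw [hα2, hα2, hd₁] at h1
    rw [hd₁] at h2
    linear_combination m * h1 + h2
  have hm1 : m = 1 := by
    rcases mul_self_eq_one_iff.1 hmm with h | h
    · exact h
    · exfalso
      rcases O.odd with ho | ho
      · refine Nat.not_even_iff_odd.2 ho ?_
        rw [← finrank_ι O]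
        exact even_of_anti O.h1 hα2 fun x y => by
          have := hαm x y
          rw [h] at this
          linear_combination -this
      · refine Nat.not_even_iff_odd.2 ho ?_
        rw [← finrank_κ O]
        exact even_of_anti O.h2 hβ2 fun x y => by rw [hβm, h, neg_one_mul]
  have hαi : ∀ c d, f1 (α c) (α d) = f1 c d := fun c d => by rw [← hαm c d, hm1, mul_one]
  have hβi : ∀ x y, f2 (β x) (β y) = f2 x y := fun x y => by rw [hβm, hm1, one_mul]
  have hβsym : ∀ x y, f2 (β x) y = f2 x (β y) := fun x y => by rw [← hβi x (β y), hβ2]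
  -- the line
  have haX : ∀ c x, a (vecMulVec c x) = vecMulVec c (f2 x e • v - f2 x v • e) := fun c x => by
    rw [had, dsp_right hT.2, hl.disp O]
  have hαc₀ : α c₀ ≠ 0 := fun e0 => hc₀ (by rw [← hα2 c₀, e0, map_zero])
  have hβN : ∀ x, β (f2 x e • v - f2 x v • e) = f2 (β x) e • v - f2 (β x) v • e := fun x => by
    have h1 := hua (vecMulVec c₀ x)
    rw [haX, huX, huX, haX] at h1
    exact sub_eq_zero.1 ((vmv_eq_zero.1 ((vmv_sub _ _ _).trans (sub_eq_zero.2 h1))).resolve_left hαc₀)
  obtain ⟨x, hxe, hxv⟩ := hl.exists_dual O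
  obtain ⟨y, hyv, hye⟩ := (hl.symm O).exists_dual O
  have hmem : ∀ z, β (f2 z e • v - f2 z v • e) ∈ Submodule.span F {e, v} := fun z => by
    rw [hβN]
    exact Submodule.mem_span_pair.2 ⟨-f2 (β z) v, f2 (β z) e, by rw [neg_smul]; abel⟩
  obtain ⟨p₁, q₁, hpq⟩ := Submodule.mem_span_pair.1 (show β (-e) ∈ Submodule.span F {e, v} by
    have := hmem x
    rwa [hxe, hxv, zero_smul, one_smul, zero_sub] at this)
  obtain ⟨r₁, s₁, hrs⟩ := Submodule.mem_span_pair.1 (show β v ∈ Submodule.span F {e, v} by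
    have := hmem y
    rwa [hye, hyv, zero_smul, one_smul, sub_zero] at this)
  rw [map_neg, eq_neg_iff_add_eq_zero, add_comm, ← eq_neg_iff_add_eq_zero] at hpq
  have hindep : ∀ s t : F, s • e + t • v = 0 → s = 0 ∧ t = 0 := fun s t hst => by
    have ht : t = 0 := by
      by_contra ht
      exact hl.2.2.2.2 (Submodule.mem_span_singleton.2 ⟨-s / t, by
        rw [div_eq_inv_mul, mul_smul, neg_smul, inv_smul_eq_iff₀ ht]
        exact (eq_neg_of_add_eq_zero_right hst).symm⟩)
    rw [ht, zero_smul, add_zero, smul_eq_zero] at hst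
    exact ⟨hst.resolve_right hl.2.2.2.1, ht⟩
  have key : ∀ z, f2 z e • (r₁ • e + s₁ • v) - f2 z v • (-(p₁ • e + q₁ • v)) =
      f2 z (-(p₁ • e + q₁ • v)) • v - f2 z (r₁ • e + s₁ • v) • e := fun z => by
    have h1 := hβN z
    rw [map_sub, map_smul, map_smul, hpq, ← hrs, hβsym, hβsym, hpq, ← hrs] at h1
    exact h1
  have hr₁ : r₁ = 0 ∧ s₁ = -p₁ := by
    have h1 := key y
    simp only [O.h2.neg_right, O.h2.add_right, O.h2.smul_right, hye, hyv, mul_one, mul_zero, add_zero,
      one_smul, zero_smul, sub_zero] at h1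
    obtain ⟨h2, h3⟩ := hindep (r₁ + r₁) (s₁ + p₁) (by linear_combination (norm := module) h1)
    exact ⟨(mul_eq_zero.1 (show (2 : F) * r₁ = 0 by linear_combination h2)).resolve_left O.h.two,
      by linear_combination h3⟩
  have hq₁ : q₁ = 0 := by
    have h1 := key x
    simp only [O.h2.neg_right, O.h2.add_right, O.h2.smul_right, hxe, hxv, mul_one, mul_zero, zero_add,
      one_smul, zero_smul, zero_sub] at h1
    obtain ⟨-, h3⟩ := hindep (p₁ + s₁) (q₁ + q₁) (by linear_combination (norm := module) h1)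
    exact (mul_eq_zero.1 (show (2 : F) * q₁ = 0 by linear_combination h3)).resolve_left O.h.two
  obtain ⟨t, htt, hte, htv⟩ : ∃ t : F, t * t = 1 ∧ β e = t • e ∧ β v = t • v := by
    have h1 : β e = (-p₁) • e := by rw [hpq, hq₁, zero_smul, add_zero, neg_smul]
    refine ⟨-p₁, ?_, h1, by rw [← hrs, hr₁.1, hr₁.2, zero_smul, zero_add]⟩
    have h2 := hβ2 e
    rw [h1, map_smul, h1, smul_smul] at h2
    exact sub_eq_zero.1 ((smul_eq_zero.1 (show (-p₁ * -p₁ - 1) • e = 0 by
      rw [sub_smul, h2, one_smul, sub_self])).resolve_right hl.2.2.2.1)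
  set α' := t • α with hα'
  set β' := t • β with hβ'
  have huX' : ∀ c x, u (vecMulVec c x) = vecMulVec (α' c) (β' x) := fun c x => by
    rw [hα', hβ', LinearMap.smul_apply, LinearMap.smul_apply, smul_vecMulVec, vmv_smul, smul_smul,
      htt, one_smul, huX]
  have hα'2 : ∀ c, α' (α' c) = c := fun c => by
    rw [hα', LinearMap.smul_apply, LinearMap.smul_apply, map_smul, smul_smul, htt, one_smul, hα2]
  have hβ'2 : ∀ x, β' (β' x) = x := fun x => by
    rw [hβ', LinearMap.smul_apply, LinearMap.smul_apply, map_smul, smul_smul, htt, one_smul, hβ2]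
  have hβ'i : ∀ x y, f2 (β' x) (β' y) = f2 x y := fun x y => by
    rw [hβ', LinearMap.smul_apply, LinearMap.smul_apply, O.h2.smul_left, O.h2.smul_right, ← mul_assoc,
      htt, one_mul, hβi]
  have hβ'e : β' e = e := by rw [hβ', LinearMap.smul_apply, hte, smul_smul, htt, one_smul]
  have hβ'v : β' v = v := by rw [hβ', LinearMap.smul_apply, htv, smul_smul, htt, one_smul]
  -- the eigenspaces
  set Ap := LinearMap.ker (α' - LinearMap.id) with hAp
  set Am := LinearMap.ker (α' + LinearMap.id) with hAm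
  set Wp := LinearMap.ker (β' - LinearMap.id) with hWp
  set Bm := LinearMap.ker (β' + LinearMap.id) with hBm
  have hWpm : ∀ x, x ∈ Wp ↔ β' x = x := fun x => by
    rw [hWp, LinearMap.mem_ker, LinearMap.sub_apply, LinearMap.id_apply, sub_eq_zero]
  have hBmm : ∀ x, x ∈ Bm ↔ β' x = -x := fun x => by
    rw [hBm, LinearMap.mem_ker, LinearMap.add_apply, LinearMap.id_apply, add_eq_zero_iff_eq_neg]
  have hApm : ∀ x, x ∈ Ap ↔ α' x = x := fun x => by
    rw [hAp, LinearMap.mem_ker, LinearMap.sub_apply, LinearMap.id_apply, sub_eq_zero]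
  have hAmm : ∀ x, x ∈ Am ↔ α' x = -x := fun x => by
    rw [hAm, LinearMap.mem_ker, LinearMap.add_apply, LinearMap.id_apply, add_eq_zero_iff_eq_neg]
  have hsplit : ∀ x, ∃ p ∈ Wp, ∃ q ∈ Bm, x = p + q := fun x =>
    ⟨(2 : F)⁻¹ • (x + β' x), (hWpm _).2 (by rw [map_smul, map_add, hβ'2, add_comm]),
      (2 : F)⁻¹ • (x - β' x), (hBmm _).2 (by rw [map_smul, map_sub, hβ'2, ← smul_neg, neg_sub]),
      by
        rw [← smul_add]
        have := O.h.two
        match_scalars <;> field_simp <;> ring⟩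
  have hWnd : ∀ x ∈ Wp, (∀ y ∈ Wp, f2 x y = 0) → x = 0 := fun x hx hy => O.h2.nondeg x fun z => by
    obtain ⟨p, hp, q, hq, rfl⟩ := hsplit z
    have h1 : f2 x q = 0 := by
      have := hβ'i x q
      rw [(hWpm x).1 hx, (hBmm q).1 hq, O.h2.neg_right] at this
      exact (mul_eq_zero.1 (show (2 : F) * f2 x q = 0 by linear_combination -this)).resolve_left
        O.h.two
    rw [O.h2.add_right, hy p hp, h1, add_zero]
  have heW : e ∈ Wp := (hWpm e).2 hβ'e
  have hvW : v ∈ Wp := (hWpm v).2 hβ'v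
  have hw4 : 4 ≤ finrank F Wp := by
    have h := two_mul_le (O.h2.restrict hWnd) (W := (Submodule.span F {e, v}).comap Wp.subtype) (by
      intro z hz
      obtain ⟨s, t, hst⟩ := Submodule.mem_span_pair.1 (show (z : κ → F) ∈ Submodule.span F {e, v} from hz)
      show f2 (z : κ → F) z = 0
      rw [← hst]
      simp [O.h2.add_left, O.h2.add_right, O.h2.smul_left, O.h2.smul_right, hl.1, hl.2.1, hl.2.2.1,
        O.h2.symm e v])
    rw [LinearEquiv.finrank_eq (Submodule.comapSubtypeEquivOfLe (by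
      rw [Submodule.span_le]
      rintro _ (rfl | rfl)
      exacts [heW, hvW]))] at h
    have h2 : 2 ≤ finrank F (Submodule.span F {e, v}) := by
      have hli : LinearIndependent F ![e, v] :=
        LinearIndependent.pair_iff.2 hindep
      have := finrank_span_eq_card hli
      rw [Matrix.range_cons, Matrix.range_cons, Matrix.range_empty, Set.union_empty,
        Set.singleton_union, Fintype.card_fin] at this
      omega
    omega
  have hWB : finrank F Wp + finrank F Bm = Fintype.card κ := by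
    have h1 := Submodule.finrank_sup_add_finrank_inf_eq Wp Bm
    have h2 : Wp ⊓ Bm = ⊥ := (Submodule.eq_bot_iff _).2 fun x hx =>
      eq_zero_of_eq_neg' O.h.two (((hWpm x).1 hx.1).symm.trans ((hBmm x).1 hx.2))
    have h3 : Wp ⊔ Bm = ⊤ := eq_top_iff.2 fun x _ => by
      obtain ⟨p, hp, q, hq, rfl⟩ := hsplit x
      exact Submodule.add_mem_sup hp hq
    rw [h2, h3, finrank_top, finrank_bot, finrank_κ O] at h1
    omega
  have hAA : finrank F Ap + finrank F Am = Fintype.card ι := by
    have h1 := Submodule.finrank_sup_add_finrank_inf_eq Ap Am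
    have h2 : Ap ⊓ Am = ⊥ := (Submodule.eq_bot_iff _).2 fun x hx =>
      eq_zero_of_eq_neg' O.h.two (((hApm x).1 hx.1).symm.trans ((hAmm x).1 hx.2))
    have h3 : Ap ⊔ Am = ⊤ := eq_top_iff.2 fun x _ => Submodule.mem_sup.2
      ⟨(2 : F)⁻¹ • (x + α' x), (hApm _).2 (by rw [map_smul, map_add, hα'2, add_comm]),
        (2 : F)⁻¹ • (x - α' x), (hAmm _).2 (by rw [map_smul, map_sub, hα'2, ← smul_neg, neg_sub]),
        by
          rw [← smul_add]
          have := O.h.two
          match_scalars <;> field_simp <;> ring⟩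
    rw [h2, h3, finrank_top, finrank_bot, finrank_ι O] at h1
    omega
  set Vm := LinearMap.ker ((u.toLinearMap : Module.End F MV) + 1) with hVmd
  have hVm : ∀ X, X ∈ Vm ↔ u X = -X := fun X => by
    rw [hVmd, LinearMap.mem_ker, LinearMap.add_apply, Module.End.one_apply, add_eq_zero_iff_eq_neg]
    rfl
  have hVa : ∀ X ∈ Vm, a X ∈ Vm := fun X hX => (hVm _).2 (by rw [hua, (hVm X).1 hX, map_neg])
  have hVb : ∀ X ∈ Vm, b X ∈ Vm := fun X hX => (hVm _).2 (by rw [hub, (hVm X).1 hX, map_neg])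
  let cm : Vm →ₗ[F] Vm := (a * b + b * a).restrict
    fun X hX => Vm.add_mem (hVa _ (hVb X hX)) (hVb _ (hVa X hX))
  have hcm : Function.Surjective cm := LinearMap.injective_iff_surjective.1
    ((injective_iff_map_eq_zero cm).2 fun X hX => Subtype.ext
      (hneg X ((hVm X).1 X.2) (congrArg Subtype.val hX)))
  have hhalf : ∀ (x y : Module.End F MV), (∀ X, x ((a * b + b * a) X) = (a * b + b * a) (x X)) →
      (∀ X ∈ Vm, x X ∈ Vm) → (∀ X ∈ Vm, y X ∈ Vm) →
      (∀ X, x X = 0 → (a * b + b * a) X = x (y X)) →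
      finrank F Vm ≤ 2 * finrank F (Vm.map x) := by
    intro x y hxc hVx hVy hc
    let x' : Vm →ₗ[F] MV := x.comp Vm.subtype
    have h1 := LinearMap.finrank_range_add_finrank_ker x'
    have h2 : LinearMap.range x' = Vm.map x := by
      rw [LinearMap.range_comp, Submodule.range_subtype]
    have h3 : (LinearMap.ker x').map Vm.subtype ≤ Vm.map x := by
      rintro _ ⟨X, hX, rfl⟩
      obtain ⟨Z, rfl⟩ := hcm X
      show (a * b + b * a) (Z : MV) ∈ _
      have hxz : x ((a * b + b * a) (Z : MV)) = 0 := hX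
      rw [hxc] at hxz
      rw [hc _ (hneg _ ((hVm _).1 (hVx _ Z.2)) hxz)]
      exact ⟨y Z, hVy _ Z.2, rfl⟩
    have h4 := Submodule.finrank_mono h3
    rw [← LinearEquiv.finrank_eq (Submodule.equivMapOfInjective _ Vm.injective_subtype _)] at h4
    rw [h2] at h1
    omega
  have hac : ∀ X, a ((a * b + b * a) X) = (a * b + b * a) (a X) := fun X =>
    LinearMap.congr_fun (comm_left ha) X
  have hbc : ∀ X, b ((a * b + b * a) X) = (a * b + b * a) (b X) := fun X => by
    have := LinearMap.congr_fun (comm_left (b := a) hb) X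
    rwa [add_comm (b * a)] at this
  have h2a := hhalf a b hac hVa hVb fun X hX => by
    rw [LinearMap.add_apply, Module.End.mul_apply, Module.End.mul_apply, hX, map_zero, add_zero]
  have h2b := hhalf b a hbc hVb hVa fun X hX => by
    rw [LinearMap.add_apply, Module.End.mul_apply, Module.End.mul_apply, hX, map_zero, zero_add]
  -- the image of the first map
  have hUa : finrank F (Vm.map a) ≤ 2 * finrank F Am := by
    let Φ : (Am × Am) →ₗ[F] MV :=
      ((colMap e).comp Am.subtype).coprod ((colMap v).comp Am.subtype)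
    refine (Submodule.finrank_mono (show Vm.map a ≤ LinearMap.range Φ from ?_)).trans
      ((LinearMap.finrank_range_le Φ).trans (by rw [Module.finrank_prod]; omega))
    rintro _ ⟨X, hX, rfl⟩
    choose σ τ hst using fun i => Submodule.mem_span_pair.1 (hT.rows O hl X i)
    have hrep : a X = vecMulVec σ e + vecMulVec τ v := Matrix.ext fun i j => by
      show dsp T X i j = _
      rw [← hst i]
      rfl
    have h1 := (hVm _).1 (hVa X hX)
    rw [hrep, map_add, huX', huX', hβ'e, hβ'v] at h1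
    have h5 : vecMulVec (α' σ + σ) e + vecMulVec (α' τ + τ) v = (0 : MV) := by
      rw [add_vecMulVec, add_vecMulVec]
      linear_combination (norm := module) h1
    have hcomp : ∀ i, (α' σ + σ) i = 0 ∧ (α' τ + τ) i = 0 := fun i =>
      hindep _ _ (funext fun j => congrFun (congrFun h5 i) j)
    refine ⟨(⟨σ, (hAmm σ).2 (eq_neg_of_add_eq_zero_left (funext fun i => (hcomp i).1))⟩,
      ⟨τ, (hAmm τ).2 (eq_neg_of_add_eq_zero_left (funext fun i => (hcomp i).2))⟩), hrep.symm⟩
  -- the lower bound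
  obtain ⟨S₁, hS₁d, hS₁W, hS₁P⟩ := exists_block Am Wp
  obtain ⟨S₂, hS₂d, hS₂W, hS₂P⟩ := exists_block Ap Bm
  have hle1 : S₁ ≤ Vm := hS₁P Vm fun c hc x hx => (hVm _).2 (by
    rw [huX', (hAmm c).1 hc, (hWpm x).1 hx, neg_vmv])
  have hle2 : S₂ ≤ Vm := hS₂P Vm fun c hc x hx => (hVm _).2 (by
    rw [huX', (hApm c).1 hc, (hBmm x).1 hx, vmv_neg])
  have hinf : S₁ ⊓ S₂ = ⊥ := (Submodule.eq_bot_iff _).2 fun X hX => Matrix.ext fun i j =>
    congrFun (eq_zero_of_eq_neg' O.h.two
      (((hWpm _).1 (hS₁W X hX.1 i)).symm.trans ((hBmm _).1 (hS₂W X hX.2 i)))) j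
  have hlow : finrank F S₁ + finrank F S₂ ≤ finrank F Vm := by
    have h1 := Submodule.finrank_sup_add_finrank_inf_eq S₁ S₂
    rw [hinf, finrank_bot] at h1
    have h2 := Submodule.finrank_mono (sup_le hle1 hle2)
    omega
  obtain ⟨hi, hw, hVS⟩ : finrank F Am = Fintype.card ι ∧ finrank F Wp = 4 ∧
      finrank F Vm = 4 * Fintype.card ι := by
    set i := finrank F Am
    set i' := finrank F Ap
    set j := finrank F Bm
    set w := finrank F Wp
    have hb5 := hl.five O
    rw [finrank_κ O] at hb5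
    have hab := hl.lt O
    rw [hS₁d, hS₂d] at hlow
    have hup : finrank F Vm ≤ 4 * i := by omega
    have hi0 : i ≠ 0 := by
      intro h0
      have hz : finrank F Vm = 0 := by omega
      refine hh1 (LinearMap.ext fun X => ?_)
      show u X = X
      have hX : X - u X ∈ Vm := (hVm _).2 (by rw [map_sub, huu, neg_sub])
      rw [Submodule.finrank_eq_zero.1 hz, Submodule.mem_bot, sub_eq_zero] at hX
      exact hX.symm
    have h1 : 4 * i ≤ i * w := by
      rw [mul_comm 4 i]
      exact Nat.mul_le_mul_left i hw4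
    have h2 : i * w = 4 * i := by omega
    have h3 : i' * j = 0 := by omega
    have hw : w = 4 := Nat.eq_of_mul_eq_mul_left (Nat.pos_of_ne_zero hi0) (by rw [h2, mul_comm])
    rcases Nat.mul_eq_zero.1 h3 with h | h
    · exact ⟨by omega, hw, by omega⟩
    · omega
  have hα'neg : ∀ c, α' c = -c := fun c => (hAmm c).1 (by
    rw [Submodule.eq_top_of_finrank_eq (hi.trans (finrank_ι O).symm)]
    trivial)
  have hrows : ∀ X ∈ Vm, ∀ i, X i ∈ Wp := by
    have hS : S₁ = Vm := Submodule.eq_of_le_of_finrank_eq hle1 (by rw [hS₁d, hi, hw, hVS, mul_comm])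
    intro X hX
    rw [← hS] at hX
    exact hS₁W X hX
  have hMb : Vm.map b = LinearMap.range b := by
    refine Submodule.eq_of_le_of_finrank_le LinearMap.map_le_range ?_
    have h1 : finrank F (LinearMap.range b) ≤ 2 * Fintype.card ι := by
      refine le_trans (le_trans (Submodule.finrank_mono ?_)
        (Submodule.finrank_map_le g.toLinearMap (LinearMap.range (dsp T₀))))
        (finrank_rows_pair e₀ v₀ _ (by rintro _ ⟨Y, rfl⟩ i; exact hT₀.rows O hl₀ Y i))
      rintro _ ⟨Y, rfl⟩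
      exact ⟨_, LinearMap.mem_range_self _ (g.symm Y), (dsp_conj g T₀ Y).symm⟩
    omega
  refine ⟨Wp, hw, hWnd, heW, hvW, fun Y i => ?_, fun z hz => ?_⟩
  · obtain ⟨X, hX, hXY⟩ := (hMb.ge (LinearMap.mem_range_self b Y) : b Y ∈ Vm.map b)
    show b Y i ∈ Wp
    rw [← hXY]
    exact hrows _ (hVb X hX) i
  · have hzV : vecMulVec c₀ z ∈ Vm := (hVm _).2 (by rw [huX', hα'neg, (hWpm z).1 hz, neg_vmv])
    obtain ⟨Z, hZ⟩ := hcm ⟨_, hzV⟩
    have h1 : a (b (Z : MV)) + b (a (Z : MV)) = vecMulVec c₀ z := congrArg Subtype.val hZ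
    have h2 : η ᵥ* vecMulVec c₀ z = z := by
      rw [vecMul_vecMulVec, dotProduct_comm, hη, one_smul]
    rw [← h2, ← h1, vecMul_add, vecMul_eq_sum, vecMul_eq_sum]
    refine Submodule.add_mem_sup (sum_mem fun i _ => Submodule.smul_mem _ _ (hT.rows O hl _ i))
      (sum_mem fun i _ => Submodule.smul_mem _ _ (Submodule.subset_span ⟨(a (Z : MV), i), rfl⟩))

/-- Without elements of rank two everything is pure. -/
theorem pure_all [Fintype F] (hN : NoRoot O) (hb5 : 5 ≤ finrank F (κ → F)) {g : MV ≃ₗ[F] MV}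
    (hg : g ∈ G) : Pure g := by
  by_contra hgp
  have hline : ∀ e, e ≠ 0 → f2 e e = 0 → ∃ v, TL O e v := by
    intro e he0 he
    obtain ⟨e', he', h⟩ := exists_pair O.h2 he0 he
    obtain ⟨y, hy0, hy⟩ := (O.h2.restrict (pairPerp_nondeg O.h2 he he' h)).exists_iso (by
      have := pairPerp_dim O.h2 e e'
      omega)
    obtain ⟨h1, h2⟩ := (mem_pairPerp O.h2).1 y.2
    refine ⟨y, he, hy, O.h2.symm0 h1, he0, fun hm => hy0 (Subtype.ext ?_)⟩
    obtain ⟨t, ht⟩ := Submodule.mem_span_singleton.1 hm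
    rw [← ht, O.h2.smul_left, h, mul_one] at h2
    rw [← ht, h2, zero_smul]
    rfl
  obtain ⟨e₀, he₀0, he₀⟩ := O.h2.exists_iso (by omega)
  obtain ⟨v₀, hl₀⟩ := hline e₀ he₀0 he₀
  obtain ⟨T₀, hT₀⟩ := exists_TR O hl₀
  set T' := g * T₀ * g⁻¹
  set S := Submodule.span F (Set.range fun q : MV × ι => dsp T' q.1 q.2) with hS
  have hfour := fun e v (hl : TL O e v) => exists_four O hN hg hgp hl₀ hT₀ hl
  have hSW : ∀ (W : Submodule F (κ → F)), (∀ Y i, dsp T' Y i ∈ W) → S ≤ W := fun W h =>
    Submodule.span_le.2 (by rintro _ ⟨q, rfl⟩; exact h q.1 q.2)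
  have hnotS : ¬ ∀ e, e ≠ 0 → f2 e e = 0 → e ∈ S := fun h => by
    obtain ⟨W, hW4, -, -, -, hWS, -⟩ := hfour e₀ v₀ hl₀
    have h1 : S = ⊤ := Submodule.eq_top_iff'.2
      (singular_span O.h2 (by omega) S h)
    have h2 := Submodule.finrank_mono (hSW W hWS)
    rw [h1, finrank_top] at h2
    omega
  obtain ⟨Sp, hSp, -⟩ := O.h2.exists_perp_sub S
  have haniso : ∀ x ∈ Sp, f2 x x = 0 → x = 0 := by
    intro x hx hxx
    by_contra hx0
    obtain ⟨v, hl⟩ := hline x hx0 hxx
    obtain ⟨W, -, hWn, hxW, -, -, hWle⟩ := hfour x v hl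
    refine hx0 (hWn x hxW fun y hy => ?_)
    obtain ⟨y₁, hy₁, y₂, hy₂, rfl⟩ := Submodule.mem_sup.1 (hWle hy)
    obtain ⟨s, t, rfl⟩ := Submodule.mem_span_pair.1 hy₁
    rw [O.h2.add_right, O.h2.add_right, O.h2.smul_right, O.h2.smul_right, hxx, hl.2.2.1,
      (hSp x).1 hx y₂ hy₂]
    ring
  have hSp2 : finrank F Sp ≤ 2 := by
    by_contra hgt
    have hnd : ∀ x ∈ Sp, (∀ y ∈ Sp, f2 x y = 0) → x = 0 := fun x hx h => haniso x hx (h x hx)
    obtain ⟨x, hx0, hx⟩ := (O.h2.restrict hnd).exists_iso (by omega)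
    exact hx0 (Subtype.ext (haniso x x.2 hx))
  have hdim : finrank F Sp + finrank F S = finrank F (κ → F) := O.h2.finrank_perp hSp
  push Not at hnotS
  obtain ⟨e, he0, he, heS⟩ := hnotS
  obtain ⟨v, hl⟩ := hline e he0 he
  obtain ⟨W, hW4, -, heW, -, hWS, -⟩ := hfour e v hl
  have hS3 : finrank F S ≤ 3 := by
    have h1 := hSW W hWS
    have h2 := Submodule.finrank_lt_finrank_of_lt (lt_of_le_of_ne h1 fun h => heS (h ▸ heW))
    omega
  obtain ⟨e', he', hee'⟩ := exists_pair O.h2 he0 he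
  set K := pairPerp O.h2 e e' with hK
  set Pe := LinearMap.ker (O.h2.lin e) with hPe
  have hKd : finrank F (κ → F) ≤ finrank F K + 2 := pairPerp_dim O.h2 e e'
  have HR := O.h2.restrict (pairPerp_nondeg O.h2 he he' hee')
  have hKle : ∀ y : K, (y : κ → F) ∈ (F ∙ e) ⊔ (S ⊓ Pe) := by
    refine singular_span HR (by
      show 3 ≤ finrank F K
      omega) (((F ∙ e) ⊔ (S ⊓ Pe)).comap K.subtype) fun y hy0 hyy => ?_
    obtain ⟨h1, h2⟩ := (mem_pairPerp O.h2).1 y.2
    have hye : (y : κ → F) ∉ F ∙ e := fun hm => hy0 (Subtype.ext (by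
      obtain ⟨t, ht⟩ := Submodule.mem_span_singleton.1 hm
      rw [← ht, O.h2.smul_left, hee', mul_one] at h2
      rw [← ht, h2, zero_smul]
      rfl))
    have hly : TL O e y := ⟨he, hyy, O.h2.symm0 h1, he0, hye⟩
    obtain ⟨W', hW'4, -, heW', hyW', hW'S, -⟩ := hfour e y hly
    have hle : Submodule.span F {e, (y : κ → F)} ≤ W' := by
      rw [Submodule.span_le]
      rintro _ (rfl | rfl)
      exacts [heW', hyW']
    have h3 := Submodule.finrank_sup_add_finrank_inf_eq (Submodule.span F {e, (y : κ → F)}) S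
    have h4 := Submodule.finrank_mono (sup_le hle (hSW W' hW'S))
    have h5 : 2 ≤ finrank F (Submodule.span F {e, (y : κ → F)}) := by
      have hlt : F ∙ e < Submodule.span F {e, (y : κ → F)} :=
        lt_of_le_of_ne (Submodule.span_mono (by simp)) fun h => hye (by
          rw [h]
          exact Submodule.subset_span (by simp))
      have := Submodule.finrank_lt_finrank_of_lt hlt
      rw [finrank_span_singleton he0] at this
      omega
    obtain ⟨z, hz, hz0⟩ := (Submodule.ne_bot_iff _).1 (show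
      Submodule.span F {e, (y : κ → F)} ⊓ S ≠ ⊥ from fun h => by
        rw [h, finrank_bot] at h3
        omega)
    obtain ⟨s, r, hsr⟩ := Submodule.mem_span_pair.1 hz.1
    have hr : r ≠ 0 := fun h0 => by
      rw [h0, zero_smul, add_zero] at hsr
      have hs : s ≠ 0 := fun h => hz0 (by rw [← hsr, h, zero_smul])
      refine heS ?_
      have := S.smul_mem s⁻¹ (hsr ▸ hz.2)
      rwa [smul_smul, inv_mul_cancel₀ hs, one_smul] at this
    refine Submodule.mem_sup.2 ⟨(-(r⁻¹ * s)) • e,
      Submodule.smul_mem _ _ (Submodule.mem_span_singleton_self e), r⁻¹ • z,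
      ⟨S.smul_mem _ hz.2, ?_⟩, ?_⟩
    · show f2 (r⁻¹ • z) e = 0
      rw [← hsr, O.h2.smul_left, O.h2.add_left, O.h2.smul_left, O.h2.smul_left, he, h1]
      ring
    · show _ = (y : κ → F)
      rw [← hsr, smul_add, smul_smul, smul_smul, inv_mul_cancel₀ hr, one_smul, neg_smul,
        neg_add_cancel_left]
  have hPele : Pe ≤ (F ∙ e) ⊔ (S ⊓ Pe) := fun x hx => by
    obtain ⟨p, q, k, hk, rfl⟩ := split_pair O.h2 he he' hee' x
    have hq : q = 0 := by
      have h := LinearMap.mem_ker.1 hx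
      rw [SForm.lin_apply, O.h2.add_left, O.h2.add_left, O.h2.smul_left, O.h2.smul_left, he,
        O.h2.symm e e', hee', ((mem_pairPerp O.h2).1 hk).1] at h
      linear_combination h
    rw [hq, zero_smul, add_zero]
    exact add_mem (Submodule.mem_sup_left (Submodule.smul_mem _ _ (Submodule.mem_span_singleton_self e)))
      (hKle ⟨k, hk⟩)
  have hPed : finrank F (κ → F) ≤ finrank F Pe + 1 := by
    have h1 := LinearMap.finrank_range_add_finrank_ker (O.h2.lin e)
    have h2 := Submodule.finrank_le (LinearMap.range (O.h2.lin e))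
    rw [finrank_self] at h2
    have h3 : finrank F Pe = finrank F (LinearMap.ker (O.h2.lin e)) := rfl
    omega
  have h6 := (Submodule.finrank_mono hPele).trans
    (Submodule.finrank_add_le_finrank_add_finrank _ _)
  rw [finrank_span_singleton he0] at h6
  have hSeq : S ⊓ Pe = S := Submodule.eq_of_le_of_finrank_le inf_le_left (by omega)
  exact he0 (haniso e ((hSp e).2 fun w hw => O.h2.symm0
    (show f2 w e = 0 from (hSeq.ge hw).2)) he)

end CfsgLib.MaxSub.TensorOO
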