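/-
An element of rank two spreads to all Eichler transformations.
-/
import Cfsg.Agent.Lib.MaxSub.TensorOO.Final
import Cfsg.Agent.Lib.MaxSub.SubspaceMaximalOrth

set_option autoImplicit false
set_option maxHeartbeats 1000000
set_option linter.unusedSectionVars false

namespace CfsgLib.MaxSub.TensorOO

open Matrix Module
open CfsgLib.MaxSub.TensorSympOrth (SForm ext_pure vmv_smul vmv_sub sub_vmv vmv_neg neg_vmv vmv_ne_zero)
open CfsgLib.MaxSub.TensorLin (Col colMap colMap_apply mem_col vmv_eq_zero vmv_zero vm exists_dot_one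
  colMap_injective finrank_col)
open CfsgLib.WittExtension (quadIso)
open CfsgLib.Eichler (IsEich exists_eich eich_unique)
open CfsgLib.MaxSub.Orth (InA Full inA_zero)
open QuadraticMap (polar)

variable {F : Type*} [Field F] {ι κ : Type*} [Fintype ι] [Fintype κ] [DecidableEq ι] [DecidableEq κ]

local notation "MV" => Matrix ι κ F

variable {f1 : (ι → F) → (ι → F) → F} {f2 : (κ → F) → (κ → F) → F}
  {f : Matrix ι κ F → Matrix ι κ F → F} {G : Subgroup (Matrix ι κ F ≃ₗ[F] Matrix ι κ F)}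

variable (O : OO f1 f2 f G)
include O

theorem exists_sep {c d : ι → F} (h : d ∉ F ∙ c) : ∃ x, f1 x c = 0 ∧ f1 x d = 1 := by
  obtain ⟨φ, hφd, hφ⟩ := Submodule.exists_dual_map_eq_bot_of_notMem h inferInstance
  obtain ⟨w, hw⟩ := O.h1.exists_repr φ
  have hc : φ c = 0 := by
    have := Submodule.mem_map_of_mem (f := φ) (Submodule.mem_span_singleton_self c)
    rwa [hφ, Submodule.mem_bot] at this
  refine ⟨(φ d)⁻¹ • w, ?_, ?_⟩
  · rw [O.h1.smul_left, O.h1.symm c w, ← hw, hc, mul_zero]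
  · rw [O.h1.smul_left, O.h1.symm d w, ← hw, inv_mul_cancel₀ hφd]

/-- Conjugates of skew maps by the second factor. -/
theorem Zs.moveR {e : κ → F} {T : (ι → F) →ₗ[F] (ι → F)} (h : Zs O e T)
    {M : (κ → F) →ₗ[F] (κ → F)} (hM : InR O M) : Zs O (M e) T := by
  obtain ⟨g, hg, hgY⟩ := h
  obtain ⟨hMi, u, hu, huX⟩ := hM
  refine ⟨u * g * u⁻¹, mul_mem (mul_mem hu hg) (inv_mem hu), fun Y => ?_⟩
  obtain ⟨Z, rfl⟩ := u.surjective Y
  show u (g (u.symm (u Z))) = _
  rw [u.symm_apply_apply, hgY, map_add, huX, inr_cv O hMi huX]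

theorem Zs.add {e : κ → F} (he : f2 e e = 0) {T T' : (ι → F) →ₗ[F] (ι → F)} (h : Zs O e T)
    (h' : Zs O e T') : Zs O e (T + T') := by
  have h0 : Zs O e 0 := ⟨1, one_mem G, fun Y => by simp⟩
  have := h.sub O he (h0.sub O he h')
  rwa [zero_sub, sub_neg_eq_add] at this

variable [Finite F]

omit [Finite F] in
theorem wedge_conj {L L' : (ι → F) →ₗ[F] (ι → F)} (hL : ∀ c d, f1 (L c) (L d) = f1 c d)
    (hinv : ∀ c, L (L' c) = c) (c d : ι → F) :
    L ∘ₗ wedge O.h1 c d ∘ₗ L' = wedge O.h1 (L c) (L d) := by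
  refine LinearMap.ext fun x => ?_
  have hx : ∀ c, f1 (L' x) c = f1 x (L c) := fun c => by
    conv_rhs => rw [← hinv x, hL]
  rw [LinearMap.comp_apply, LinearMap.comp_apply, wedge_apply O, wedge_apply O, map_sub, map_smul,
    map_smul, hx, hx]

/-- Multiples of a skew map, by the torus of the first factor. -/
theorem Zs.smul_wedge {e : κ → F} (he : f2 e e = 0) {η z : ι → F} (hη0 : η ≠ 0) (hη : f1 η η = 0)
    (hηz : f1 η z = 0) (hzz : f1 z z ≠ 0) (h : Zs O e (wedge O.h1 η z)) (t : F) :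
    Zs O e (t • wedge O.h1 η z) := by
  have h0 : Zs O e 0 := ⟨1, one_mem G, fun Y => by simp⟩
  obtain ⟨ζ, hζ, hηζ⟩ := exists_pair O.h1 hη0 hη
  set k := z - f1 z ζ • η with hk
  have hkη : f1 k η = 0 := by
    rw [hk, O.h1.sub_left, O.h1.smul_left, hη, O.h1.symm0 hηz, mul_zero, sub_zero]
  have hkζ : f1 k ζ = 0 := by rw [hk, O.h1.sub_left, O.h1.smul_left, hηζ, mul_one, sub_self]
  have hkk : f1 k k = f1 z z := by
    rw [hk]
    simp only [O.h1.sub_left, O.h1.sub_right, O.h1.smul_left, O.h1.smul_right, hη, hηz,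
      O.h1.symm0 hηz]
    ring
  have hk0 : f1 k k ≠ 0 := by rw [hkk]; exact hzz
  have hw : wedge O.h1 η k = wedge O.h1 η z := LinearMap.ext fun x => by
    rw [wedge_apply O, wedge_apply O, hk, O.h1.sub_right, O.h1.smul_right]
    match_scalars <;> ring
  rw [← hw] at h ⊢
  have hsq : ∀ s : F, Zs O e ((s * s) • wedge O.h1 η k) := fun s => by
    rcases eq_or_ne s 0 with rfl | hs
    · rwa [mul_zero, zero_smul]
    set c := f1 k k / 2 with hc
    have hc0 : c ≠ 0 := div_ne_zero hk0 O.h1.two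
    have hn : ∀ {u w : ι → F}, f1 u w = 0 → f1 u (-w) = 0 := fun {u w} h => by
      rw [O.h1.neg_right, h, neg_zero]
    have hsm : ∀ {u w : ι → F} (a : F), f1 u w = 0 → f1 u (a • w) = 0 := fun {u w} a h => by
      rw [O.h1.smul_right, h, mul_zero]
    have hz1 := O.h1.symm0 hkη
    have hz2 := O.h1.symm0 hkζ
    let a : ι → F := (s / c) • k
    have haa : f1 a a = 2 * (s * s / c) := by
      simp only [a, O.h1.smul_left, O.h1.smul_right, hc]
      have := O.h1.two
      field_simp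
    have ha0 : f1 a a ≠ 0 := by
      rw [haa]
      exact mul_ne_zero O.h1.two (div_ne_zero (mul_ne_zero hs hs) hc0)
    have haK : a ∈ pairPerp O.h1 ζ η := (mem_pairPerp O.h1).2
      ⟨by rw [O.h1.smul_left, hkζ, mul_zero], by rw [O.h1.smul_left, hkη, mul_zero]⟩
    have haη : f1 η a = 0 := hsm _ hz1
    have haζ : f1 ζ a = 0 := hsm _ hz2
    let b : ι → F := (f1 a a / 2)⁻¹ • a
    have hbζ : f1 ζ b = 0 := hsm _ haζ
    let d : ι → F := (f1 k k / 2)⁻¹ • k
    have hdη : f1 η d = 0 := hsm _ hz1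
    have hE : ∀ {u w : ι → F}, f1 u u = 0 → f1 u w = 0 → ∀ x, eich O.h1 u (-w) (eich O.h1 u w x) = x :=
      fun h h' x => eich_inv O.h1 h h' x
    have h1 := (((h.conj O (inl_eich O hζ hz2) (hE hζ hz2)).conj O (inl_eich O hη hdη)
      (hE hη hdη)).conj O (inl_eich O hη haη) (hE hη haη)).conj O (inl_eich O hζ hbζ) (hE hζ hbζ)
    rw [wedge_conj O (eich_isom O.h1 hζ hz2) (fun x => by
        rw [eich_mul O.h1 hζ hz2 (hn hz2), add_neg_cancel, eich_zero]),
      wedge_conj O (eich_isom O.h1 hη hdη) (fun x => by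
        rw [eich_mul O.h1 hη hdη (hn hdη), add_neg_cancel, eich_zero]),
      wedge_conj O (eich_isom O.h1 hη haη) (fun x => by
        rw [eich_mul O.h1 hη haη (hn haη), add_neg_cancel, eich_zero]),
      wedge_conj O (eich_isom O.h1 hζ hbζ) (fun x => by
        rw [eich_mul O.h1 hζ hbζ (hn hbζ), add_neg_cancel, eich_zero])] at h1
    have eA : eich O.h1 η d (eich O.h1 ζ k η) = (-c) • ζ :=
      eich_swap O.h1 hη hηζ ((mem_pairPerp O.h1).2 ⟨hkη, hkζ⟩) hk0
    have eB : eich O.h1 ζ b (eich O.h1 η a ζ) = (-(f1 a a / 2)) • η :=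
      eich_swap O.h1 hζ (by rw [O.h1.symm, hηζ]) haK ha0
    set L : (ι → F) → (ι → F) := fun x =>
      eich O.h1 ζ b (eich O.h1 η a (eich O.h1 η d (eich O.h1 ζ k x))) with hL
    have eη : L η = (s * s) • η := by
      show eich O.h1 ζ b (eich O.h1 η a (eich O.h1 η d (eich O.h1 ζ k η))) = _
      rw [eA, map_smul, map_smul, eB, smul_smul, haa]
      congr 1
      have := O.h1.two
      field_simp
    have hiso : ∀ x y, f1 (L x) (L y) = f1 x y := fun x y => by
      show f1 (eich O.h1 ζ b _) (eich O.h1 ζ b _) = _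
      rw [eich_isom O.h1 hζ hbζ, eich_isom O.h1 hη haη, eich_isom O.h1 hη hdη, eich_isom O.h1 hζ hz2]
    let W : Submodule F (ι → F) := Submodule.span F {η, ζ, k}
    have hmemW : ∀ {u w x : ι → F}, u ∈ W → w ∈ W → x ∈ W → eich O.h1 u w x ∈ W :=
      fun {u w x} h1 h2 h3 => by
        rw [eich_apply]
        exact W.add_mem h3 (W.sub_mem (W.sub_mem (W.smul_mem _ h2) (W.smul_mem _ h1)) (W.smul_mem _ h1))
    have mη : η ∈ W := Submodule.subset_span (by simp)
    have mζ : ζ ∈ W := Submodule.subset_span (by simp)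
    have mk : k ∈ W := Submodule.subset_span (by simp)
    have hLk : L k ∈ W := hmemW mζ (W.smul_mem _ (W.smul_mem _ mk))
      (hmemW mη (W.smul_mem _ mk) (hmemW mη (W.smul_mem _ mk) (hmemW mζ mk mk)))
    obtain ⟨p, q, r, hpqr⟩ := Submodule.mem_span_triple.1 hLk
    have hq : q = 0 := by
      have e1 : f1 (L k) (L η) = 0 := by rw [hiso]; exact hkη
      rw [eη, ← hpqr] at e1
      simp only [O.h1.add_left, O.h1.smul_left, O.h1.smul_right, hη, hkη, O.h1.symm η ζ, hηζ] at e1
      have hss : s * s ≠ 0 := mul_ne_zero hs hs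
      exact (mul_eq_zero.1 (show q * (s * s) = 0 by linear_combination e1)).resolve_right hss
    subst hq
    have hr : r * r = 1 := by
      have e1 : f1 (L k) (L k) = f1 k k := hiso _ _
      rw [← hpqr] at e1
      simp only [O.h1.add_left, O.h1.add_right, O.h1.smul_left, O.h1.smul_right, hη, hkη, hz1] at e1
      exact mul_right_cancel₀ hk0 (by linear_combination e1)
    change Zs O e (wedge O.h1 (L η) (L k)) at h1
    have e2 : wedge O.h1 (L η) (L k) = r • ((s * s) • wedge O.h1 η k) := LinearMap.ext fun x => by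
      rw [eη, ← hpqr, LinearMap.smul_apply, LinearMap.smul_apply, wedge_apply O, wedge_apply O]
      simp only [O.h1.add_right, O.h1.smul_right, zero_smul, add_zero]
      match_scalars <;> ring
    rw [e2] at h1
    rcases mul_self_eq_one_iff.1 hr with rfl | rfl
    · convert h1 using 1
      exact LinearMap.ext fun x => by simp
    · convert h0.sub O he h1 using 1
      exact LinearMap.ext fun x => by simp
  have e1 : t = (t + 1) / 2 * ((t + 1) / 2) - (t - 1) / 2 * ((t - 1) / 2) := by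
    have := O.h.two
    field_simp
    ring
  have h2 := (hsq ((t + 1) / 2)).sub O he (hsq ((t - 1) / 2))
  convert h2 using 1
  refine LinearMap.ext fun x => ?_
  rw [LinearMap.smul_apply, LinearMap.sub_apply, LinearMap.smul_apply, LinearMap.smul_apply, ← sub_smul, ← e1]

omit [Finite F] in
/-- All multiples are skew maps of elements. -/
def ZsA (O : OO f1 f2 f G) (e : κ → F) (T : (ι → F) →ₗ[F] (ι → F)) : Prop :=
  ∀ t : F, Zs O e (t • T)

omit [Finite F] in
theorem ZsA.smul {e : κ → F} {T : (ι → F) →ₗ[F] (ι → F)} (h : ZsA O e T) (a : F) :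
    ZsA O e (a • T) := fun t => by rw [smul_smul]; exact h _

omit [Finite F] in
theorem ZsA.sub {e : κ → F} (he : f2 e e = 0) {T T' : (ι → F) →ₗ[F] (ι → F)} (h : ZsA O e T)
    (h' : ZsA O e T') : ZsA O e (T - T') := fun t => by rw [smul_sub]; exact (h t).sub O he (h' t)

omit [Finite F] in
theorem ZsA.add {e : κ → F} (he : f2 e e = 0) {T T' : (ι → F) →ₗ[F] (ι → F)} (h : ZsA O e T)
    (h' : ZsA O e T') : ZsA O e (T + T') := fun t => by rw [smul_add]; exact (h t).add O he (h' t)

omit [Finite F] in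
theorem ZsA.conj {e : κ → F} {T L L' : (ι → F) →ₗ[F] (ι → F)} (h : ZsA O e T) (hL : InL O L)
    (hinv : ∀ c, L' (L c) = c) : ZsA O e (L ∘ₗ T ∘ₗ L') := fun t => by
  have := (h t).conj O hL hinv
  rwa [LinearMap.smul_comp, LinearMap.comp_smul] at this

omit [Finite F] in
theorem ZsA.zero {e : κ → F} : ZsA O e 0 := fun t => ⟨1, one_mem G, fun Y => by simp⟩

/-- One skew map of rank two gives all. -/
theorem zs_all {e : κ → F} (he0 : e ≠ 0) (he : f2 e e = 0) {η z : ι → F} (hη0 : η ≠ 0)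
    (hη : f1 η η = 0) (hηz : f1 η z = 0) (hzz : f1 z z ≠ 0) (h : Zs O e (wedge O.h1 η z))
    (c d : ι → F) : ZsA O e (wedge O.h1 c d) := by
  obtain ⟨ζ, hζ, hηζ⟩ := exists_pair O.h1 hη0 hη
  set K := pairPerp O.h1 η ζ
  have hK : ∀ k ∈ K, f1 k η = 0 ∧ f1 k ζ = 0 := fun k hk => (mem_pairPerp O.h1).1 hk
  set k₀ := z - f1 z ζ • η with hk₀
  have hk₀K : k₀ ∈ K := (mem_pairPerp O.h1).2
    ⟨by rw [hk₀, O.h1.sub_left, O.h1.smul_left, hη, O.h1.symm0 hηz, mul_zero, sub_zero],
      by rw [hk₀, O.h1.sub_left, O.h1.smul_left, hηζ, mul_one, sub_self]⟩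
  have hn₀ : f1 k₀ k₀ = f1 z z := by
    rw [hk₀]
    simp only [O.h1.sub_left, O.h1.sub_right, O.h1.smul_left, O.h1.smul_right, hη, hηz,
      O.h1.symm0 hηz]
    ring
  have hn0 : f1 k₀ k₀ ≠ 0 := by rw [hn₀]; exact hzz
  have h₀ : ZsA O e (wedge O.h1 η k₀) := by
    have e1 : wedge O.h1 η k₀ = wedge O.h1 η z := LinearMap.ext fun x => by
      rw [wedge_apply O, wedge_apply O, hk₀, O.h1.sub_right, O.h1.smul_right]
      match_scalars <;> ring
    rw [e1]
    exact fun t => h.smul_wedge O he hη0 hη hηz hzz t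
  have hconj : ∀ (η' θ : ι → F), f1 η' η' = 0 → f1 η' θ = 0 → ∀ c d, ZsA O e (wedge O.h1 c d) →
      ZsA O e (wedge O.h1 (eich O.h1 η' θ c) (eich O.h1 η' θ d)) := by
    intro η' θ h1 h2 c d hcd
    have hinv : ∀ x, eich O.h1 η' θ (eich O.h1 η' (-θ) x) = x := fun x => by
      rw [eich_mul O.h1 h1 h2 (by rw [O.h1.neg_right, h2, neg_zero]), add_neg_cancel, eich_zero]
    rw [← wedge_conj O (eich_isom O.h1 h1 h2) hinv c d]
    exact hcd.conj O (inl_eich O h1 h2) (fun x => eich_inv O.h1 h1 h2 x)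
  let P0 : (ι → F) → Submodule F (ι → F) := fun x =>
    { carrier := {y | ZsA O e (wedge O.h1 x y)}
      zero_mem' := by
        show ZsA O e _
        rw [show wedge O.h1 x 0 = 0 from LinearMap.ext fun v => by simp [wedge_apply O, O.h1.zero_right]]
        exact ZsA.zero O
      add_mem' := fun {y y'} hy hy' => by
        have := ZsA.add O he hy hy'
        show ZsA O e _
        convert this using 1
        exact LinearMap.ext fun v => by
          simp only [LinearMap.add_apply, wedge_apply O, O.h1.add_right]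
          match_scalars <;> ring
      smul_mem' := fun t y hy => by
        have := ZsA.smul O hy t
        show ZsA O e _
        convert this using 1
        exact LinearMap.ext fun v => by
          simp only [LinearMap.smul_apply, wedge_apply O, O.h1.smul_right]
          match_scalars <;> ring }
  have hmem : ∀ x y, y ∈ P0 x ↔ ZsA O e (wedge O.h1 x y) := fun _ _ => Iff.rfl
  have hswap : ∀ x y, ZsA O e (wedge O.h1 x y) → ZsA O e (wedge O.h1 y x) := fun x y hxy => by
    have e1 : wedge O.h1 y x = (-1 : F) • wedge O.h1 x y := LinearMap.ext fun v => by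
      simp only [LinearMap.smul_apply, wedge_apply O]
      module
    rw [e1]
    exact ZsA.smul O hxy _
  have hwb : ∀ a b : ι → F, ∀ s : F, ZsA O e (wedge O.h1 a b) → ZsA O e (s • wedge O.h1 a b) :=
    fun a b s hab => ZsA.smul O hab s
  have step : ∀ θ ∈ K, ZsA O e (wedge O.h1 θ k₀ - f1 k₀ θ • wedge O.h1 η ζ) ∧
      ZsA O e ((-f1 k₀ θ) • wedge O.h1 θ ζ + (f1 θ θ / 2) • wedge O.h1 k₀ ζ) := by
    intro θ hθ
    have hζθ : f1 ζ θ = 0 := O.h1.symm0 (hK θ hθ).2
    have hζθ' : f1 ζ (-θ) = 0 := by rw [O.h1.neg_right, hζθ, neg_zero]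
    have hP := hconj ζ θ hζ hζθ η k₀ h₀
    have hM := hconj ζ (-θ) hζ hζθ' η k₀ h₀
    have hodd := ZsA.smul O (hP.sub O he hM) (2⁻¹ : F)
    have heven := ZsA.smul O ((hP.add O he hM).sub O he (h₀.add O he h₀)) (2⁻¹ : F)
    have hθη := (hK θ hθ).1
    constructor
    · convert hodd using 1
      refine LinearMap.ext fun x => ?_
      simp only [LinearMap.sub_apply, LinearMap.smul_apply, wedge_apply O, eich_apply, hηζ,
        O.h1.symm η ζ, hζ, (hK k₀ hk₀K).2, O.h1.neg_left, O.h1.neg_right, O.h1.add_right,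
        O.h1.sub_right, O.h1.smul_right, O.h1.symm0 hθη, hη]
      have := O.h.two
      match_scalars <;> field_simp <;> ring
    · convert heven using 1
      refine LinearMap.ext fun x => ?_
      simp only [LinearMap.sub_apply, LinearMap.add_apply, LinearMap.smul_apply, wedge_apply O,
        eich_apply, hηζ, O.h1.symm η ζ, hζ, (hK k₀ hk₀K).2, O.h1.neg_left, O.h1.neg_right,
        O.h1.add_right, O.h1.sub_right, O.h1.smul_right, O.h1.symm0 hθη, hη]
      have := O.h.two
      match_scalars <;> field_simp <;> ring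
  have hηζm : ZsA O e (wedge O.h1 η ζ) := by
    have := ZsA.smul O (step k₀ hk₀K).1 (-(f1 k₀ k₀)⁻¹)
    convert this using 1
    refine LinearMap.ext fun x => ?_
    simp only [LinearMap.smul_apply, LinearMap.sub_apply, wedge_apply O]
    match_scalars <;> field_simp <;> ring
  have hk₀θ : ∀ θ ∈ K, ZsA O e (wedge O.h1 k₀ θ) := fun θ hθ => hswap _ _ (by
    have := (step θ hθ).1.add O he (hwb η ζ (f1 k₀ θ) hηζm)
    rwa [sub_add_cancel] at this)
  have hk₀ζ : ZsA O e (wedge O.h1 k₀ ζ) := by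
    have := ZsA.smul O (step k₀ hk₀K).2 (-(2 : F) / f1 k₀ k₀)
    convert this using 1
    rw [smul_add, smul_smul, smul_smul, ← add_smul]
    have := O.h.two
    convert (one_smul F (wedge O.h1 k₀ ζ)).symm using 2
    field_simp
    ring
  let N0 : Submodule F (ι → F) :=
    { carrier := {x | ∀ y, ZsA O e (wedge O.h1 x y)}
      zero_mem' := fun y => hswap _ _ ((hmem y 0).1 (zero_mem _))
      add_mem' := fun {x x'} hx hx' y =>
        hswap _ _ ((hmem y _).1 (add_mem (hswap _ _ (hx y)) (hswap _ _ (hx' y))))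
      smul_mem' := fun t x hx y =>
        hswap _ _ ((hmem y _).1 (Submodule.smul_mem _ t (hswap _ _ (hx y)))) }
  have hinv : ∀ η' θ, f1 η' η' = 0 → f1 η' θ = 0 → ∀ x ∈ N0, eich O.h1 η' θ x ∈ N0 := by
    intro η' θ h1 h2 x hx y
    have := hconj η' θ h1 h2 x (eich O.h1 η' (-θ) y) (hx _)
    rwa [eich_mul O.h1 h1 h2 (by rw [O.h1.neg_right, h2, neg_zero]), add_neg_cancel, eich_zero] at this
  have hk₀N : k₀ ∈ N0 := by
    intro y
    obtain ⟨p, q, k, hk, rfl⟩ := split_pair O.h1 hη hζ hηζ y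
    exact add_mem (add_mem (Submodule.smul_mem (P0 k₀) p (hswap _ _ h₀))
      (Submodule.smul_mem (P0 k₀) q hk₀ζ)) (hk₀θ k hk : k ∈ P0 k₀)
  have hηN : η ∈ N0 := by
    have h1 := sub_mem (hinv η k₀ hη (O.h1.symm0 (hK k₀ hk₀K).1) k₀ hk₀N) hk₀N
    rw [eich_apply, (hK k₀ hk₀K).1, zero_smul, mul_zero, zero_smul, sub_zero, zero_sub,
      add_sub_cancel_left] at h1
    have h3 := N0.smul_mem (-(f1 k₀ k₀)⁻¹) h1
    rwa [smul_neg, neg_smul, neg_neg, smul_smul, inv_mul_cancel₀ hn0, one_smul] at h3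
  have hζN : ζ ∈ N0 := by
    have h1 := sub_mem (hinv ζ k₀ hζ (O.h1.symm0 (hK k₀ hk₀K).2) k₀ hk₀N) hk₀N
    rw [eich_apply, (hK k₀ hk₀K).2, zero_smul, mul_zero, zero_smul, sub_zero, zero_sub,
      add_sub_cancel_left] at h1
    have h3 := N0.smul_mem (-(f1 k₀ k₀)⁻¹) h1
    rwa [smul_neg, neg_smul, neg_neg, smul_smul, inv_mul_cancel₀ hn0, one_smul] at h3
  obtain ⟨p, q, k, hk, rfl⟩ := split_pair O.h1 hη hζ hηζ c
  have hkN : k ∈ N0 := by
    have h1 := sub_mem (hinv η k hη (O.h1.symm0 (hK k hk).1) ζ hζN) hζN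
    rw [eich_apply, O.h1.symm η ζ, hηζ, O.h1.symm0 (hK k hk).2, zero_smul, sub_zero, mul_one,
      one_smul, add_sub_cancel_left] at h1
    simpa using add_mem h1 (N0.smul_mem (f1 k k / 2) hηN)
  exact add_mem (add_mem (N0.smul_mem p hηN) (N0.smul_mem q hζN)) hkN d

omit [Finite F] in
theorem quad_nondeg : (QuadraticMap.polarBilin O.h.quad).Nondegenerate := by
  have h0 : ∀ X, (∀ Y, polar O.h.quad X Y = 0) → X = 0 := fun X hX => O.h.nondeg X fun Y => by
    have := hX Y
    rw [O.h.quad_polar] at this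
    exact (mul_eq_zero.1 this).resolve_left O.h.two
  exact ⟨fun X hX => h0 X hX, fun X hX => h0 X fun Y => by
    rw [QuadraticMap.polar_comm]; exact hX Y⟩

/-- A non-pure element forces all Eichler transformations. -/
theorem sieg_le [Fintype F] (hnr : ¬ NoRoot O) :
    Subgroup.closure (Eichler.Sieg O.h.quad) ≤ G.comap (quadIso O.h.quad).subtype := by
  set Qf := O.h.quad with hQf
  set K := G.comap (quadIso Qf).subtype
  simp only [NoRoot, not_forall, not_not] at hnr
  obtain ⟨η₁, z₁, e₁, hη₁0, hη₁, hηz₁, hzz₁, he₁0, he₁, g₁, hg₁, hgY₁⟩ := hnr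
  have h₁ : Zs O e₁ (wedge O.h1 η₁ z₁) := ⟨g₁, hg₁, fun Y => by
    rw [hgY₁, wedge_apply O, sub_vmv, smul_vecMulVec, smul_vecMulVec, f_cv O, f_cv O]
    abel⟩
  -- all pairs on one vector of the second factor
  have hroot : ∀ (c d : ι → F) (e : κ → F), e ≠ 0 → f2 e e = 0 →
      Root f G (vecMulVec c e) (vecMulVec d e) := fun c d e he0 he => by
    obtain ⟨M, hM, s, hs, hMe⟩ := inr_move O he₁0 he₁ he0 he
    obtain ⟨g, hg, hgY⟩ := (zs_all O he₁0 he₁ hη₁0 hη₁ hηz₁ hzz₁ h₁ c d (s * s)⁻¹).moveR O hM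
    refine zs_root O ⟨g, hg, fun Y => ?_⟩
    rw [hgY, hMe, cv_smul_vec O, map_smul, LinearMap.smul_apply, vmv_smul, smul_vecMulVec,
      smul_vecMulVec, smul_smul, smul_smul]
    congr 1
    rw [mul_inv_cancel₀ (mul_ne_zero hs hs), one_smul]
  have hpol : ∀ c x d y, polar Qf (vecMulVec c x) (vecMulVec d y) = 2 * (f1 c d * f2 x y) :=
    fun c x d y => by rw [hQf, O.h.quad_polar, O.f_pure]
  have hQv : ∀ c x, Qf (vecMulVec c x) = f1 c c * f2 x x := fun c x => by
    rw [hQf, O.h.quad_apply, O.f_pure]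
  have inA1 : ∀ (c d : ι → F) (e : κ → F), f2 e e = 0 →
      InA K (vecMulVec c e) (vecMulVec d e) := by
    intro c d e he
    rcases eq_or_ne e 0 with rfl | he0
    · rw [vmv_zero, vmv_zero]
      exact inA_zero _
    intro g hgE
    obtain ⟨g', hg', hgY⟩ := hroot c ((2 : F) • d) e he0 he
    show g.1 ∈ G
    rw [show g.1 = g' from LinearEquiv.ext fun Y => by
      rw [hgE Y, hgY, hQv, he, mul_zero, hQf, O.h.quad_polar, O.h.quad_polar, O.h.symm Y (vecMulVec c e),
        O.h.symm Y (vecMulVec d e), smul_vecMulVec, O.h.smul_right]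
      match_scalars <;> ring]
    exact hg'
  have hR : ∀ u w, f w w = 0 → InA K u w → Qf u = 0 → f u w = 0 →
      ∃ k ∈ K, ∀ Y, (k : quadIso Qf).1 Y = Y + (2 * f u Y) • w - (2 * f w Y) • u := by
    intro u w hw h hu huw
    obtain ⟨k, hk⟩ := exists_eich Qf hu (show polar Qf u w = 0 by
      rw [hQf, O.h.quad_polar, huw, mul_zero])
    refine ⟨k, h k hk, fun Y => ?_⟩
    rw [hk Y, hQf, O.h.quad_polar, O.h.quad_polar, O.h.quad_apply, hw]
    match_scalars <;> ring
  -- second step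
  have inA2 : ∀ (d' : ι → F) (f' : κ → F), d' ≠ 0 → f' ≠ 0 → f2 f' f' = 0 → ∀ c, f1 d' c = 0 → ∀ x,
      InA K (vecMulVec d' f') (vecMulVec c x) := by
    intro d' f' hd'0 hf'0 hf' c hc x
    obtain ⟨e, he, hef⟩ := exists_pair O.h2 hf'0 hf'
    have hu : Qf (vecMulVec d' f') = 0 := by rw [hQv, hf', mul_zero]
    have hperp : ∀ c, f1 d' c = 0 → ∀ x, polar Qf (vecMulVec d' f') (vecMulVec c x) = 0 :=
      fun c hc x => by rw [hpol, hc, zero_mul, mul_zero]
    have base : ∀ e, f2 e e = 0 → f2 f' e = 1 → ∀ c, f1 d' c = 0 →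
        InA K (vecMulVec d' f') (vecMulVec (-c) e) := by
      intro e he hfe c hc
      rcases eq_or_ne c 0 with rfl | hc0
      · rw [neg_zero, zero_vecMulVec]
        exact inA_zero _
      obtain ⟨d, hdd', hdc⟩ : ∃ d, f1 d d' = 0 ∧ d ∉ F ∙ c := by
        obtain ⟨P, hP, hdim⟩ := O.h1.finrank_perp_le ![d']
        by_contra hno
        push Not at hno
        have h2 := Submodule.finrank_mono (show P ≤ F ∙ c from fun d hd => hno d ((hP d).1 hd 0))
        rw [finrank_span_singleton hc0] at h2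
        have := hda O
        omega
      obtain ⟨c', hc'c, hc'd⟩ := exists_sep O hdc
      obtain ⟨k, hk, hkY⟩ := hR (vecMulVec c e) (vecMulVec ((2 : F)⁻¹ • d) e)
        (by rw [O.f_pure, he, mul_zero]) (inA1 c _ e he) (by rw [hQv, he, mul_zero])
        (by rw [O.f_pure, he, mul_zero])
      have h1 : k.1 (vecMulVec d' f') = vecMulVec d' f' := by
        rw [hkY, O.f_pure, O.f_pure, O.h1.symm0 hc, O.h1.smul_left, hdd']
        simp
      have h2 : k.1 (vecMulVec c' f') = vecMulVec c' f' - vecMulVec c e := by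
        rw [hkY, O.f_pure, O.f_pure, O.h1.symm c' c, hc'c, O.h1.smul_left, O.h1.symm c' d, hc'd,
          O.h2.symm f' e, hfe, smul_vecMulVec]
        have := O.h.two
        match_scalars <;> field_simp
      have h3 := (inA1 d' c' f' hf').conj hk
      rw [h1, h2] at h3
      have h4 := InA.add hu (by
          rw [hQf, O.h.quad_polar, O.h.sub_right, O.f_pure, O.f_pure, hf', hc, mul_zero, zero_mul,
            sub_zero, mul_zero])
        (by rw [hpol, hf', mul_zero, mul_zero]) h3 (inA1 d' (-c') f' hf')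
      have e1 : vecMulVec c' f' - vecMulVec c e + vecMulVec (-c') f' = vecMulVec (-c) e := by
        rw [neg_vmv, neg_vmv]
        abel
      rw [e1] at h4
      exact h4
    have base' : ∀ e, f2 e e = 0 → f2 f' e = 1 → ∀ c, f1 d' c = 0 →
        InA K (vecMulVec d' f') (vecMulVec c e) := fun e he hfe c hc => by
      have := base e he hfe (-c) (by rw [O.h1.neg_right, hc, neg_zero])
      rwa [neg_neg] at this
    let P : Submodule F (κ → F) :=
      { carrier := {x | ∀ c, f1 d' c = 0 → InA K (vecMulVec d' f') (vecMulVec c x)}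
        zero_mem' := fun c hc => by rw [vmv_zero]; exact inA_zero _
        add_mem' := fun {x y} hx hy c hc => by
          rw [vecMulVec_add]
          exact InA.add hu (hperp c hc x) (hperp c hc y) (hx c hc) (hy c hc)
        smul_mem' := fun t x hx c hc => by
          rw [vmv_smul, ← smul_vecMulVec]
          exact hx _ (by rw [O.h1.smul_right, hc, mul_zero]) }
    suffices h : x ∈ P from h c hc
    have hfP : f' ∈ P := fun c _ => inA1 d' c f' hf'
    have heP : e ∈ P := fun c hc => base' e he hef c hc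
    obtain ⟨p, q, k, hk, rfl⟩ := split_pair O.h2 hf' he hef x
    refine add_mem (add_mem (P.smul_mem p hfP) (P.smul_mem q heP)) ?_
    obtain ⟨hkf, hke⟩ := (mem_pairPerp O.h2).1 hk
    have hv : e + k - (f2 k k / 2) • f' ∈ P := fun c hc => base' _ (by
      simp only [O.h2.add_left, O.h2.add_right, O.h2.sub_left, O.h2.sub_right, O.h2.smul_left,
        O.h2.smul_right, he, hf', hef, O.h2.symm f' e, hke, hkf, O.h2.symm k e, O.h2.symm k f']
      have := O.h.two
      field_simp
      ring) (by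
      rw [O.h2.sub_right, O.h2.add_right, O.h2.smul_right, hef, O.h2.symm0 hkf, hf', mul_zero,
        sub_zero, add_zero]) c hc
    have := add_mem (sub_mem hv heP) (P.smul_mem (f2 k k / 2) hfP)
    rwa [show e + k - (f2 k k / 2) • f' - e + (f2 k k / 2) • f' = k by abel] at this
  -- singular centres
  have full : ∀ (η ζ : ι → F) (f' e : κ → F), f1 η η = 0 → f1 ζ ζ = 0 → f1 η ζ = 1 → f2 f' f' = 0 →
      f2 e e = 0 → f2 f' e = 1 → Full K (vecMulVec η f') := by
    intro η ζ f' e hη hζ hηζ hf' he hfe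
    have hη0 : η ≠ 0 := fun h => by
      rw [h, O.h1.zero_left] at hηζ
      exact zero_ne_one hηζ
    have hζ0 : ζ ≠ 0 := fun h => by
      rw [h, O.h1.zero_right] at hηζ
      exact zero_ne_one hηζ
    have hf'0 : f' ≠ 0 := fun h => by
      rw [h, O.h2.zero_left] at hfe
      exact zero_ne_one hfe
    obtain ⟨k₁, hk₁, hn₁⟩ := exists_aniso_pairPerp O.h1 (hda O) hη hζ hηζ
    obtain ⟨hk₁η, hk₁ζ⟩ := (mem_pairPerp O.h1).1 hk₁
    have hu : Qf (vecMulVec η f') = 0 := by rw [hQv, hη, zero_mul]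
    obtain ⟨k, hk, hkY⟩ := hR (vecMulVec η f') (vecMulVec k₁ e) (by rw [O.f_pure, he, mul_zero])
      (inA2 η f' hη0 hf'0 hf' k₁ (O.h1.symm0 hk₁η) e) hu
      (by rw [O.f_pure, O.h1.symm0 hk₁η, zero_mul])
    have single : ∀ x, f2 x x = 0 → f2 x f' = 0 →
        InA K (vecMulVec η f') (vecMulVec ζ x) := by
      intro x hx hxf
      rcases eq_or_ne x 0 with rfl | hx0
      · rw [vmv_zero]
        exact inA_zero _
      have hnx0 : -x ≠ 0 := neg_ne_zero.2 hx0
      have hnx : f2 (-x) (-x) = 0 := by rw [O.h2.neg_left, O.h2.neg_right, hx, neg_neg]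
      have hnxf : f2 (-x) f' = 0 := by rw [O.h2.neg_left, hxf, neg_zero]
      set u := vecMulVec ζ (-x) with hud
      have hQu : Qf u = 0 := by rw [hud, hQv, hζ, zero_mul]
      set s := -(2 * f1 k₁ k₁)⁻¹ with hs
      have hc : f1 ζ (s • k₁) = 0 := by rw [O.h1.smul_right, O.h1.symm0 hk₁ζ, mul_zero]
      have h3 := (inA2 ζ (-x) hζ0 hnx0 hnx _ hc f').conj hk
      have e1 : k.1 u = u := by
        rw [hud, hkY, O.f_pure, O.f_pure, O.h2.symm0 hnxf, hk₁ζ]
        simp
      have e2 : k.1 (vecMulVec (s • k₁) f') = vecMulVec (s • k₁) f' + vecMulVec η f' := by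
        rw [hkY, O.f_pure, O.f_pure, O.h1.smul_right, O.h1.smul_right, O.h1.symm0 hk₁η, hf',
          O.h2.symm f' e, hfe, hs]
        have := O.h.two
        match_scalars <;> field_simp <;> ring
      rw [← hud, e1, e2] at h3
      have hneg : InA K u (vecMulVec (-(s • k₁)) f') := inA2 ζ (-x) hζ0 hnx0 hnx _
        (by rw [O.h1.neg_right, hc, neg_zero]) f'
      have h4 := InA.add hQu (by
          rw [hud, hQf, O.h.quad_polar, O.h.add_right, O.f_pure, O.f_pure, hc, hnxf, zero_mul,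
            mul_zero, add_zero, mul_zero])
        (by rw [hud, hpol, hnxf, mul_zero, mul_zero]) h3 hneg
      rw [neg_vmv, show vecMulVec (s • k₁) f' + vecMulVec η f' + -vecMulVec (s • k₁) f' =
        vecMulVec η f' by abel] at h4
      intro g hgE
      refine h4 g fun Y => ?_
      rw [hgE Y, hud, vmv_neg, hQf]
      simp only [O.h.quad_polar, O.h.quad_apply, O.h.neg_left, O.f_pure, hη, hx]
      match_scalars <;> ring
    have hperpf : ∀ x, f2 x f' = 0 → ∀ t : F,
        polar Qf (vecMulVec η f') (t • vecMulVec ζ x) = 0 := fun x hx t => by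
      rw [hQf, O.h.quad_polar, O.h.smul_right, O.f_pure, O.h2.symm0 hx]
      ring
    let P : Submodule F (κ → F) :=
      { carrier := {x | f2 x f' = 0 ∧ ∀ t : F, InA K (vecMulVec η f') (t • vecMulVec ζ x)}
        zero_mem' := ⟨O.h2.zero_left _, fun t => by rw [vmv_zero, smul_zero]; exact inA_zero _⟩
        add_mem' := fun {x y} hx hy => ⟨by rw [O.h2.add_left, hx.1, hy.1, add_zero], fun t => by
          rw [vecMulVec_add, smul_add]
          exact InA.add hu (hperpf x hx.1 t) (hperpf y hy.1 t) (hx.2 t) (hy.2 t)⟩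
        smul_mem' := fun s x hx => ⟨by rw [O.h2.smul_left, hx.1, mul_zero], fun t => by
          rw [vmv_smul, smul_smul]
          exact hx.2 _⟩ }
    have hsP : ∀ x, f2 x x = 0 → f2 x f' = 0 → x ∈ P := fun x hx hxf => ⟨hxf, fun t => by
      rw [← vmv_smul]
      exact single _ (by rw [O.h2.smul_left, O.h2.smul_right, hx, mul_zero, mul_zero])
        (by rw [O.h2.smul_left, hxf, mul_zero])⟩
    have hPall : ∀ x, f2 x f' = 0 → x ∈ P := by
      intro x hx
      obtain ⟨p, q, l, hl, rfl⟩ := split_pair O.h2 hf' he hfe x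
      have hq : q = 0 := by
        rw [O.h2.add_left, O.h2.add_left, O.h2.smul_left, O.h2.smul_left, hf', O.h2.symm f' e, hfe,
          ((mem_pairPerp O.h2).1 hl).1] at hx
        linear_combination hx
      rw [hq, zero_smul, add_zero]
      obtain ⟨hlf, hle⟩ := (mem_pairPerp O.h2).1 hl
      have hk₁0 : k₁ ≠ 0 := fun e0 => hn₁ (by rw [e0, O.h1.zero_left])
      refine add_mem (P.smul_mem p (hsP f' hf' hf')) ⟨hlf, fun t => ?_⟩
      obtain ⟨k, hk, hkY⟩ := hR (vecMulVec k₁ f') (vecMulVec ((t / (2 * f1 k₁ k₁)) • ζ) l)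
        (by rw [O.f_pure, O.h1.smul_left, O.h1.smul_right, hζ]; ring)
        (inA2 k₁ f' hk₁0 hf'0 hf' _ (by rw [O.h1.smul_right, hk₁ζ, mul_zero]) l)
        (by rw [hQv, hf', mul_zero])
        (by rw [O.f_pure, O.h1.smul_right, hk₁ζ, mul_zero, zero_mul])
      have h3 := (inA2 η f' hη0 hf'0 hf' k₁ (O.h1.symm0 hk₁η) e).conj hk
      have e1 : k.1 (vecMulVec η f') = vecMulVec η f' := by
        rw [hkY, O.f_pure, O.f_pure, hk₁η, hlf]
        simp
      have e2 : k.1 (vecMulVec k₁ e) = vecMulVec k₁ e + t • vecMulVec ζ l := by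
        rw [hkY, O.f_pure, O.f_pure, hfe, hle, smul_vecMulVec]
        have := O.h.two
        match_scalars <;> field_simp <;> ring
      rw [e1, e2] at h3
      have hneg : InA K (vecMulVec η f') (vecMulVec (-k₁) e) :=
        inA2 η f' hη0 hf'0 hf' _ (by rw [O.h1.neg_right, O.h1.symm0 hk₁η, neg_zero]) e
      have h4 := InA.add hu (by
          rw [hQf, O.h.quad_polar, O.h.add_right, O.h.smul_right, O.f_pure, O.f_pure,
            O.h1.symm0 hk₁η, O.h2.symm0 hlf]
          ring)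
        (by rw [hpol, O.h1.neg_right, O.h1.symm0 hk₁η, neg_zero, zero_mul, mul_zero]) h3 hneg
      rw [neg_vmv, show vecMulVec k₁ e + t • vecMulVec ζ l + -vecMulVec k₁ e = t • vecMulVec ζ l by
        abel] at h4
      exact h4
    intro Y hY
    have hcw : f2 (cw O η Y) f' = 0 := by
      rw [← f_cw O, O.h.symm]
      rw [hQf, O.h.quad_polar] at hY
      exact (mul_eq_zero.1 hY).resolve_left O.h.two
    set prc : (ι → F) → (ι → F) := fun c => c - f1 c η • ζ with hprc
    have hdec : Y = (∑ i, vecMulVec (prc (Pi.single i 1)) (Y i)) + vecMulVec ζ (cw O η Y) := by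
      conv_lhs => rw [sum_rows O Y]
      have e1 : cw O η Y = ∑ i, f1 (Pi.single i (1 : F)) η • Y i := by
        conv_lhs => rw [sum_rows O Y, map_sum]
        exact Finset.sum_congr rfl fun i _ => cw_pure O η _ _
      have e2 : vecMulVec ζ (cw O η Y) =
          ∑ i, f1 (Pi.single i (1 : F)) η • vecMulVec ζ (Y i) := by
        rw [e1]
        refine Finset.induction_on (Finset.univ : Finset ι) (by simp [vmv_zero]) fun i s hi ih => ?_
        rw [Finset.sum_insert hi, Finset.sum_insert hi, vecMulVec_add, vmv_smul, ih]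
      rw [e2, ← Finset.sum_add_distrib]
      refine Finset.sum_congr rfl fun i _ => ?_
      rw [hprc, sub_vmv, smul_vecMulVec, sub_add_cancel]
    have hprcη : ∀ c, f1 η (prc c) = 0 := fun c => by
      rw [hprc, O.h1.sub_right, O.h1.smul_right, hηζ, O.h1.symm c η]
      ring
    have hpolu : ∀ c, f1 η c = 0 → ∀ x, polar Qf (vecMulVec η f') (vecMulVec c x) = 0 :=
      fun c hc x => by rw [hpol, hc, zero_mul, mul_zero]
    have hsum : InA K (vecMulVec η f') (∑ i, vecMulVec (prc (Pi.single i 1)) (Y i)) ∧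
        polar Qf (vecMulVec η f') (∑ i, vecMulVec (prc (Pi.single i 1)) (Y i)) = 0 := by
      refine Finset.sum_induction _ (fun Z => InA K (vecMulVec η f') Z ∧ polar Qf (vecMulVec η f') Z = 0)
        (fun A B hA hB => ⟨InA.add hu hA.2 hB.2 hA.1 hB.1, by
          rw [QuadraticMap.polar_add_right, hA.2, hB.2, add_zero]⟩)
        ⟨inA_zero _, by rw [QuadraticMap.polar_zero_right]⟩ fun i _ =>
          ⟨inA2 η f' hη0 hf'0 hf' _ (hprcη _) _, hpolu _ (hprcη _) _⟩
    rw [hdec]
    refine InA.add hu hsum.2 ?_ hsum.1 ?_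
    · have := hperpf _ hcw 1
      rwa [one_smul] at this
    · have := (hPall _ hcw).2 1
      rwa [one_smul] at this
  obtain ⟨η, hη0, hη⟩ := O.h1.exists_iso (hda O)
  obtain ⟨ζ, hζ, hηζ⟩ := exists_pair O.h1 hη0 hη
  obtain ⟨f', hf'0, hf'⟩ := O.h2.exists_iso (by have := hdb O; omega)
  obtain ⟨e, he, hfe⟩ := exists_pair O.h2 hf'0 hf'
  refine Orth.le_of_full_pair (quad_nondeg O) ?_ (e := vecMulVec η f') (f := vecMulVec ζ e) ?_ ?_ ?_
    (full η ζ f' e hη hζ hηζ hf' he hfe)
    (full ζ η e f' hζ hη (by rw [O.h1.symm, hηζ]) he hf' (by rw [O.h2.symm, hfe]))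
  · rw [Module.finrank_matrix, finrank_self, mul_one]
    have := hdb O
    rw [finrank_κ O] at this
    have := O.a3
    nlinarith
  · rw [hQv, hη, zero_mul]
  · rw [hQv, hζ, zero_mul]
  · rw [hpol, hηζ, hfe, one_mul, mul_one]
    exact O.h.two

end CfsgLib.MaxSub.TensorOO
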