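/-
A three dimensional space tensor a four dimensional space of minus type: without elements of rank two
the overgroup respects the decomposition.
-/
import Cfsg.Agent.Lib.MaxSub.TensorOO.Final
import Cfsg.Agent.Lib.CoprimeGen

set_option autoImplicit false
set_option maxHeartbeats 1000000
set_option linter.unusedSectionVars false

namespace CfsgLib.MaxSub.TensorOO

open Matrix Module
open CfsgLib.MaxSub.TensorSympOrth (SForm ext_pure vmv_smul vmv_sub sub_vmv vmv_neg neg_vmv vmv_ne_zero)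
open CfsgLib.MaxSub.TensorLin (Col colMap colMap_apply mem_col vmv_eq_zero vmv_zero vm exists_dot_one
  colMap_injective finrank_col)

variable {F : Type*} [Field F] {ι κ : Type*} [Fintype ι] [Fintype κ] [DecidableEq ι] [DecidableEq κ]

local notation "MV" => Matrix ι κ F

/-- Words in two involutions. -/
theorem inv_word {M : Type*} [Group M] {a b : M} (ha : a * a = 1) (hb : b * b = 1) (n : ℕ) :
    (a * b) ^ n * a = a * ((a * b) ^ n)⁻¹ := by
  induction n with
  | zero => simp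
  | succ n ih =>
    rw [pow_succ, _root_.mul_inv_rev, _root_.mul_inv_rev, inv_eq_of_mul_eq_one_right ha,
      inv_eq_of_mul_eq_one_right hb,
      show (a * b) ^ n * (a * b) * a = ((a * b) ^ n * a) * (b * a) by group, ih]
    have e : ((a * b) ^ n)⁻¹ * (b * a) = b * a * ((a * b) ^ n)⁻¹ := by
      have h2 : (b * a) = (a * b)⁻¹ := by
        rw [_root_.mul_inv_rev, inv_eq_of_mul_eq_one_right ha, inv_eq_of_mul_eq_one_right hb]
      rw [h2]
      exact ((Commute.pow_self (a * b) n).inv_inv).eq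
    rw [mul_assoc, e]

/-- Two involutions are conjugate, or an involution commutes with both and its products with them are
conjugates of them. -/
theorem inv_pair {M : Type*} [Group M] [Finite M] {a b : M} (ha : a * a = 1) (hb : b * b = 1) :
    (∃ x ∈ Subgroup.closure ({a, b} : Set M), x * a * x⁻¹ = b) ∨
      ∃ z ∈ Subgroup.closure ({a, b} : Set M), z ≠ 1 ∧ z * z = 1 ∧ a * z = z * a ∧ b * z = z * b ∧
        ∃ x ∈ Subgroup.closure ({a, b} : Set M), a * z = x * a * x⁻¹ ∨ a * z = x * b * x⁻¹ := by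
  have hP : a * b ∈ Subgroup.closure ({a, b} : Set M) :=
    mul_mem (Subgroup.subset_closure (Set.mem_insert _ _))
      (Subgroup.subset_closure (Set.mem_insert_of_mem _ rfl))
  rcases Nat.even_or_odd (orderOf (a * b)) with ⟨j, hj⟩ | ⟨j, hj⟩
  · have hjp : 0 < j := by
      have := orderOf_pos (a * b)
      omega
    set z := (a * b) ^ j with hz
    have hz2 : z * z = 1 := by rw [hz, ← pow_add, ← hj, pow_orderOf_eq_one]
    have hzi : z⁻¹ = z := inv_eq_of_mul_eq_one_right hz2
    have haz : a * z = z * a := by rw [inv_word ha hb, hzi]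
    have hbab : b = a * (a * b) := by rw [← mul_assoc, ha, one_mul]
    have hbz : b * z = z * b := by
      rw [hbab, mul_assoc, (Commute.self_pow (a * b) j).eq, ← mul_assoc, haz, mul_assoc]
    refine Or.inr ⟨z, pow_mem hP j, fun h1 => ?_, hz2, haz, hbz, ?_⟩
    · have := orderOf_dvd_of_pow_eq_one (show (a * b) ^ j = 1 from h1)
      have := Nat.le_of_dvd hjp this
      omega
    have h2 : ∀ i, ((a * b) ^ i)⁻¹ * a = a * (a * b) ^ i := fun i => by
      rw [inv_mul_eq_iff_eq_mul, ← mul_assoc, inv_word ha hb, mul_assoc, inv_mul_cancel, mul_one]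
    rcases Nat.even_or_odd j with ⟨i, hi⟩ | ⟨i, hi⟩
    · refine ⟨((a * b) ^ i)⁻¹, inv_mem (pow_mem hP i), Or.inl ?_⟩
      rw [inv_inv, h2, mul_assoc, ← pow_add, hz, hi]
    · refine ⟨((a * b) ^ i)⁻¹, inv_mem (pow_mem hP i), Or.inr ?_⟩
      rw [inv_inv, show ((a * b) ^ i)⁻¹ * b = ((a * b) ^ i)⁻¹ * a * (a * b) by
        rw [mul_assoc, ← hbab], h2, mul_assoc, mul_assoc, ← pow_succ', ← pow_add, hz, hi]
      congr 2
      omega
  · refine Or.inl ⟨(a * b) ^ j, pow_mem hP j, ?_⟩
    rw [inv_word ha hb, mul_assoc, ← _root_.mul_inv_rev, ← pow_add]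
    have h1 : (a * b) ^ (j + j) * (a * b) = 1 := by
      rw [← pow_succ, show j + j + 1 = orderOf (a * b) by omega, pow_orderOf_eq_one]
    rw [inv_eq_of_mul_eq_one_right h1, ← mul_assoc, ha, one_mul]

/-- The eigenspaces of an involution. -/
theorem finrank_invol {U : Type*} [AddCommGroup U] [Module F U] [FiniteDimensional F U]
    (two : (2 : F) ≠ 0) (A : U →ₗ[F] U) (hA : ∀ x, A (A x) = x) :
    finrank F (LinearMap.ker (A - LinearMap.id)) + finrank F (LinearMap.ker (A + LinearMap.id)) =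
      finrank F U := by
  have h2 : LinearMap.ker (A - LinearMap.id) ⊓ LinearMap.ker (A + LinearMap.id) = ⊥ :=
    (Submodule.eq_bot_iff _).2 fun x hx => eq_zero_of_eq_neg' two
      ((sub_eq_zero.1 hx.1 : A x = x).symm.trans (eq_neg_of_add_eq_zero_left hx.2))
  have h3 : LinearMap.ker (A - LinearMap.id) ⊔ LinearMap.ker (A + LinearMap.id) = ⊤ :=
    eq_top_iff.2 fun x _ => Submodule.mem_sup.2
    ⟨(2 : F)⁻¹ • (x + A x), by
      rw [LinearMap.mem_ker, LinearMap.sub_apply, LinearMap.id_apply, map_smul, map_add, hA,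
        add_comm (A x) x, sub_self],
    (2 : F)⁻¹ • (x - A x), by
      rw [LinearMap.mem_ker, LinearMap.add_apply, LinearMap.id_apply, map_smul, map_sub, hA]
      module,
    by
      rw [← smul_add]
      have := two
      match_scalars <;> field_simp <;> ring⟩
  have h1 := Submodule.finrank_sup_add_finrank_inf_eq (LinearMap.ker (A - LinearMap.id))
    (LinearMap.ker (A + LinearMap.id))
  rw [h2, h3, finrank_top, finrank_bot] at h1
  omega

variable {f1 : (ι → F) → (ι → F) → F} {f2 : (κ → F) → (κ → F) → F}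
  {f : Matrix ι κ F → Matrix ι κ F → F} {G : Subgroup (Matrix ι κ F ≃ₗ[F] Matrix ι κ F)}

/-- The half turn of the first factor about a vector. -/
def halfTurn (H : SForm f1) (a : ι → F) : (ι → F) →ₗ[F] (ι → F) := -H.refl a

theorem halfTurn_apply (H : SForm f1) (a c : ι → F) :
    halfTurn H a c = (2 / f1 a a * f1 c a) • a - c := by
  show -(H.refl a c) = _
  rw [H.refl_apply, neg_sub]

theorem halfTurn_twice (H : SForm f1) {a : ι → F} (ha : f1 a a ≠ 0) (c : ι → F) :
    halfTurn H a (halfTurn H a c) = c := by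
  show -(H.refl a (-(H.refl a c))) = c
  rw [map_neg, neg_neg, H.refl_refl ha]

/-- The half turn acting on the tensor product. -/
def turn (H : SForm f1) {a : ι → F} (ha : f1 a a ≠ 0) : Matrix ι κ F ≃ₗ[F] Matrix ι κ F :=
  te (LinearEquiv.ofInvolutive (halfTurn H a) (halfTurn_twice H ha)) (LinearEquiv.refl F _)

theorem turn_pure (H : SForm f1) {a : ι → F} (ha : f1 a a ≠ 0) (c : ι → F) (x : κ → F) :
    turn H ha (vecMulVec c x) = vecMulVec (halfTurn H a c) x := te_pure _ _ c x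

theorem turn_self (H : SForm f1) {a : ι → F} (ha : f1 a a ≠ 0) (x : κ → F) :
    turn H ha (vecMulVec a x) = vecMulVec a x := by
  rw [turn_pure, halfTurn_apply, div_mul_cancel₀ _ ha, two_smul, add_sub_cancel_right]

theorem turn_sq (H : SForm f1) {a : ι → F} (ha : f1 a a ≠ 0) :
    (turn H ha : Matrix ι κ F ≃ₗ[F] Matrix ι κ F) * turn H ha = 1 := by
  refine LinearEquiv.ext fun X => ?_
  refine ext_pure (A := ((turn H ha * turn H ha : MV ≃ₗ[F] MV)).toLinearMap) (B := LinearMap.id)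
    (fun c x => ?_) X
  show turn H ha (turn H ha (vecMulVec c x)) = vecMulVec c x
  rw [turn_pure, turn_pure, halfTurn_twice H ha]

variable (O : OO f1 f2 f G)
include O

theorem turn_apply {a : ι → F} (ha : f1 a a ≠ 0) (X : MV) :
    turn O.h1 ha X = vecMulVec ((2 / f1 a a) • a) (cw O a X) - X := by
  refine ext_pure (A := (turn O.h1 ha).toLinearMap) (B :=
    ({ toFun := fun y => vecMulVec ((2 / f1 a a) • a) y
       map_add' := fun y z => vecMulVec_add _ y z
       map_smul' := fun t y => vmv_smul _ t y } : (κ → F) →ₗ[F] MV) ∘ₗ cw O a - LinearMap.id)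
    (fun c x => ?_) X
  show turn O.h1 ha (vecMulVec c x) = vecMulVec _ (cw O a (vecMulVec c x)) - vecMulVec c x
  rw [turn_pure, halfTurn_apply, cw_pure, sub_vmv, vmv_smul, smul_vecMulVec, smul_vecMulVec,
    smul_smul, mul_comm (f1 c a)]

theorem eq_of_turn {a : ι → F} (ha : f1 a a ≠ 0) {X : MV} (h : turn O.h1 ha X = X) :
    X = vecMulVec a ((f1 a a)⁻¹ • cw O a X) := by
  rw [turn_apply O ha, smul_vecMulVec, sub_eq_iff_eq_add] at h
  rw [vmv_smul]
  have h2 := congrArg ((2 : F)⁻¹ • ·) h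
  simp only [← two_smul F X, smul_smul, inv_mul_cancel₀ O.h.two, one_smul] at h2
  conv_lhs => rw [← h2]
  congr 1
  have := O.h.two
  field_simp

/-- The subgroup of the pure elements. -/
def pureSub : Subgroup (MV ≃ₗ[F] MV) where
  carrier := {g | Pure g}
  one_mem' := pure_one
  mul_mem' := fun h h' => h.mul h'
  inv_mem' := fun h => pure_inv O h

/-- The elements fixing a space of pure tensors on a vector of the first factor. -/
def fixer (a : ι → F) : Subgroup (MV ≃ₗ[F] MV) where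
  carrier := {g | g ∈ G ∧ ∀ x, g (vecMulVec a x) = vecMulVec a x}
  one_mem' := ⟨one_mem G, fun _ => rfl⟩
  mul_mem' := fun h h' => ⟨mul_mem h.1 h'.1, fun x => by rw [LinearEquiv.mul_apply, h'.2, h.2]⟩
  inv_mem' := fun {g} h => ⟨inv_mem h.1, fun x => by
    show g.symm _ = _
    rw [g.symm_apply_eq, h.2]⟩

/-- The root group at a singular vector of the second factor. -/
def rootGrp {b b' : κ → F} (hb : f2 b b = 0) (hbb : f2 b b' = 1) : Subgroup (MV ≃ₗ[F] MV) where
  carrier := {g | ∃ k ∈ pairPerp O.h2 b b', ∀ c x, g (vecMulVec c x) = vecMulVec c (eich O.h2 b k x)}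
  one_mem' := ⟨0, zero_mem _, fun c x => by rw [eich_zero]; rfl⟩
  mul_mem' := by
    rintro g g' ⟨k, hk, hg⟩ ⟨k', hk', hg'⟩
    refine ⟨k + k', add_mem hk hk', fun c x => ?_⟩
    rw [LinearEquiv.mul_apply, hg', hg, eich_mul O.h2 hb
      (O.h2.symm0 ((mem_pairPerp O.h2).1 hk).1) (O.h2.symm0 ((mem_pairPerp O.h2).1 hk').1)]
  inv_mem' := by
    rintro g ⟨k, hk, hg⟩
    refine ⟨-k, neg_mem hk, fun c x => ?_⟩
    have h1 := O.h2.symm0 ((mem_pairPerp O.h2).1 hk).1
    show g.symm _ = _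
    rw [g.symm_apply_eq, hg, eich_mul O.h2 hb h1 (by rw [O.h2.neg_right, h1, neg_zero]),
      add_neg_cancel, eich_zero]

variable [Finite F]

theorem aniso_perp (hκ : Fintype.card κ = 4) {b b' : κ → F} (hb : f2 b b = 0) (hbb : f2 b b' = 1)
    {k : κ → F} (hk : k ∈ pairPerp O.h2 b b') (hkk : f2 k k = 0) : k = 0 := by
  obtain ⟨hk1, hk2⟩ := (mem_pairPerp O.h2).1 hk
  by_contra hk0
  have hl : TL O b k := ⟨hb, hkk, O.h2.symm0 hk1, fun e0 => by
    rw [e0, O.h2.zero_left] at hbb
    exact zero_ne_one hbb, fun hm => by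
    obtain ⟨t, ht⟩ := Submodule.mem_span_singleton.1 hm
    rw [← ht, O.h2.smul_left, hbb, mul_one] at hk2
    exact hk0 (by rw [← ht, hk2, zero_smul])⟩
  have := hl.five O
  rw [finrank_κ O] at this
  omega

/-- An element moving a root element of the second factor to a pure element is pure. -/
theorem pure_of_eich_conj (hN : NoRoot O) (hκ : Fintype.card κ = 4) {b b' : κ → F} (hb : f2 b b = 0)
    (hb' : f2 b' b' = 0) (hbb : f2 b b' = 1) {k : κ → F} (hk : k ∈ pairPerp O.h2 b b') (hk0 : k ≠ 0)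
    {E : MV ≃ₗ[F] MV} (hEG : E ∈ G) (hE : ∀ c x, E (vecMulVec c x) = vecMulVec c (eich O.h2 b k x))
    {g : MV ≃ₗ[F] MV} (hg : g ∈ G) (hp : Pure (g * E * g⁻¹)) : Pure g := by
  obtain ⟨hkb, hkb'⟩ := (mem_pairPerp O.h2).1 hk
  have hbk := O.h2.symm0 hkb
  have hn : f2 k k ≠ 0 := fun e0 => hk0 (aniso_perp O hκ hb hbb hk e0)
  have hb0 : b ≠ 0 := fun e0 => by
    rw [e0, O.h2.zero_left] at hbb
    exact zero_ne_one hbb
  set w := g * E * g⁻¹ with hwd
  have hwG : w ∈ G := mul_mem (mul_mem hg hEG) (inv_mem hg)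
  have hN0 : ∀ u, ((eich O.h2 b k : Module.End F (κ → F)) - 1) u =
      f2 u b • k - f2 u k • b - (f2 k k / 2 * f2 u b) • b := fun u => by
    rw [LinearMap.sub_apply, Module.End.one_apply, eich_apply, add_sub_cancel_left]
  have hrank : finrank F (LinearMap.range (dsp w)) ≤ 2 * Fintype.card ι := by
    refine le_trans ?_ (finrank_rows_pair b k (LinearMap.range (dsp E)) ?_)
    · rw [← LinearEquiv.finrank_map_eq g (LinearMap.range (dsp E))]
      refine Submodule.finrank_mono ?_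
      rintro _ ⟨Y, rfl⟩
      exact ⟨_, LinearMap.mem_range_self _ _, (dsp_conj g E Y).symm⟩
    · rintro _ ⟨Y, rfl⟩ i
      refine range_right_le (dsp_right hE) (fun u => ?_) Y i
      rw [hN0]
      exact Submodule.mem_span_pair.2 ⟨-(f2 u k) - f2 k k / 2 * f2 u b, f2 u b, by
        rw [sub_smul, neg_smul]; abel⟩
  obtain ⟨M, -, hMu, hMx, hMr⟩ := pure_unip O (by rcases O.ab with h | ⟨-, h⟩ <;> omega) (O.isom w hwG) hp
    ((unip_right O hE ⟨3, eich_cube O.h2 hb hbk⟩).conj g) hrank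
  set N := (M : Module.End F (κ → F)) - 1
  set l := LinearMap.range (N ^ 2)
  have hE2 : ∀ c, ((dsp E) ^ 2) (vecMulVec c b') = (-f2 k k) • vecMulVec c b := fun c => by
    rw [dsp_right_pow hE, pow_two, Module.End.mul_apply, hN0 b', O.h2.symm b b', hbb,
      O.h2.symm0 hkb', hN0]
    simp only [O.h2.sub_left, O.h2.smul_left, hkb, hb, hbk, one_mul, one_smul, zero_smul, mul_zero,
      sub_zero, zero_sub, zero_mul, vmv_neg, vmv_smul, neg_smul]
  have hrow : ∀ c i, g (vecMulVec c b) i ∈ l := by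
    intro c i
    have h1 : g (vecMulVec c b) = ((dsp w) ^ 2) ((-f2 k k)⁻¹ • g (vecMulVec c b')) := by
      rw [map_smul, hwd, dsp_conj_pow, g.symm_apply_apply, hE2, map_smul, smul_smul,
        inv_mul_cancel₀ (neg_ne_zero.2 hn), one_smul]
    rw [h1]
    exact range_right_le (N := N ^ 2) (fun c x => dsp_right_pow hMx 2 c x)
      (fun u => LinearMap.mem_range_self _ u) _ i
  obtain ⟨c₀, hc₀, -⟩ := O.h1.exists_iso (hda O)
  have hl0 : l ≠ ⊥ := fun h0 => vmv_ne_zero hc₀ hb0 (g.map_eq_zero_iff.1 (Matrix.ext fun i j => by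
    have := hrow c₀ i
    rw [h0, Submodule.mem_bot] at this
    exact congrFun this j))
  have hl1 : finrank F l ≤ 1 := by
    have hne : LinearMap.range N ≠ ⊥ := fun h0 => hl0 (by
      rw [eq_bot_iff, ← h0]
      rintro _ ⟨u, rfl⟩
      exact ⟨N u, by rw [pow_two]; rfl⟩)
    have h1 : l = (LinearMap.range N).map N := by
      rw [← LinearMap.range_comp, ← Module.End.mul_eq_comp, ← pow_two]
    have h2 : (LinearMap.range N).map N ≤ LinearMap.range N := LinearMap.map_le_range
    have h3 := Submodule.finrank_lt_finrank_of_lt (lt_of_le_of_ne h2 (map_ne_of_nil hMu hne))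
    rw [h1]
    change finrank F (LinearMap.range N) ≤ 2 at hMr
    omega
  obtain ⟨e₁, he₁, he₁0⟩ := (Submodule.ne_bot_iff l).1 hl0
  have hle : l = F ∙ e₁ := (Submodule.eq_of_le_of_finrank_le
    ((Submodule.span_singleton_le_iff_mem e₁ l).2 he₁) (by rw [finrank_span_singleton he₁0]; omega)).symm
  refine pure_of_col O hN hb0 hb hg (e₁ := e₁) fun c => ?_
  choose t ht using fun i => Submodule.mem_span_singleton.1 (hle ▸ hrow c i : g (vecMulVec c b) i ∈ F ∙ e₁)
  refine mem_col.2 ⟨t, ?_⟩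
  ext i j
  rw [vecMulVec_apply, ← ht i]
  rfl

/-- The elements fixing a space of pure tensors pointwise are pure. -/
theorem fixer_pure (hN : NoRoot O) (hκ : Fintype.card κ = 4) (hι : Fintype.card ι = 3) {a : ι → F}
    (ha : f1 a a ≠ 0) {g : MV ≃ₗ[F] MV} (hg : g ∈ fixer (G := G) a) : Pure g := by
  obtain ⟨p, hp'⟩ := CharP.exists F
  haveI : Fact p.Prime := ⟨CharP.char_is_prime F p⟩
  haveI : Finite (MV ≃ₗ[F] MV) :=
    Finite.of_injective (fun g : MV ≃ₗ[F] MV => (g : MV → MV)) DFunLike.coe_injective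
  obtain ⟨b, hb0, hb⟩ := O.h2.exists_iso (by have := hdb O; omega)
  obtain ⟨b', hb', hbb⟩ := exists_pair O.h2 hb0 hb
  set K := pairPerp O.h2 b b'
  have hK : ∀ k ∈ K, f2 b k = 0 := fun k hk => O.h2.symm0 ((mem_pairPerp O.h2).1 hk).1
  set U := rootGrp O hb hbb with hU
  set N := fixer (G := G) a with hNd
  obtain ⟨c₀, hc₀, -⟩ := O.h1.exists_iso (hda O)
  haveI : Nontrivial MV := ⟨⟨vecMulVec c₀ b, 0, vmv_ne_zero hc₀ hb0⟩⟩
  have hUG : U ≤ G := by
    rintro g ⟨k, hk, hgX⟩
    obtain ⟨-, u, hu, huX⟩ := inr_eich O hb (hK k hk)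
    rwa [show g = u from LinearEquiv.ext fun X =>
      ext_pure (A := g.toLinearMap) (B := u.toLinearMap) (fun c x => (hgX c x).trans (huX c x).symm) X]
  have hUk : ∀ {E : MV ≃ₗ[F] MV} {k : κ → F}, E ≠ 1 →
      (∀ c x, E (vecMulVec c x) = vecMulVec c (eich O.h2 b k x)) → k ≠ 0 := fun {E k} hE1 hEk e0 =>
    hE1 (LinearEquiv.ext fun X => ext_pure (A := E.toLinearMap) (B := LinearMap.id)
      (fun c x => by rw [LinearEquiv.coe_coe, hEk, e0, eich_zero]; rfl) X)
  have hUexp : ∀ E ∈ U, E ^ p = 1 := by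
    rintro E ⟨k, hk, hE⟩
    have hj : ∀ (j : ℕ) c x, (E ^ j) (vecMulVec c x) = vecMulVec c (eich O.h2 b ((j : F) • k) x) := by
      intro j
      induction j with
      | zero => intro c x; rw [Nat.cast_zero, zero_smul, eich_zero]; rfl
      | succ j ih =>
        intro c x
        rw [pow_succ, LinearEquiv.mul_apply, hE, ih, eich_mul O.h2 hb
          (by rw [O.h2.smul_right, hK k hk, mul_zero]) (hK k hk), Nat.cast_succ, add_smul, one_smul]
    refine LinearEquiv.ext fun X => ext_pure (A := (E ^ p).toLinearMap) (B := LinearMap.id)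
      (fun c x => ?_) X
    rw [LinearEquiv.coe_coe, hj, CharP.cast_eq_zero, zero_smul, eich_zero]
    rfl
  haveI : IsMulCommutative U := ⟨⟨fun ⟨E, k, hk, hE⟩ ⟨E', k', hk', hE'⟩ => Subtype.ext
    (LinearEquiv.ext fun X => ext_pure (A := (E * E').toLinearMap) (B := (E' * E).toLinearMap)
      (fun c x => by
        show E (E' _) = E' (E _)
        rw [hE', hE, hE, hE', eich_mul O.h2 hb (hK k hk) (hK k' hk'),
          eich_mul O.h2 hb (hK k' hk') (hK k hk), add_comm]) X)⟩⟩
  have hUmem : ∀ k : K, ∃ E : U, ∀ c x,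
      (E : MV ≃ₗ[F] MV) (vecMulVec c x) = vecMulVec c (eich O.h2 b (k : κ → F) x) := fun k => by
    obtain ⟨-, u, -, huX⟩ := inr_eich O hb (hK k k.2)
    exact ⟨⟨u, k, k.2, huX⟩, huX⟩
  choose Ef hEf using hUmem
  have hEinj : Function.Injective Ef := fun k l hkl => Subtype.ext <| by
    have h1 := hEf k c₀ b'
    rw [hkl, hEf l] at h1
    have h2 : eich O.h2 b (l : κ → F) b' = eich O.h2 b (k : κ → F) b' := by
      obtain ⟨η', hη'⟩ := exists_dot_one hc₀
      have := congrArg (fun X : MV => η' ᵥ* X) h1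
      simpa only [vecMul_vecMulVec, dotProduct_comm η' c₀, hη', one_smul] using this
    have h3 : ∀ k : K, eich O.h2 b (k : κ → F) b' =
        b' + (k : κ → F) - (f2 (k : κ → F) k / 2) • b := fun k => by
      rw [eich_apply, O.h2.symm b b', hbb, O.h2.symm0 ((mem_pairPerp O.h2).1 k.2).2, mul_one, one_smul,
        zero_smul, sub_zero]
      abel
    rw [h3, h3] at h2
    have h4 := congrArg (fun z => z - f2 z b' • b - f2 z b • b') h2
    obtain ⟨hl1, hl2⟩ := (mem_pairPerp O.h2).1 l.2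
    obtain ⟨hk1, hk2⟩ := (mem_pairPerp O.h2).1 k.2
    simp only [O.h2.sub_left, O.h2.add_left, O.h2.smul_left, hl1, hl2, hk1, hk2, hbb, hb,
      O.h2.symm b b', hb'] at h4
    linear_combination (norm := module) -h4
  have hUcyc : ¬ IsCyclic U := fun hc => by
    obtain ⟨E, hE⟩ := hc.exists_generator
    have h1 : Nat.card U ∣ p := by
      rw [← orderOf_eq_card_of_forall_mem_zpowers hE]
      exact orderOf_dvd_of_pow_eq_one (Subtype.ext (hUexp E E.2))
    have h2 := Nat.card_le_card_of_injective Ef hEinj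
    rw [Module.natCard_eq_pow_finrank (K := F) (V := K)] at h2
    have h3 := Nat.le_of_dvd (Fact.out : p.Prime).pos h1
    have hd : finrank F (κ → F) ≤ finrank F K + 2 := pairPerp_dim O.h2 b b'
    rw [finrank_κ O, hκ] at hd
    have h5 : p ≤ Nat.card F := Nat.le_of_dvd Nat.card_pos (by
      letI := Fintype.ofFinite F
      obtain ⟨n, -, hn⟩ := FiniteField.card F p
      rw [Nat.card_eq_fintype_card, hn]
      exact dvd_pow_self p n.ne_zero)
    have h6 : Nat.card F ^ 2 ≤ Nat.card F ^ finrank F K := Nat.pow_le_pow_right Nat.card_pos (by omega)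
    have h7 : 1 < Nat.card F := Finite.one_lt_card
    nlinarith
  have hnorm : ∀ E ∈ U, ∀ n ∈ N, E * n * E⁻¹ ∈ N := by
    rintro E hE n ⟨hnG, hnx⟩
    obtain ⟨k, hk, hEX⟩ := hE
    have hEG := hUG (show E ∈ U from ⟨k, hk, hEX⟩)
    refine ⟨mul_mem (mul_mem hEG hnG) (inv_mem hEG), fun x => ?_⟩
    obtain ⟨k', hk', hEX'⟩ := U.inv_mem (show E ∈ U from ⟨k, hk, hEX⟩)
    show E (n (E⁻¹ (vecMulVec a x))) = _
    rw [hEX', hnx, ← hEX']
    exact E.apply_symm_apply _
  have hUN : U ≤ Subgroup.normalizer (N : Set (MV ≃ₗ[F] MV)) := fun E hE => by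
    refine Subgroup.mem_normalizer_iff.2 fun n => ⟨fun hn => hnorm E hE n hn, fun hn => ?_⟩
    have := hnorm _ (U.inv_mem hE) _ hn
    rwa [inv_inv, show E⁻¹ * (E * n * E⁻¹) * E = n by group] at this
  have hcentral : ∀ n ∈ N, ∀ E ∈ U, E ≠ 1 → n * E = E * n → Pure n := by
    rintro n hn E hE hE1 hcomm
    obtain ⟨k, hk, hEX⟩ := hE
    exact pure_of_eich_conj O hN hκ hb hb' hbb hk (hUk hE1 hEX) (hUG ⟨k, hk, hEX⟩) hEX hn.1
      (by rw [hcomm, mul_inv_cancel_right]; exact ⟨LinearMap.id, eich O.h2 b k, hEX⟩)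
  have hUp : IsPGroup p U := fun E => ⟨1, by rw [pow_one]; exact Subtype.ext (hUexp E E.2)⟩
  have hpN : ¬ p ∣ Nat.card N := by
    intro hdvd
    set S := U ⊔ N
    obtain ⟨P, hP⟩ := (hUp.of_equiv (Subgroup.subgroupOfEquivOfLe (le_sup_left : U ≤ S)).symm).exists_le_sylow
    set N' := N.subgroupOf S
    haveI : N'.Normal := by
      refine Subgroup.normal_subgroupOf_of_le_normalizer ?_
      exact sup_le hUN Subgroup.le_normalizer
    have hnb : (P : Subgroup S) ⊓ N' ≠ ⊥ := by
      intro hbot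
      have hinj : Function.Injective ((QuotientGroup.mk' N').comp (P : Subgroup S).subtype) :=
        (injective_iff_map_eq_one _).2 fun x hx => Subtype.ext (by
          have hm : (x : S) ∈ (P : Subgroup S) ⊓ N' := ⟨x.2, (QuotientGroup.eq_one_iff _).1 hx⟩
          rw [hbot, Subgroup.mem_bot] at hm
          exact hm)
      have h1 : Nat.card (P : Subgroup S) ∣ Nat.card (S ⧸ N') :=
        Subgroup.card_dvd_of_injective _ hinj
      have h2 : p * Nat.card (P : Subgroup S) ∣ Nat.card S := by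
        rw [Subgroup.card_eq_card_quotient_mul_card_subgroup N', mul_comm p]
        refine mul_dvd_mul h1 ?_
        rwa [Nat.card_congr (Subgroup.subgroupOfEquivOfLe (le_sup_right : N ≤ S)).toEquiv]
      rw [← Subgroup.card_mul_index (P : Subgroup S), mul_comm p,
        Nat.mul_dvd_mul_iff_left Nat.card_pos] at h2
      exact P.not_dvd_index h2
    set D := ((P : Subgroup S) ⊓ N')
    let act : MulAction U D :=
      { smul := fun E d => ⟨(⟨(E : MV ≃ₗ[F] MV), le_sup_left (b := N) E.2⟩ : S) * (d : S) *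
            (⟨(E : MV ≃ₗ[F] MV), le_sup_left (b := N) E.2⟩ : S)⁻¹,
          Subgroup.mem_inf.2 ⟨mul_mem (mul_mem (hP E.2) (Subgroup.mem_inf.1 d.2).1)
            (inv_mem (hP E.2)),
          Subgroup.Normal.conj_mem inferInstance _ (Subgroup.mem_inf.1 d.2).2 _⟩⟩
        one_smul := fun d => Subtype.ext (Subtype.ext (by
          show (1 : MV ≃ₗ[F] MV) * _ * (1 : MV ≃ₗ[F] MV)⁻¹ = _
          rw [one_mul, inv_one, mul_one]))
        mul_smul := fun E E' d => Subtype.ext (Subtype.ext (by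
          show (E : MV ≃ₗ[F] MV) * E' * ((d : S) : MV ≃ₗ[F] MV) * ((E : MV ≃ₗ[F] MV) * E')⁻¹ =
            (E : MV ≃ₗ[F] MV) * ((E' : MV ≃ₗ[F] MV) * ((d : S) : MV ≃ₗ[F] MV) *
              (E' : MV ≃ₗ[F] MV)⁻¹) * (E : MV ≃ₗ[F] MV)⁻¹
          group)) }
    have hDp : IsPGroup p D := P.isPGroup'.to_le inf_le_left
    have hDd : p ∣ Nat.card D := by
      haveI : Nontrivial D := (Subgroup.nontrivial_iff_ne_bot D).2 hnb
      obtain ⟨n, hn, hcard⟩ := hDp.nontrivial_iff_card.1 inferInstance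
      exact hcard ▸ dvd_pow_self p hn.ne'
    have h1fix : (1 : D) ∈ MulAction.fixedPoints U D := fun E => Subtype.ext (Subtype.ext (by
      show (E : MV ≃ₗ[F] MV) * 1 * (E : MV ≃ₗ[F] MV)⁻¹ = 1
      rw [mul_one, mul_inv_cancel]))
    obtain ⟨d, hd, hd1⟩ := hUp.exists_fixed_point_of_prime_dvd_card_of_fixed_point D hDd h1fix
    set z : MV ≃ₗ[F] MV := ((d : S) : MV ≃ₗ[F] MV) with hz
    have hzN : z ∈ N := d.2.2
    have hz1 : z ≠ 1 := fun e => hd1 (Subtype.ext (Subtype.ext e.symm))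
    have hzc : ∀ E ∈ U, z * E = E * z := fun E hE => by
      have := congrArg (fun d : D => ((d : S) : MV ≃ₗ[F] MV)) (hd ⟨E, hE⟩)
      change E * z * E⁻¹ = z at this
      exact (mul_inv_eq_iff_eq_mul.1 this).symm
    obtain ⟨k, hk⟩ := hDp d
    have hzk : z ^ p ^ k = 1 := by
      have := congrArg (fun d : D => ((d : S) : MV ≃ₗ[F] MV)) hk
      simpa using this
    -- the element is pure
    obtain ⟨k₁, hk₁0⟩ : ∃ k : K, k ≠ 0 := by
      haveI : Nontrivial K := Module.nontrivial_of_finrank_pos (R := F) (by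
        have hd : finrank F (κ → F) ≤ finrank F K + 2 := pairPerp_dim O.h2 b b'
        have := hdb O
        omega)
      exact exists_ne 0
    obtain ⟨L, M, hLM⟩ := hcentral z hzN (Ef k₁) (Ef k₁).2 (fun e1 => hk₁0 (hEinj (Subtype.ext (by
      rw [e1]
      exact LinearEquiv.ext fun X => (ext_pure (A := ((Ef 0 : U) : MV ≃ₗ[F] MV).toLinearMap)
        (B := LinearMap.id) (fun c x => by
          rw [LinearEquiv.coe_coe, hEf, Submodule.coe_zero, eich_zero]; rfl) X).symm))))
      (hzc _ (Ef k₁).2)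
    obtain ⟨ν, hν⟩ := exists_dot_one hb0
    set μ := M b ⬝ᵥ ν with hμ
    have hLa : μ • L a = a := by
      have := congrArg (fun X : MV => X *ᵥ ν) ((hLM a b).symm.trans (hzN.2 b))
      simpa only [vm, hν, one_smul] using this
    have ha0 : a ≠ 0 := O.h1.ne_zero ha
    have hμ0 : μ ≠ 0 := fun e0 => ha0 (by rw [← hLa, e0, zero_smul])
    have hMμ : ∀ x, M x = μ • x := fun x => by
      obtain ⟨η', hη'⟩ := exists_dot_one ha0
      have h1 := congrArg (fun X : MV => η' ᵥ* X) ((hLM a x).symm.trans (hzN.2 x))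
      have h2 : η' ⬝ᵥ L a = μ⁻¹ := by
        have := congrArg (fun c => η' ⬝ᵥ c) hLa
        simp only [dotProduct_smul, smul_eq_mul, dotProduct_comm η' a, hη'] at this
        exact eq_inv_of_mul_eq_one_right this
      simp only [vecMul_vecMulVec, dotProduct_comm η' a, hη', h2, one_smul] at h1
      rw [inv_smul_eq_iff₀ hμ0] at h1
      exact h1
    set L' : Module.End F (ι → F) := μ • L with hL'
    have hzX : ∀ c x, z (vecMulVec c x) = vecMulVec (L' c) x := fun c x => by
      rw [hLM, hMμ, vmv_smul, hL', LinearMap.smul_apply, smul_vecMulVec]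
    have hzj : ∀ (j : ℕ) c x, (z ^ j) (vecMulVec c x) = vecMulVec ((L' ^ j) c) x := by
      intro j
      induction j with
      | zero => intro c x; rfl
      | succ j ih => intro c x; rw [pow_succ, pow_succ, LinearEquiv.mul_apply, hzX, ih, Module.End.mul_apply]
    haveI : Nontrivial (ι → F) := ⟨⟨a, 0, ha0⟩⟩
    have hnil : IsNilpotent (L' - 1) := nil_of_pow_eq_one p (k := k) (LinearMap.ext fun c => by
      have := congrArg (fun X : MV => X *ᵥ ν) ((hzj (p ^ k) c b).symm.trans (by rw [hzk]; rfl :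
        (z ^ p ^ k) (vecMulVec c b) = vecMulVec c b))
      simpa only [vm, hν, one_smul, Module.End.one_apply] using this)
    have hLi : ∀ c d, f1 (L' c) (L' d) = f1 c d := fun c d => by
      obtain ⟨y, hy⟩ := O.h2.exists_left hb0
      have := O.isom z hzN.1 (vecMulVec c y) (vecMulVec d b)
      rwa [hzX, hzX, O.f_pure, O.f_pure, hy, mul_one, mul_one] at this
    have hfa : L' a = a := hLa
    obtain ⟨Pa, hPa, -⟩ := O.h1.exists_perp_sub (F ∙ a)
    have hPd := O.h1.finrank_perp hPa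
    rw [finrank_span_singleton ha0, finrank_ι O, hι] at hPd
    have hPa' : ∀ x, x ∈ Pa ↔ f1 x a = 0 := fun x => (hPa x).trans
      ⟨fun h => h a (Submodule.mem_span_singleton_self a), fun h w hw => by
        obtain ⟨t, rfl⟩ := Submodule.mem_span_singleton.1 hw
        rw [O.h1.smul_right, h, mul_zero]⟩
    have hmap : Pa.map (L' - 1) ≤ Pa := by
      rintro _ ⟨x, hx, rfl⟩
      rw [hPa', LinearMap.sub_apply, Module.End.one_apply, O.h1.sub_left]
      conv_lhs => arg 1; rw [← hfa]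
      rw [hLi, sub_self]
    have hrange : LinearMap.range (L' - 1) ≤ Pa.map (L' - 1) := by
      rintro _ ⟨x, rfl⟩
      refine ⟨x - (f1 x a / f1 a a) • a, (hPa' _).2 ?_, ?_⟩
      · rw [O.h1.sub_left, O.h1.smul_left, div_mul_cancel₀ _ ha, sub_self]
      · rw [map_sub, map_smul, show (L' - 1) a = 0 by
          rw [LinearMap.sub_apply, hfa, Module.End.one_apply, sub_self], smul_zero, sub_zero]
    have hne : Pa ≠ ⊥ := fun e => by rw [e, finrank_bot] at hPd; omega
    have hlt := Submodule.finrank_lt_finrank_of_lt (lt_of_le_of_ne hmap (map_ne_of_nil hnil hne))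
    have hle := Submodule.finrank_mono hrange
    have hne1 := rank_ne_one O O.h1 hLi hnil
    have h0 : LinearMap.range (L' - 1) = ⊥ := Submodule.finrank_eq_zero.1 (by omega)
    rw [LinearMap.range_eq_bot, sub_eq_zero] at h0
    exact hz1 (LinearEquiv.ext fun X => ext_pure (A := z.toLinearMap) (B := LinearMap.id)
      (fun c x => by rw [LinearEquiv.coe_coe, hzX, h0]; rfl) X)
  have hcop : (Nat.card U).Coprime (Nat.card N) := by
    obtain ⟨n, hn⟩ := (IsPGroup.iff_card.1 hUp)
    rw [hn]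
    exact Nat.Coprime.pow_left n (((Fact.out : p.Prime).coprime_iff_not_dvd).2 hpN)
  have hgen := CfsgLib.coprime_generated_by_centralizers hUcyc hUN hcop
  have hle : N ≤ pureSub O := by
    rw [← hgen]
    refine iSup₂_le fun E hE n hn => ?_
    exact hcentral n hn.1 E hE.1 hE.2 (Subgroup.mem_centralizer_singleton_iff.1 hn.2)
  exact hle hg

/-- An element mapping one space of pure tensors on an anisotropic vector of the first factor onto
another is pure. -/
theorem pure_of_block (hN : NoRoot O) (hκ : Fintype.card κ = 4) (hι : Fintype.card ι = 3)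
    {a₁ a₂ : ι → F} (h₁ : f1 a₁ a₁ ≠ 0) (h₂ : f1 a₂ a₂ ≠ 0) {g : MV ≃ₗ[F] MV} (hg : g ∈ G)
    (hgM : ∀ x, ∃ y, g (vecMulVec a₁ x) = vecMulVec a₂ y) : Pure g := by
  let M : (κ → F) →ₗ[F] (κ → F) :=
    { toFun := fun x => (f1 a₂ a₂)⁻¹ • cw O a₂ (g (vecMulVec a₁ x))
      map_add' := fun x y => by rw [vecMulVec_add, map_add, map_add, smul_add]
      map_smul' := fun t x => by rw [vmv_smul, map_smul, map_smul, smul_comm, RingHom.id_apply] }
  have hM : ∀ x, g (vecMulVec a₁ x) = vecMulVec a₂ (M x) := fun x => by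
    obtain ⟨y, hy⟩ := hgM x
    show _ = vecMulVec a₂ ((f1 a₂ a₂)⁻¹ • cw O a₂ (g (vecMulVec a₁ x)))
    rw [hy, cw_pure, smul_smul, inv_mul_cancel₀ h₂, one_smul]
  set ν := f1 a₁ a₁ / f1 a₂ a₂ with hν
  have hν0 : ν ≠ 0 := div_ne_zero h₁ h₂
  have hMi : ∀ x y, f2 (M x) (M y) = ν * f2 x y := fun x y => by
    have := O.isom g hg (vecMulVec a₁ x) (vecMulVec a₁ y)
    rw [hM, hM, O.f_pure, O.f_pure] at this
    rw [hν, div_mul_eq_mul_div, eq_div_iff h₂]
    linear_combination this
  obtain ⟨b, hb0, hb⟩ := O.h2.exists_iso (by have := hdb O; omega)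
  obtain ⟨b', hb', hbb⟩ := exists_pair O.h2 hb0 hb
  haveI : Nontrivial (pairPerp O.h2 b b') := Module.nontrivial_of_finrank_pos (R := F) (by
    have hd : finrank F (κ → F) ≤ finrank F (pairPerp O.h2 b b') + 2 := pairPerp_dim O.h2 b b'
    have := hdb O
    omega)
  obtain ⟨⟨k, hk⟩, hk0⟩ := exists_ne (0 : pairPerp O.h2 b b')
  have hbk := O.h2.symm0 ((mem_pairPerp O.h2).1 hk).1
  obtain ⟨-, E, hEG, hE⟩ := inr_eich O hb hbk
  have hη : f2 (M b) (M b) = 0 := by rw [hMi, hb, mul_zero]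
  have hθ : f2 (M b) (ν⁻¹ • M k) = 0 := by rw [O.h2.smul_right, hMi, hbk, mul_zero, mul_zero]
  have heq : ∀ x, eich O.h2 (M b) (ν⁻¹ • M k) (M x) = M (eich O.h2 b k x) := fun x => by
    simp only [eich_apply, map_add, map_sub, map_smul, O.h2.smul_left, O.h2.smul_right, hMi]
    match_scalars <;> field_simp
  have hMinj : Function.Injective M := (injective_iff_map_eq_zero M).2 fun x hx =>
    O.h2.nondeg x fun y =>
      (mul_eq_zero.1 (by rw [← hMi, hx, O.h2.zero_left] : ν * f2 x y = 0)).resolve_left hν0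
  have hMs : Function.Surjective M := LinearMap.injective_iff_surjective.1 hMinj
  obtain ⟨-, v, hv, hvX⟩ := inr_eich O hη hθ
  set w := g * E * g⁻¹ with hw
  have hfix : v⁻¹ * w ∈ fixer (G := G) a₂ := by
    refine ⟨mul_mem (inv_mem hv) (mul_mem (mul_mem hg hEG) (inv_mem hg)), fun y => ?_⟩
    obtain ⟨x, rfl⟩ := hMs y
    show v.symm (g (E (g.symm (vecMulVec a₂ (M x))))) = _
    rw [← hM, g.symm_apply_apply, hE, hM, v.symm_apply_eq, hM x, hvX, heq]
  have hwp : Pure w := by
    rw [← mul_inv_cancel_left v w]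
    exact Pure.mul ⟨LinearMap.id, eich O.h2 (M b) (ν⁻¹ • M k), hvX⟩ (fixer_pure O hN hκ hι h₂ hfix)
  exact pure_of_eich_conj O hN hκ hb hb' hbb hk (fun e => hk0 (Subtype.ext e)) hEG hE hg hwp

/-- An element commuting with a half turn is pure. -/
theorem pure_of_comm_turn (hN : NoRoot O) (hκ : Fintype.card κ = 4) (hι : Fintype.card ι = 3)
    {a : ι → F} (ha : f1 a a ≠ 0) {g : MV ≃ₗ[F] MV} (hg : g ∈ G)
    (hc : turn O.h1 ha * g = g * turn O.h1 ha) : Pure g :=
  pure_of_block O hN hκ hι ha ha hg fun x => ⟨_, eq_of_turn O ha (by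
    have := LinearEquiv.congr_fun hc (vecMulVec a x)
    rwa [LinearEquiv.mul_apply, LinearEquiv.mul_apply, turn_self] at this)⟩

omit [Finite F] in
theorem fixed_conj (g : MV ≃ₗ[F] MV) {t : MV ≃ₗ[F] MV} :
    LinearMap.ker ((g * t * g⁻¹).toLinearMap - LinearMap.id) =
      (LinearMap.ker (t.toLinearMap - LinearMap.id)).map g.toLinearMap := by
  ext X
  simp only [LinearMap.mem_ker, Submodule.mem_map, LinearMap.sub_apply, LinearMap.id_apply,
    LinearEquiv.coe_coe, sub_eq_zero]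
  constructor
  · intro h
    refine ⟨g.symm X, ?_, g.apply_symm_apply X⟩
    refine g.injective ?_
    rw [g.apply_symm_apply]
    exact h
  · rintro ⟨Y, hY, rfl⟩
    show g (t (g.symm (g Y))) = g Y
    rw [g.symm_apply_apply, hY]

omit [Finite F] in
theorem finrank_fix_turn {a : ι → F} (ha : f1 a a ≠ 0) :
    finrank F (LinearMap.ker ((turn O.h1 ha : MV ≃ₗ[F] MV).toLinearMap - LinearMap.id)) =
      Fintype.card κ := by
  let Ψ : (κ → F) →ₗ[F] MV :=
    { toFun := fun y => vecMulVec a y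
      map_add' := fun y z => vecMulVec_add a y z
      map_smul' := fun t y => vmv_smul a t y }
  have hinj : Function.Injective Ψ := (injective_iff_map_eq_zero Ψ).2 fun y hy =>
    (vmv_eq_zero.1 hy).resolve_left (O.h1.ne_zero ha)
  rw [← finrank_κ O, ← LinearMap.finrank_range_of_inj hinj]
  suffices h : LinearMap.ker ((turn O.h1 ha : MV ≃ₗ[F] MV).toLinearMap - LinearMap.id) =
      LinearMap.range Ψ by rw [h]
  ext X
  rw [LinearMap.mem_ker, LinearMap.sub_apply, LinearMap.id_apply, LinearEquiv.coe_coe, sub_eq_zero]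
  exact ⟨fun h => ⟨_, (eq_of_turn O ha h).symm⟩, fun ⟨y, hy⟩ => hy ▸ turn_self O.h1 ha y⟩

/-- A pure involution with fixed space of the size of the second factor is a half turn. -/
theorem eq_turn (hι : Fintype.card ι = 3) (hκ : Fintype.card κ = 4) {w : MV ≃ₗ[F] MV} (hwG : w ∈ G)
    (hw : Pure w) (hw2 : w * w = 1)
    (hfix : finrank F (LinearMap.ker (w.toLinearMap - LinearMap.id)) = 4) :
    ∃ (c : ι → F) (hc : f1 c c ≠ 0), w = turn O.h1 hc := by
  obtain ⟨L, M, hLM⟩ := hw
  obtain ⟨c₀, hc₀, -⟩ := O.h1.exists_iso (hda O)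
  obtain ⟨y₀, hy₀0, -⟩ := O.h2.exists_iso (by have := hdb O; omega)
  obtain ⟨ν, hν⟩ := exists_dot_one hy₀0
  obtain ⟨η, hη⟩ := exists_dot_one hc₀
  set r := M (M y₀) ⬝ᵥ ν with hr
  have hsq : ∀ c x, vecMulVec (L (L c)) (M (M x)) = vecMulVec c x := fun c x => by
    rw [← hLM, ← hLM, ← LinearEquiv.mul_apply, hw2]
    rfl
  have hLL : ∀ c, r • L (L c) = c := fun c => by
    have := congrArg (fun X : MV => X *ᵥ ν) (hsq c y₀)
    simpa only [vm, hν, one_smul] using this
  have hr0 : r ≠ 0 := fun e0 => hc₀ (by rw [← hLL c₀, e0, zero_smul])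
  have hLL' : ∀ c, L (L c) = r⁻¹ • c := fun c => by
    conv_rhs => rw [← hLL c, smul_smul, inv_mul_cancel₀ hr0, one_smul]
  have hMM : ∀ x, M (M x) = r • x := fun x => by
    have := hsq c₀ x
    rw [hLL', smul_vecMulVec, ← vmv_smul] at this
    have h1 := congrArg (fun X : MV => η ᵥ* X) this
    simp only [vecMul_vecMulVec, dotProduct_comm η c₀, hη, one_smul] at h1
    conv_rhs => rw [← h1]
    rw [smul_smul, mul_inv_cancel₀ hr0, one_smul]
  obtain ⟨s, hs⟩ : ∃ s, s * s = r := by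
    have hd := det_sq L r⁻¹ hLL'
    rw [hι] at hd
    refine ⟨(LinearMap.det L * r)⁻¹ * 1, ?_⟩
    have hd0 : LinearMap.det L ≠ 0 := fun e0 => by
      rw [e0, mul_zero] at hd
      exact pow_ne_zero 3 (inv_ne_zero hr0) hd.symm
    field_simp at hd ⊢
    linear_combination -hd
  have hs0 : s ≠ 0 := fun e0 => hr0 (by rw [← hs, e0, zero_mul])
  set α : (ι → F) →ₗ[F] (ι → F) := s • L with hα
  set β : (κ → F) →ₗ[F] (κ → F) := s⁻¹ • M with hβ
  have hwX : ∀ c x, w (vecMulVec c x) = vecMulVec (α c) (β x) := fun c x => by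
    rw [hα, hβ, LinearMap.smul_apply, LinearMap.smul_apply, smul_vecMulVec, vmv_smul, smul_smul,
      mul_inv_cancel₀ hs0, one_smul, hLM]
  have hα2 : ∀ c, α (α c) = c := fun c => by
    rw [hα, LinearMap.smul_apply, LinearMap.smul_apply, map_smul, smul_smul, hs, hLL]
  have hβ2 : ∀ x, β (β x) = x := fun x => by
    rw [hβ, LinearMap.smul_apply, LinearMap.smul_apply, map_smul, smul_smul, hMM, smul_smul,
      ← mul_inv, hs, inv_mul_cancel₀ hr0, one_smul]
  have hiso : ∀ c d x y, f1 (α c) (α d) * f2 (β x) (β y) = f1 c d * f2 x y := fun c d x y => by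
    rw [← O.f_pure, ← O.f_pure, ← hwX, ← hwX, O.isom w hwG]
  obtain ⟨x₁, hx₁⟩ := O.h2.exists_left hy₀0
  obtain ⟨d₁, hd₁⟩ := O.h1.exists_left hc₀
  set m := f2 (β x₁) (β y₀) with hm
  have hαm : ∀ c d, f1 (α c) (α d) * m = f1 c d := fun c d => by rw [hm, hiso, hx₁, mul_one]
  have hmm : m * m = 1 := by
    have h1 := hαm (α d₁) (α c₀)
    have h2 := hαm d₁ c₀
    rw [hα2, hα2, hd₁] at h1
    rw [hd₁] at h2
    linear_combination m * h1 + h2
  have hm1 : m = 1 := by
    rcases mul_self_eq_one_iff.1 hmm with h | h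
    · exact h
    · exfalso
      have := even_of_anti O.h1 hα2 fun x y => by
        have := hαm x y
        rw [h] at this
        linear_combination -this
      rw [finrank_ι O, hι] at this
      exact absurd this (by decide)
  have hαi : ∀ c d, f1 (α c) (α d) = f1 c d := fun c d => by rw [← hαm c d, hm1, mul_one]
  -- the eigenspaces
  set Ap := LinearMap.ker (α - LinearMap.id) with hAp
  set Am := LinearMap.ker (α + LinearMap.id) with hAm
  set Wp := LinearMap.ker (β - LinearMap.id) with hWp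
  set Bm := LinearMap.ker (β + LinearMap.id) with hBm
  have hApm : ∀ x, x ∈ Ap ↔ α x = x := fun x => by
    rw [hAp, LinearMap.mem_ker, LinearMap.sub_apply, LinearMap.id_apply, sub_eq_zero]
  have hAmm : ∀ x, x ∈ Am ↔ α x = -x := fun x => by
    rw [hAm, LinearMap.mem_ker, LinearMap.add_apply, LinearMap.id_apply, add_eq_zero_iff_eq_neg]
  have hWpm : ∀ x, x ∈ Wp ↔ β x = x := fun x => by
    rw [hWp, LinearMap.mem_ker, LinearMap.sub_apply, LinearMap.id_apply, sub_eq_zero]
  have hBmm : ∀ x, x ∈ Bm ↔ β x = -x := fun x => by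
    rw [hBm, LinearMap.mem_ker, LinearMap.add_apply, LinearMap.id_apply, add_eq_zero_iff_eq_neg]
  have hAA := finrank_invol O.h.two α hα2
  have hWB := finrank_invol O.h.two β hβ2
  have hVV := finrank_invol O.h.two w.toLinearMap fun X => by
    show w (w X) = X
    rw [← LinearEquiv.mul_apply, hw2]
    rfl
  rw [← hAp, ← hAm, finrank_ι O, hι] at hAA
  rw [← hWp, ← hBm, finrank_κ O, hκ] at hWB
  rw [hfix, Module.finrank_matrix, finrank_self, mul_one, hι, hκ] at hVV
  have hlow : ∀ (A₁ A₂ : Submodule F (ι → F)) (V : Submodule F MV),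
      (∀ c ∈ A₁, ∀ x ∈ Wp, vecMulVec c x ∈ V) → (∀ c ∈ A₂, ∀ x ∈ Bm, vecMulVec c x ∈ V) →
      finrank F A₁ * finrank F Wp + finrank F A₂ * finrank F Bm ≤ finrank F V := by
    intro A₁ A₂ V h1 h2
    obtain ⟨S₁, hS₁d, hS₁W, hS₁P⟩ := exists_block A₁ Wp
    obtain ⟨S₂, hS₂d, hS₂W, hS₂P⟩ := exists_block A₂ Bm
    have hinf : S₁ ⊓ S₂ = ⊥ := (Submodule.eq_bot_iff _).2 fun X hX => Matrix.ext fun i j =>
      congrFun (eq_zero_of_eq_neg' O.h.two
        (((hWpm _).1 (hS₁W X hX.1 i)).symm.trans ((hBmm _).1 (hS₂W X hX.2 i)))) j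
    have h3 := Submodule.finrank_sup_add_finrank_inf_eq S₁ S₂
    rw [hinf, finrank_bot, hS₁d, hS₂d] at h3
    have h4 := Submodule.finrank_mono (sup_le (hS₁P V h1) (hS₂P V h2))
    omega
  have hplus := hlow Ap Am (LinearMap.ker (w.toLinearMap - LinearMap.id))
    (fun c hc x hx => by
      rw [LinearMap.mem_ker, LinearMap.sub_apply, LinearMap.id_apply, LinearEquiv.coe_coe, hwX,
        (hApm c).1 hc, (hWpm x).1 hx, sub_self])
    (fun c hc x hx => by
      rw [LinearMap.mem_ker, LinearMap.sub_apply, LinearMap.id_apply, LinearEquiv.coe_coe, hwX,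
        (hAmm c).1 hc, (hBmm x).1 hx, vmv_neg, neg_vmv, neg_neg, sub_self])
  have hminus := hlow Am Ap (LinearMap.ker (w.toLinearMap + LinearMap.id))
    (fun c hc x hx => by
      rw [LinearMap.mem_ker, LinearMap.add_apply, LinearMap.id_apply, LinearEquiv.coe_coe, hwX,
        (hAmm c).1 hc, (hWpm x).1 hx, neg_vmv, neg_add_cancel])
    (fun c hc x hx => by
      rw [LinearMap.mem_ker, LinearMap.add_apply, LinearMap.id_apply, LinearEquiv.coe_coe, hwX,
        (hApm c).1 hc, (hBmm x).1 hx, vmv_neg, neg_add_cancel])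
  rw [hfix] at hplus
  obtain ⟨t, htt, hAt, hBt⟩ : ∃ t : F, t * t = 1 ∧ finrank F (LinearMap.ker (t • α - LinearMap.id)) = 1 ∧
      ∀ x, t • β x = x := by
    set i := finrank F Ap with hi
    set i' := finrank F Am with hi'
    set j := finrank F Wp with hj
    set j' := finrank F Bm with hj'
    have hcase : (i = 1 ∧ j = 4) ∨ (i' = 1 ∧ j' = 4) := by
      have : i ≤ 3 := by omega
      have : j ≤ 4 := by omega
      have e1 : i' = 3 - i := by omega
      have e2 : j' = 4 - j := by omega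
      rw [e1, e2] at hplus hminus ⊢
      interval_cases i <;> interval_cases j <;> omega
    rcases hcase with ⟨h1, h4⟩ | ⟨h1, h4⟩
    · refine ⟨1, one_mul 1, by rw [one_smul, ← hAp]; exact h1, fun x => ?_⟩
      rw [one_smul]
      exact (hWpm x).1 (by
        rw [Submodule.eq_top_of_finrank_eq (h4.trans (hκ.symm.trans (finrank_κ O).symm))]
        trivial)
    · refine ⟨-1, by ring, ?_, fun x => ?_⟩
      · rw [show (-1 : F) • α - LinearMap.id = -(α + LinearMap.id) from LinearMap.ext fun x => by simp; abel,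
          LinearMap.ker_neg, ← hAm]
        exact h1
      · rw [neg_one_smul, neg_eq_iff_eq_neg]
        exact (hBmm x).1 (by
          rw [Submodule.eq_top_of_finrank_eq (h4.trans (hκ.symm.trans (finrank_κ O).symm))]
          trivial)
  obtain ⟨⟨c, hcm⟩, hc0, hspan⟩ := finrank_eq_one_iff'.1 hAt
  set γ := t • α with hγ
  have hγ2 : ∀ x, γ (γ x) = x := fun x => by
    show t • α (t • α x) = x
    rw [map_smul, smul_smul, htt, one_smul, hα2]
  have hγi : ∀ x y, f1 (γ x) (γ y) = f1 x y := fun x y => by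
    show f1 (t • α x) (t • α y) = _
    rw [O.h1.smul_left, O.h1.smul_right, hαi,
      ← mul_assoc, htt, one_mul]
  have hγc : γ c = c := sub_eq_zero.1 hcm
  have hperp : ∀ x, γ x = -x → f1 x c = 0 := fun x hx => by
    have := hγi x c
    rw [hx, hγc, O.h1.neg_left] at this
    exact (mul_eq_zero.1 (show (2 : F) * f1 x c = 0 by linear_combination -this)).resolve_left O.h.two
  have hdec : ∀ x, ∃ (u : F) (m : ι → F), γ m = -m ∧ x = u • c + m := fun x => by
    obtain ⟨u, hu⟩ := hspan ⟨(2 : F)⁻¹ • (x + γ x), by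
      rw [LinearMap.mem_ker, LinearMap.sub_apply, LinearMap.id_apply, map_smul, map_add, hγ2,
        add_comm, sub_self]⟩
    have hu' : u • c = (2 : F)⁻¹ • (x + γ x) := congrArg Subtype.val hu
    refine ⟨u, (2 : F)⁻¹ • (x - γ x), by rw [map_smul, map_sub, hγ2, ← smul_neg, neg_sub], ?_⟩
    rw [hu', ← smul_add]
    have := O.h.two
    match_scalars <;> field_simp <;> ring
  have hcc : f1 c c ≠ 0 := fun h0 => hc0 (Subtype.ext (O.h1.nondeg c fun x => by
    obtain ⟨u, m, hm, rfl⟩ := hdec x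
    rw [O.h1.add_right, O.h1.smul_right, h0, O.h1.symm0 (hperp m hm), mul_zero, add_zero]))
  refine ⟨c, hcc, LinearEquiv.ext fun X => ext_pure (A := w.toLinearMap)
    (B := (turn O.h1 hcc).toLinearMap) (fun c' x => ?_) X⟩
  show w (vecMulVec c' x) = turn O.h1 hcc (vecMulVec c' x)
  obtain ⟨u, m, hm, rfl⟩ := hdec c'
  have hβx : β x = t • x := by
    conv_rhs => rw [← hBt x]
    rw [smul_smul, htt, one_smul]
  rw [turn_pure, hwX, hβx, vmv_smul, ← smul_vecMulVec, ← LinearMap.smul_apply, ← hγ, map_add, map_smul,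
    hγc, hm, halfTurn_apply, O.h1.add_left, O.h1.smul_left, hperp m hm]
  congr 1
  match_scalars <;> field_simp <;> ring

/-- Without elements of rank two everything is pure. -/
theorem pure_all_four (hN : NoRoot O) (hι : Fintype.card ι = 3) (hκ : Fintype.card κ = 4)
    (hturn : ∀ (a : ι → F) (ha : f1 a a ≠ 0), turn O.h1 ha ∈ G) {g : MV ≃ₗ[F] MV} (hg : g ∈ G) :
    Pure g := by
  haveI : Finite (MV ≃ₗ[F] MV) :=
    Finite.of_injective (fun g : MV ≃ₗ[F] MV => (g : MV → MV)) DFunLike.coe_injective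
  obtain ⟨η, hη0, hη⟩ := O.h1.exists_iso (hda O)
  obtain ⟨ζ, hζ, hηζ⟩ := exists_pair O.h1 hη0 hη
  obtain ⟨a₁, ha₁, hn₁⟩ := exists_aniso_pairPerp O.h1 (hda O) hη hζ hηζ
  obtain ⟨ha₁η, ha₁ζ⟩ := (mem_pairPerp O.h1).1 ha₁
  obtain ⟨ν, hν⟩ := FiniteField.exists_nonsquare (F := F) (fun h => O.h.two (by
    haveI := ringChar.of_eq h
    exact CharTwo.two_eq_zero))
  have hν0 : ν ≠ 0 := fun e0 => hν (e0 ▸ IsSquare.zero)
  set s := ν * f1 a₁ a₁ / 2 with hs
  set a₂ := η + s • ζ with ha₂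
  have hn₂ : f1 a₂ a₂ = 2 * s := by
    simp only [ha₂, O.h1.add_left, O.h1.add_right, O.h1.smul_left, O.h1.smul_right, hη, hζ, hηζ,
      O.h1.symm η ζ]
    ring
  have hn₂0 : f1 a₂ a₂ ≠ 0 := by
    rw [hn₂, hs]
    exact mul_ne_zero O.h.two (div_ne_zero (mul_ne_zero hν0 hn₁) O.h.two)
  have haniso : ∀ x, f1 x a₂ = 0 → f1 x x = 0 → x = 0 := by
    intro x hxa hxx
    obtain ⟨p, q, k, hk, rfl⟩ := split_pair O.h1 hη hζ hηζ x
    obtain ⟨hkη, hkζ⟩ := (mem_pairPerp O.h1).1 hk
    obtain ⟨u, rfl⟩ : ∃ u : F, u • a₁ = k := by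
      obtain ⟨W, hW, -⟩ := O.h1.exists_perp_sub (Submodule.span F {η, ζ})
      have h1 := O.h1.finrank_perp hW
      have h2 : 2 ≤ finrank F (Submodule.span F {η, ζ}) := by
        have hlt : F ∙ η < Submodule.span F {η, ζ} :=
          lt_of_le_of_ne (Submodule.span_mono (by simp)) fun h => by
            obtain ⟨t, ht⟩ := Submodule.mem_span_singleton.1
              (show ζ ∈ F ∙ η by rw [h]; exact Submodule.subset_span (by simp))
            rw [← ht, O.h1.smul_right, hη, mul_zero] at hηζ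
            exact zero_ne_one hηζ
        have := Submodule.finrank_lt_finrank_of_lt hlt
        rw [finrank_span_singleton hη0] at this
        omega
      rw [finrank_ι O, hι] at h1
      have hmem : ∀ y, f1 y η = 0 → f1 y ζ = 0 → y ∈ W := fun y h h' => (hW y).2 fun z hz => by
        obtain ⟨c, d, rfl⟩ := Submodule.mem_span_pair.1 hz
        rw [O.h1.add_right, O.h1.smul_right, O.h1.smul_right, h, h', mul_zero, mul_zero, add_zero]
      have h3 : F ∙ a₁ = W := Submodule.eq_of_le_of_finrank_le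
        ((Submodule.span_singleton_le_iff_mem _ _).2 (hmem a₁ ha₁η ha₁ζ))
        (by rw [finrank_span_singleton (O.h1.ne_zero hn₁)]; omega)
      exact Submodule.mem_span_singleton.1 (h3.ge (hmem k hkη hkζ))
    simp only [ha₂, O.h1.add_left, O.h1.add_right, O.h1.smul_left, O.h1.smul_right, hη, hζ, hηζ,
      O.h1.symm η ζ, O.h1.symm0 ha₁η, O.h1.symm0 ha₁ζ, ha₁η, ha₁ζ] at hxa hxx
    have hq : q = -(s * p) := by linear_combination hxa
    have h1 : u * u = ν * (p * p) := mul_left_cancel₀ (mul_ne_zero (mul_ne_zero O.h.two O.h.two) hn₁) (by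
      rw [hq, hs] at hxx
      have := O.h.two
      field_simp at hxx
      linear_combination hxx)
    rcases eq_or_ne p 0 with rfl | hp
    · rw [mul_zero, mul_zero, mul_self_eq_zero] at h1
      rw [hq, h1]
      simp
    · exact absurd ⟨u / p, by rw [div_mul_div_comm, h1, mul_div_assoc, div_self (mul_ne_zero hp hp), mul_one]⟩ hν
  set T₁ := turn O.h1 (κ := κ) hn₁
  set T₂ := turn O.h1 (κ := κ) hn₂0
  set s' := g * T₂ * g⁻¹ with hs'
  have hT₁ := hturn a₁ hn₁
  have hs'G : s' ∈ G := mul_mem (mul_mem hg (hturn a₂ hn₂0)) (inv_mem hg)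
  have hs'2 : s' * s' = 1 := by
    rw [hs', conj_mul, turn_sq, mul_one, mul_inv_cancel]
  have hPG : Subgroup.closure ({T₁, s'} : Set (MV ≃ₗ[F] MV)) ≤ G := by
    rw [Subgroup.closure_le]
    rintro _ (rfl | rfl)
    exacts [hT₁, hs'G]
  have hfix : ∀ {a : ι → F} (ha : f1 a a ≠ 0) (x : MV ≃ₗ[F] MV),
      finrank F (LinearMap.ker ((x * turn O.h1 ha * x⁻¹).toLinearMap - LinearMap.id)) = 4 := by
    intro a ha x
    rw [fixed_conj O, LinearEquiv.finrank_map_eq, finrank_fix_turn O ha, hκ]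
  rcases inv_pair (turn_sq O.h1 hn₁) hs'2 with
    ⟨x, hx, hxs⟩ | ⟨z, hzc, hz1, hz2, hTz, hsz, x, hx, hxT⟩
  · exfalso
    set h := g⁻¹ * x with hh
    have hhG : h ∈ G := mul_mem (inv_mem hg) (hPG hx)
    have hconj : h * T₁ = T₂ * h := by
      have : g⁻¹ * (x * T₁ * x⁻¹) * g = T₂ := by rw [hxs, hs']; group
      rw [← this, hh]
      group
    have hblock : ∀ y, ∃ y', h (vecMulVec a₁ y) = vecMulVec a₂ y' := fun y => ⟨_, eq_of_turn O hn₂0 (by
      have := LinearEquiv.congr_fun hconj (vecMulVec a₁ y)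
      rw [LinearEquiv.mul_apply, LinearEquiv.mul_apply, turn_self] at this
      exact this.symm)⟩
    haveI := nonempty_ι O
    haveI := nonempty_κ O
    obtain ⟨L, M, hLM⟩ := (pure_of_block O hN hκ hι hn₁ hn₂0 hhG hblock).factors
    obtain ⟨y₀, hy₀0, -⟩ := O.h2.exists_iso (by have := hdb O; omega)
    obtain ⟨y₁, hy₁⟩ := O.h2.exists_left hy₀0
    have hiso : ∀ c d x y, f1 (L c) (L d) * f2 (M x) (M y) = f1 c d * f2 x y := fun c d x y => by
      rw [← O.f_pure, ← O.f_pure, ← hLM, ← hLM, O.isom h hhG]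
    set m := f2 (M y₁) (M y₀)
    have hLm : ∀ c d, f1 (L c) (L d) * m = f1 c d := fun c d => by rw [hiso, hy₁, mul_one]
    have hm0 : m ≠ 0 := fun e0 => hn₁ (by rw [← hLm, e0, mul_zero])
    have hMy : M y₀ ≠ 0 := fun e0 => hy₀0 (M.map_eq_zero_iff.1 e0)
    obtain ⟨νy, hνy⟩ := exists_dot_one hMy
    obtain ⟨y', hy'⟩ := hblock y₀
    rw [hLM] at hy'
    have hLa : L a₁ = (y' ⬝ᵥ νy) • a₂ := by
      have := congrArg (fun X : MV => X *ᵥ νy) hy'
      simpa only [vm, hνy, one_smul] using this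
    have hLa0 : y' ⬝ᵥ νy ≠ 0 := fun e0 => O.h1.ne_zero hn₁ (L.map_eq_zero_iff.1 (by
      rw [hLa, e0, zero_smul]))
    refine hη0 (L.map_eq_zero_iff.1 (haniso (L η) ?_ ?_))
    · have := hLm η a₁
      rw [hLa, O.h1.smul_right, O.h1.symm0 ha₁η] at this
      exact (mul_eq_zero.1 ((mul_eq_zero.1 this).resolve_right hm0)).resolve_left hLa0
    · have := hLm η η
      rw [hη] at this
      exact (mul_eq_zero.1 this).resolve_right hm0
  have hzG : z ∈ G := hPG hzc
  have hzp : Pure z := pure_of_comm_turn O hN hκ hι hn₁ hzG hTz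
  set w := T₁ * z with hw
  have hwG : w ∈ G := mul_mem hT₁ hzG
  have hwp : Pure w := Pure.mul ⟨_, LinearMap.id, fun c y => turn_pure O.h1 hn₁ c y⟩ hzp
  have hw2 : w * w = 1 := by
    rw [hw, mul_assoc, ← mul_assoc z, ← hTz, mul_assoc, hz2, mul_one]
    exact turn_sq O.h1 hn₁
  have hwf : finrank F (LinearMap.ker (w.toLinearMap - LinearMap.id)) = 4 := by
    rcases hxT with e | e
    · rw [e]; exact hfix hn₁ x
    · rw [e, hs', show x * (g * T₂ * g⁻¹) * x⁻¹ = (x * g) * T₂ * (x * g)⁻¹ by group]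
      exact hfix hn₂0 _
  obtain ⟨c, hc, hwc⟩ := eq_turn O hι hκ hwG hwp hw2 hwf
  have hzw : z = T₁ * turn O.h1 hc := by rw [← hwc, hw, ← mul_assoc, turn_sq, one_mul]
  -- the commuting half turns
  have hzX : ∀ c' y, z (vecMulVec c' y) = vecMulVec (halfTurn O.h1 a₁ (halfTurn O.h1 c c')) y :=
    fun c' y => by rw [hzw, LinearEquiv.mul_apply, turn_pure, turn_pure]
  have hperp : f1 c a₁ = 0 := by
    by_contra hne
    have hca : halfTurn O.h1 c a₁ = halfTurn O.h1 a₁ (halfTurn O.h1 c a₁) := by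
      obtain ⟨y₀, hy₀0, -⟩ := O.h2.exists_iso (by have := hdb O; omega)
      have h1 := LinearEquiv.congr_fun hwc (vecMulVec a₁ y₀)
      have h2 : T₁ (z (vecMulVec a₁ y₀)) = z (vecMulVec a₁ y₀) :=
        (LinearEquiv.congr_fun hTz (vecMulVec a₁ y₀)).trans (congrArg z (turn_self O.h1 hn₁ y₀))
      rw [LinearEquiv.mul_apply, h2, hzX, turn_pure] at h1
      obtain ⟨ν', hν'⟩ := exists_dot_one hy₀0
      have h3 := congrArg (fun X : MV => X *ᵥ ν') h1
      simpa only [vm, hν', one_smul] using h3.symm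
    simp only [halfTurn_apply, O.h1.sub_left, O.h1.smul_left, O.h1.symm c a₁] at hca
    have hca' : (2 / f1 c c * f1 c a₁) • c =
        ((2 / f1 c c * f1 c a₁) * (f1 c a₁ / f1 a₁ a₁)) • a₁ := by
      refine smul_right_injective (ι → F) O.h.two ?_
      show (2 : F) • _ = (2 : F) • _
      linear_combination (norm := skip) hca
      match_scalars <;> field_simp <;> ring
    have hne' : 2 / f1 c c * f1 c a₁ ≠ 0 := mul_ne_zero (div_ne_zero O.h.two hc) hne
    rw [← smul_smul (2 / f1 c c * f1 c a₁)] at hca'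
    have hcs := smul_right_injective (ι → F) hne' hca'
    refine hz1 (LinearEquiv.ext fun X => ext_pure (A := z.toLinearMap) (B := LinearMap.id)
      (fun c' y => ?_) X)
    rw [LinearEquiv.coe_coe, hzX, LinearMap.id_apply]
    have hsc : halfTurn O.h1 c c' = halfTurn O.h1 a₁ c' := by
      have hu : f1 c a₁ / f1 a₁ a₁ ≠ 0 := div_ne_zero hne hn₁
      rw [halfTurn_apply, halfTurn_apply, hcs]
      simp only [O.h1.smul_left, O.h1.smul_right]
      match_scalars <;> field_simp
    rw [hsc, halfTurn_twice O.h1 hn₁]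
  obtain ⟨W, hW, -⟩ := O.h1.exists_perp_sub (Submodule.span F {a₁, c})
  have hWm : ∀ y, y ∈ W ↔ f1 y a₁ = 0 ∧ f1 y c = 0 := fun y => (hW y).trans
    ⟨fun h => ⟨h _ (Submodule.subset_span (by simp)), h _ (Submodule.subset_span (by simp))⟩,
    fun h v hv => by
      obtain ⟨p, q, rfl⟩ := Submodule.mem_span_pair.1 hv
      rw [O.h1.add_right, O.h1.smul_right, O.h1.smul_right, h.1, h.2, mul_zero, mul_zero, add_zero]⟩
  have hWd := O.h1.finrank_perp hW
  have hspan2 : finrank F (Submodule.span F {a₁, c}) = 2 := by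
    have hli : LinearIndependent F ![a₁, c] := LinearIndependent.pair_iff.2 fun p q hpq => by
      have h1 := congrArg (f1 · a₁) hpq
      have h2 := congrArg (f1 · c) hpq
      simp only [O.h1.add_left, O.h1.smul_left, hperp, O.h1.symm0 hperp, O.h1.zero_left, mul_zero,
        add_zero, zero_add, mul_eq_zero, hn₁, hc, or_false] at h1 h2
      exact ⟨h1, h2⟩
    have := finrank_span_eq_card hli
    rw [Matrix.range_cons, Matrix.range_cons, Matrix.range_empty, Set.union_empty,
      Set.singleton_union, Fintype.card_fin] at this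
    exact this
  rw [hspan2, finrank_ι O, hι] at hWd
  obtain ⟨d, hdW, hd0⟩ := (Submodule.ne_bot_iff W).1 fun e => by
    rw [e, finrank_bot] at hWd
    omega
  obtain ⟨hda', hdc⟩ := (hWm d).1 hdW
  have hWd' : F ∙ d = W := Submodule.eq_of_le_of_finrank_le
    ((Submodule.span_singleton_le_iff_mem _ _).2 hdW) (by rw [finrank_span_singleton hd0]; omega)
  have hdec : ∀ c', ∃ p q r : F, c' = p • a₁ + q • c + r • d := fun c' => by
    obtain ⟨r, hr⟩ := Submodule.mem_span_singleton.1 (hWd'.ge ((hWm (c' - (f1 c' a₁ / f1 a₁ a₁) • a₁ -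
      (f1 c' c / f1 c c) • c)).2 (by
      constructor
      · rw [O.h1.sub_left, O.h1.sub_left, O.h1.smul_left, O.h1.smul_left, hperp,
          div_mul_cancel₀ _ hn₁]
        ring
      · rw [O.h1.sub_left, O.h1.sub_left, O.h1.smul_left, O.h1.smul_left, O.h1.symm0 hperp,
          div_mul_cancel₀ _ hc]
        ring)))
    exact ⟨f1 c' a₁ / f1 a₁ a₁, f1 c' c / f1 c c, r, by rw [hr]; abel⟩
  have hdd : f1 d d ≠ 0 := fun h0 => hd0 (O.h1.nondeg d fun c' => by
    obtain ⟨p, q, r, rfl⟩ := hdec c'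
    simp [O.h1.add_right, O.h1.smul_right, hda', hdc, h0])
  have hzd : z = turn O.h1 hdd := LinearEquiv.ext fun X =>
    ext_pure (A := z.toLinearMap) (B := (turn O.h1 hdd).toLinearMap) (fun c' y => by
      rw [LinearEquiv.coe_coe, LinearEquiv.coe_coe, hzX, turn_pure]
      congr 1
      obtain ⟨p, q, r, rfl⟩ := hdec c'
      simp only [halfTurn_apply, O.h1.add_left, O.h1.sub_left, O.h1.smul_left, hperp,
        O.h1.symm0 hperp, hda', hdc, O.h1.symm0 hda', O.h1.symm0 hdc]
      match_scalars <;> field_simp <;> ring) X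
  have hs'p : Pure s' := pure_of_comm_turn O hN hκ hι hdd hs'G (by rw [← hzd]; exact hsz.symm)
  obtain ⟨c₂, hc₂, hsc⟩ := eq_turn O hι hκ hs'G hs'p hs'2 (hfix hn₂0 g)
  refine pure_of_block O hN hκ hι hn₂0 hc₂ hg fun y => ⟨_, eq_of_turn O hc₂ ?_⟩
  rw [← hsc, hs']
  show g (T₂ (g.symm (g (vecMulVec a₂ y)))) = _
  rw [g.symm_apply_apply, turn_self]

end CfsgLib.MaxSub.TensorOO
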