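/-
Half turns of a three dimensional orthogonal space act on a tensor product with a four dimensional one
as elements of the derived group.
-/
import Cfsg.Agent.Lib.MaxSub.TensorOO.Small
import Cfsg.Agent.Lib.SpinorNorm

set_option autoImplicit false
set_option maxHeartbeats 1000000
set_option linter.unusedSectionVars false

namespace CfsgLib.MaxSub.TensorOO

open Matrix Module
open CfsgLib.MaxSub.TensorSympOrth (SForm ext_pure vmv_smul vmv_sub sub_vmv vmv_neg neg_vmv vmv_ne_zero)
open CfsgLib.WittExtension (quadIso)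
open CfsgLib.SpinorNorm (refl refl_apply refl_conj refl_mul_self)

variable {F : Type*} [Field F]

theorem isSquare_mul_nonsquares [Finite F] {a b : F} (ha : ¬ IsSquare a) (hb : ¬ IsSquare b) :
    IsSquare (a * b) := by
  classical
  letI := Fintype.ofFinite F
  have h2 : ringChar F ≠ 2 := fun h => ha (FiniteField.isSquare_of_char_two h a)
  have ha0 : a ≠ 0 := fun h => ha (h ▸ IsSquare.zero)
  have hb0 : b ≠ 0 := fun h => hb (h ▸ IsSquare.zero)
  rw [← quadraticChar_one_iff_isSquare (mul_ne_zero ha0 hb0), map_mul,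
    (quadraticChar_neg_one_iff_not_isSquare).2 ha, (quadraticChar_neg_one_iff_not_isSquare).2 hb]
  norm_num

section

variable {V : Type*} [AddCommGroup V] [Module F V] [FiniteDimensional F V] [Finite F]
  (Q : QuadraticForm F V)

/-- Pairs of reflections with a fixed ratio of values agree modulo the derived group. -/
theorem refl_pair_eq (hQ : (QuadraticMap.polarBilin Q).Nondegenerate) {u₁ u₂ v₁ v₂ : V} (hu₁ : Q u₁ ≠ 0)
    (hu₂ : Q u₂ ≠ 0) (hv₁ : Q v₁ ≠ 0) (hv₂ : Q v₂ ≠ 0) {ρ : F} (hu : Q u₂ = ρ * Q u₁)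
    (hv : Q v₂ = ρ * Q v₁) :
    Abelianization.of (refl Q hu₁) * Abelianization.of (refl Q hu₂) =
      Abelianization.of (refl Q hv₁) * Abelianization.of (refl Q hv₂) := by
  set π : quadIso Q →* Abelianization (quadIso Q) := Abelianization.of
  have hc : ∀ {a b : V} (ha : Q a ≠ 0) (hb : Q b ≠ 0), IsSquare (Q b / Q a) →
      π (refl Q ha) = π (refl Q hb) := fun {a b} ha hb ⟨s, hs⟩ => by
    obtain ⟨g, hg⟩ := refl_conj Q hQ ha hb (s := s) (by rw [← hs, div_mul_cancel₀ _ ha])
    rw [← hg, map_mul, map_mul, map_inv, mul_comm (π g), mul_inv_cancel_right]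
  have hsq : ∀ {a : V} (ha : Q a ≠ 0), π (refl Q ha) * π (refl Q ha) = 1 := fun ha => by
    rw [← map_mul, refl_mul_self, map_one]
  by_cases h1 : IsSquare (Q v₁ / Q u₁)
  · rw [hc hu₁ hv₁ h1, hc hu₂ hv₂ (by
      rw [hu, hv, mul_div_mul_left _ _ fun e => hu₂ (by rw [hu, e, zero_mul])]
      exact h1)]
  by_cases h2 : IsSquare ρ
  · rw [← hc hu₁ hu₂ (by rwa [hu, mul_div_assoc, div_self hu₁, mul_one]),
      ← hc hv₁ hv₂ (by rwa [hv, mul_div_assoc, div_self hv₁, mul_one]), hsq, hsq]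
  have h3 := isSquare_mul_nonsquares h1 h2
  rw [hc hu₁ hv₂ (by rwa [hv, mul_div_assoc, mul_comm]), hc hu₂ hv₁ (by
    rw [hu, show Q v₁ / (ρ * Q u₁) = Q v₁ / Q u₁ * ρ / (ρ * ρ) by
      have : ρ ≠ 0 := fun e => h2 (e ▸ IsSquare.zero)
      field_simp]
    exact h3.div ⟨ρ, rfl⟩), mul_comm]

end

variable {ι κ : Type*} [Fintype ι] [Fintype κ] [DecidableEq ι] [DecidableEq κ]

local notation "MV" => Matrix ι κ F

variable {f1 : (ι → F) → (ι → F) → F} {f2 : (κ → F) → (κ → F) → F}
  {f : Matrix ι κ F → Matrix ι κ F → F} [Finite F]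

/-- The half turn is in the derived group. -/
theorem turn_mem_commutator (H1 : SForm f1) (H2 : SForm f2) (H : SForm f)
    (hfp : ∀ c d v w, f (vecMulVec c v) (vecMulVec d w) = f1 c d * f2 v w)
    (hι : finrank F (ι → F) = 3) (hκ : finrank F (κ → F) = 4) {a : ι → F} (ha : f1 a a ≠ 0) :
    ∃ x : quadIso H.quad, x ∈ commutator (quadIso H.quad) ∧ x.1 = turn H1 ha := by
  obtain ⟨w₁, hw₁, hw₁a⟩ := exists_aniso_orth H1 (by omega) ha
  obtain ⟨w₂, hw₂, hw₂a, hw₂w⟩ := H1.exists_aniso_perp (by omega) ha hw₁ (H1.symm0 hw₁a)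
  haveI : Invertible (2 : F) := invertibleOfNonzero H2.two
  set B : LinearMap.BilinForm F (κ → F) := LinearMap.mk₂ F f2 H2.add_left (fun t x z => H2.smul_left t x z)
    H2.add_right (fun t x z => H2.smul_right t x z) with hB
  have hBs : LinearMap.IsSymm B := ⟨fun x y => H2.symm y x⟩
  obtain ⟨bas₀, hbas₀⟩ := LinearMap.BilinForm.exists_orthogonal_basis (B := B) hBs
  let bas := bas₀.reindex (finCongr hκ)
  have horth : ∀ i j, i ≠ j → f2 (bas i) (bas j) = 0 := fun i j hij => by
    simp only [bas, Basis.reindex_apply]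
    have := hbas₀ (i := (finCongr hκ).symm i) (j := (finCongr hκ).symm j) (fun e => hij ((finCongr hκ).symm.injective e))
    exact this
  have hnd : ∀ i, f2 (bas i) (bas i) ≠ 0 := fun i h0 => bas.ne_zero i (H2.nondeg _ fun y => by
    rw [← bas.sum_repr y, H2.sum_right]
    refine Finset.sum_eq_zero fun j _ => ?_
    rw [H2.smul_right]
    rcases eq_or_ne i j with rfl | hij
    · rw [h0, mul_zero]
    · rw [horth i j hij, mul_zero])
  have hQw : ∀ {w : ι → F}, f1 w w ≠ 0 → ∀ i, H.quad (vecMulVec w (bas i)) ≠ 0 := fun hw i => by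
    rw [H.quad_apply, hfp]
    exact mul_ne_zero hw (hnd i)
  let R : ∀ {w : ι → F}, f1 w w ≠ 0 → Fin 4 → quadIso H.quad := fun hw i => refl H.quad (hQw hw i)
  have hR : ∀ {w : ι → F} (hw : f1 w w ≠ 0) i j c, (R hw i).1 (vecMulVec c (bas j)) =
      vecMulVec (if i = j then H1.refl w c else c) (bas j) := fun {w} hw i j c => by
    rw [refl_apply, H.quad_polar, H.quad_apply, hfp, hfp]
    split_ifs with h
    · subst h
      rw [H1.refl_apply, sub_vmv, smul_vecMulVec, sub_eq_add_neg, ← neg_smul]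
      congr 2
      have := hnd i
      rw [H1.symm c w]
      field_simp
    · rw [horth i j h]
      simp
  let U : ∀ {w : ι → F}, f1 w w ≠ 0 → quadIso H.quad := fun hw => R hw 0 * R hw 1 * R hw 2 * R hw 3
  have hU : ∀ {w : ι → F} (hw : f1 w w ≠ 0) c y, (U hw).1 (vecMulVec c y) = vecMulVec (H1.refl w c) y := by
    intro w hw c y
    have hj : ∀ j, (U hw).1 (vecMulVec c (bas j)) = vecMulVec (H1.refl w c) (bas j) := fun j => by
      show (R hw 0).1 ((R hw 1).1 ((R hw 2).1 ((R hw 3).1 _))) = _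
      rw [hR hw, hR hw, hR hw, hR hw]
      fin_cases j <;> simp
    have key : (U hw).1.toLinearMap ∘ₗ ({ toFun := fun y => vecMulVec c y
                                          map_add' := fun y z => vecMulVec_add c y z
                                          map_smul' := fun t y => vmv_smul c t y } : (κ → F) →ₗ[F] MV) =
        ({ toFun := fun y => vecMulVec (H1.refl w c) y
           map_add' := fun y z => vecMulVec_add _ y z
           map_smul' := fun t y => vmv_smul _ t y } : (κ → F) →ₗ[F] MV) := bas.ext hj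
    exact LinearMap.congr_fun key y
  have hturn : ∀ c, halfTurn H1 a c = H1.refl w₁ (H1.refl w₂ c) := fun c => by
    have hz : ∀ v, f1 v a = 0 → f1 v w₁ = 0 → f1 v w₂ = 0 → v = 0 := by
      intro v h0 h1 h2
      obtain ⟨P, hP, -⟩ := H1.exists_perp_sub (Submodule.span F {a, w₁})
      have hPd := H1.finrank_perp hP
      have hli : LinearIndependent F ![a, w₁] := LinearIndependent.pair_iff.2 fun p q hpq => by
        have e1 := congrArg (f1 · a) hpq
        have e2 := congrArg (f1 · w₁) hpq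
        simp only [H1.add_left, H1.smul_left, hw₁a, H1.symm0 hw₁a, H1.zero_left, mul_zero,
          add_zero, zero_add, mul_eq_zero, ha, hw₁, or_false] at e1 e2
        exact ⟨e1, e2⟩
      have hd := finrank_span_eq_card hli
      rw [Matrix.range_cons, Matrix.range_cons, Matrix.range_empty, Set.union_empty,
        Set.singleton_union, Fintype.card_fin] at hd
      have hmem : ∀ y, f1 y a = 0 → f1 y w₁ = 0 → y ∈ P := fun y e1 e2 => (hP y).2 fun z hz => by
        obtain ⟨p, q, rfl⟩ := Submodule.mem_span_pair.1 hz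
        rw [H1.add_right, H1.smul_right, H1.smul_right, e1, e2, mul_zero, mul_zero, add_zero]
      have hPe : F ∙ w₂ = P := Submodule.eq_of_le_of_finrank_le
        ((Submodule.span_singleton_le_iff_mem _ _).2 (hmem w₂ hw₂a hw₂w))
        (by rw [finrank_span_singleton (H1.ne_zero hw₂)]; omega)
      obtain ⟨t, rfl⟩ := Submodule.mem_span_singleton.1 (hPe.ge (hmem v h0 h1))
      rw [H1.smul_left] at h2
      rw [(mul_eq_zero.1 h2).resolve_right hw₂, zero_smul]
    refine sub_eq_zero.1 (hz _ ?_ ?_ ?_) <;>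
    · simp only [halfTurn_apply, H1.refl_apply, H1.sub_left, H1.smul_left, hw₁a, hw₂a, hw₂w,
        H1.symm0 hw₁a, H1.symm0 hw₂a, H1.symm0 hw₂w]
      field_simp
      ring
  refine ⟨U hw₁ * U hw₂, ?_, LinearEquiv.ext fun X => ext_pure (A := (U hw₁ * U hw₂).1.toLinearMap)
    (B := (turn H1 ha).toLinearMap) (fun c y => ?_) X⟩
  · rw [← Abelianization.ker_of, MonoidHom.mem_ker]
    set π : quadIso H.quad →* Abelianization (quadIso H.quad) := Abelianization.of
    have hD : ∀ i, π (R hw₁ i) * π (R hw₂ i) = π (R hw₁ 0) * π (R hw₂ 0) := fun i =>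
      refl_pair_eq H.quad (quad_polar_nondeg H) (hQw hw₁ i) (hQw hw₂ i) (hQw hw₁ 0) (hQw hw₂ 0)
        (ρ := f1 w₂ w₂ / f1 w₁ w₁)
        (by rw [H.quad_apply, H.quad_apply, hfp, hfp, ← mul_assoc, div_mul_cancel₀ _ hw₁])
        (by rw [H.quad_apply, H.quad_apply, hfp, hfp, ← mul_assoc, div_mul_cancel₀ _ hw₁])
    have hsq : ∀ {w : ι → F} (hw : f1 w w ≠ 0) i, π (R hw i) * π (R hw i) = 1 := fun hw i => by
      rw [← map_mul, refl_mul_self, map_one]
    simp only [U, map_mul]
    calc _ = (π (R hw₁ 0) * π (R hw₂ 0)) * (π (R hw₁ 1) * π (R hw₂ 1)) *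
          (π (R hw₁ 2) * π (R hw₂ 2)) * (π (R hw₁ 3) * π (R hw₂ 3)) := by ac_rfl
      _ = (π (R hw₁ 0) * π (R hw₁ 0)) * (π (R hw₂ 0) * π (R hw₂ 0)) *
          ((π (R hw₁ 0) * π (R hw₁ 0)) * (π (R hw₂ 0) * π (R hw₂ 0))) := by
        rw [hD 1, hD 2, hD 3]; ac_rfl
      _ = 1 := by rw [hsq hw₁, hsq hw₂, one_mul, one_mul]
  · show (U hw₁).1 ((U hw₂).1 (vecMulVec c y)) = turn H1 ha (vecMulVec c y)
    rw [hU hw₂, hU hw₁, turn_pure, hturn]

end CfsgLib.MaxSub.TensorOO
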