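/-
Stabilisers of tensor products of two orthogonal spaces are maximal in `Ω`.
-/
import Cfsg.Agent.Lib.MaxSub.TensorOO.Spread
import Cfsg.Agent.Lib.MaxSub.TensorOO.Turn
import Cfsg.Agent.Lib.MaxSub.SubspaceMaximalOrthGL
import Cfsg.Agent.Lib.MaxSub.TensorLin.Main
import Cfsg.Agent.Lib.Aschbacher.Tensor

set_option autoImplicit false
set_option maxHeartbeats 1000000
set_option linter.unusedSectionVars false

namespace CfsgLib.MaxSub.TensorOO

open Matrix Module
open CfsgLib.MaxSub.TensorSympOrth (SForm ext_pure vmv_smul vmv_sub sub_vmv vmv_neg neg_vmv vmv_ne_zero)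
open CfsgLib.MaxSub.TensorLin (Col colMap colMap_apply mem_col vmv_eq_zero vmv_zero vm exists_dot_one
  colMap_injective finrank_col flat mmap mmap_apply mmap_kron mmap_injective)
open CfsgLib.WittExtension (quadIso)
open CfsgLib.Eichler (IsEich exists_eich Sieg)
open CfsgLib.MaxSub.Orth (toMat toMat_mulVec)
open scoped Kronecker

variable {F : Type*} [Field F]

/-- Isometries of odd order lie in the derived group. -/
theorem mem_commutator_of_odd {V : Type*} [AddCommGroup V] [Module F V] [FiniteDimensional F V]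
    {Q : QuadraticForm F V} (hQ : (QuadraticMap.polarBilin Q).Nondegenerate)
    (hn : finrank F V ≠ 4) {x : quadIso Q} {n : ℕ} (hn' : Odd n) (hx : x ^ n = 1) :
    x ∈ commutator (quadIso Q) := by
  let π : quadIso Q →* Abelianization (quadIso Q) := Abelianization.of
  have hsq : ∀ y : V ≃ₗ[F] V, y ∈ Subgroup.closure (ReflectionGen.reflSet Q) →
      ∃ h : y ∈ quadIso Q, π ⟨y, h⟩ ^ 2 = 1 := by
    intro y hy
    induction hy using Subgroup.closure_induction with
    | mem r hr =>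
      refine ⟨ReflectionGen.closure_le Q (Subgroup.subset_closure hr), ?_⟩
      obtain ⟨v, hv, hru⟩ := hr
      rw [← map_pow, pow_two, show (⟨r, _⟩ : quadIso Q) * ⟨r, _⟩ = 1 from
        Subtype.ext (LinearEquiv.ext fun u => by
          show r (r u) = u
          rw [hru, hru, QuadraticMap.polar_add_right, QuadraticMap.polar_smul_right,
            ReflectionGen.pol_self, smul_eq_mul]
          match_scalars <;> field_simp <;> ring), map_one]
    | one => exact ⟨one_mem _, by rw [show (⟨1, _⟩ : quadIso Q) = 1 from rfl, map_one, one_pow]⟩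
    | mul a b _ _ ha hb =>
      obtain ⟨ha, ha'⟩ := ha
      obtain ⟨hb, hb'⟩ := hb
      exact ⟨mul_mem ha hb, by
        rw [show (⟨a * b, _⟩ : quadIso Q) = ⟨a, ha⟩ * ⟨b, hb⟩ from rfl, map_mul, mul_pow, ha', hb',
          one_mul]⟩
    | inv a _ ha =>
      obtain ⟨ha, ha'⟩ := ha
      exact ⟨inv_mem ha, by
        rw [show (⟨a⁻¹, _⟩ : quadIso Q) = ⟨a, ha⟩⁻¹ from rfl, map_inv, inv_pow, ha', inv_one]⟩
  obtain ⟨_, h2⟩ := hsq x.1 (ReflectionGen.isometry_mem Q hQ (Or.inr hn) x.1 x.2)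
  have h2' : π x ^ 2 = 1 := h2
  have h1 : π x = 1 := by
    obtain ⟨k, hk⟩ := hn'
    have e := congrArg π hx
    rw [map_pow, map_one, hk, pow_succ, pow_mul, h2', one_pow, one_mul] at e
    exact e
  rw [← Abelianization.ker_of]
  exact h1

theorem kron_mulVec {a b : ℕ} (A : Matrix (Fin a) (Fin a) F) (B : Matrix (Fin b) (Fin b) F)
    (X : Matrix (Fin a) (Fin b) F) : (A ⊗ₖ B) *ᵥ flat X = flat (A * X * Bᵀ) := by
  funext ⟨i, j⟩
  show ((A ⊗ₖ B) *ᵥ flat X) (i, j) = (A * X * Bᵀ) i j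
  simp only [Matrix.mulVec, dotProduct, Fintype.sum_prod_type, Matrix.mul_apply, Matrix.transpose_apply,
    Matrix.kroneckerMap_apply, Finset.sum_mul]
  rw [Finset.sum_comm]
  refine Finset.sum_congr rfl fun k _ => Finset.sum_congr rfl fun l _ => ?_
  show A i l * B j k * X l k = A i l * X l k * B j k
  ring

theorem kron_of_pure {a b : ℕ} (ha : 0 < a) (hb : 0 < b) {M : GL (Fin a × Fin b) F}
    (h : Pure (mmap M)) : M ∈ Cfsg.Geo.kroneckerSubgroup a b F := by
  haveI : Nonempty (Fin a) := ⟨⟨0, ha⟩⟩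
  haveI : Nonempty (Fin b) := ⟨⟨0, hb⟩⟩
  obtain ⟨L, N, hLN⟩ := h.factors
  have hval : (M : Matrix (Fin a × Fin b) (Fin a × Fin b) F) =
      LinearMap.toMatrix' L.toLinearMap ⊗ₖ LinearMap.toMatrix' N.toLinearMap := by
    refine Matrix.toLin'.injective (LinearMap.ext fun x => ?_)
    have e := Pure.eq_tm (L := L.toLinearMap) (M := N.toLinearMap) hLN (flat.symm x)
    rw [mmap_apply, LinearEquiv.apply_symm_apply] at e
    rw [Matrix.toLin'_apply, Matrix.toLin'_apply, ← LinearEquiv.apply_symm_apply flat (_ *ᵥ x), e,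
      tm_apply, ← kron_mulVec, LinearEquiv.apply_symm_apply]
  have hdet : IsUnit (LinearMap.toMatrix' L.toLinearMap ⊗ₖ LinearMap.toMatrix' N.toLinearMap).det :=
    hval ▸ (Matrix.isUnit_iff_isUnit_det _).1 M.isUnit
  rw [Matrix.det_kronecker, IsUnit.mul_iff, Fintype.card_fin, Fintype.card_fin,
    isUnit_pow_iff (by omega), isUnit_pow_iff (by omega)] at hdet
  exact ⟨((Matrix.isUnit_iff_isUnit_det _).2 hdet.1).unit,
    ((Matrix.isUnit_iff_isUnit_det _).2 hdet.2).unit, hval⟩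

theorem sform_of {k : ℕ} {g : (Fin k → F) → (Fin k → F) → F} (h2 : (2 : F) ≠ 0)
    (hg : Cfsg.Geo.IsSymmetricForm g) : SForm g where
  add_left := hg.bilinear.add_left
  smul_left := hg.bilinear.smul_left
  symm := fun x y => hg.symm y x
  nondeg := fun x hx => by
    by_contra hc
    obtain ⟨y, hy⟩ := (hg.nondegenerate x hc).2
    exact hy (hx y)
  two := h2

/-- The stabiliser of a tensor product of two orthogonal spaces is maximal in `Ω`. -/
theorem orth_tensor_maximal_aux [Fintype F] {ι : Type} [Fintype ι] [DecidableEq ι] {a b : ℕ}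
    (ha : 3 ≤ a) (hab : a < b) (hpar : Odd a ∨ Odd b) (hq : Odd (Fintype.card F))
    (hex : ¬ (Fintype.card F = 3 ∧ a = 3)) {Q : (ι → F) → F}
    (hQ : Cfsg.Geo.IsNondegenerateQuadraticForm Q) (e : ι ≃ Fin a × Fin b) (P : GL ι F)
    (f₁ : (Fin a → F) → (Fin a → F) → F) (f₂ : (Fin b → F) → (Fin b → F) → F)
    (hf₁ : Cfsg.Geo.IsSymmetricForm f₁) (hf₂ : Cfsg.Geo.IsSymmetricForm f₂)
    (hminus : a = 4 → ∀ W : Submodule F (Fin a → F), (∀ x ∈ W, f₁ x x = 0) → finrank F W ≤ 1)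
    (hb : 5 ≤ b ∨ (a = 3 ∧ b = 4 ∧ 5 ≤ Fintype.card F ∧
      ∀ W : Submodule F (Fin b → F), (∀ x ∈ W, f₂ x x = 0) → finrank F W ≤ 1))
    (hT : Cfsg.Geo.IsTensorFormStructure id (QuadraticMap.polar Q) f₁ f₂ e P) :
    Cfsg.Geo.IsMaximalIn (Cfsg.Geo.omegaGL Q)
      (Cfsg.Geo.tensorProductSubgroup a b e P ⊓ Cfsg.Geo.omegaGL Q) := by
  have h2 : (2 : F) ≠ 0 := fun h => by
    haveI : CharP F 2 := CharTwo.of_one_ne_zero_of_two_eq_zero one_ne_zero h
    have := FiniteField.even_card_of_char_two (F := F) (ringChar.eq F 2)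
    rw [Nat.odd_iff] at hq
    omega
  have hsmall : 4 ≤ a ∨ 5 ≤ Nat.card F := by
    by_contra hc
    push Not at hc
    rw [Nat.card_eq_fintype_card] at hc
    have h1 : Fintype.card F ≠ 1 := (Fintype.one_lt_card).ne'
    obtain ⟨k, hk⟩ := hq
    exact hex ⟨by omega, by omega⟩
  obtain ⟨R, rfl, hR⟩ := Orth.exists_form hQ
  have hcard : Fintype.card ι = a * b := by simpa using Fintype.card_congr e
  have hn5 : 5 ≤ Fintype.card ι := by rw [hcard]; rcases hb with h | ⟨h, h', -⟩ <;> nlinarith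
  have hfin : finrank F (ι → F) = Fintype.card ι := Module.finrank_fintype_fun_eq_card F
  have H1 := sform_of h2 hf₁
  have H2 := sform_of h2 hf₂
  obtain ⟨c, hc0, hcT⟩ := hT
  let Φ : Matrix (Fin a) (Fin b) F →ₗ[F] (ι → F) :=
    (Matrix.toLin' (P : Matrix ι ι F)).comp ((LinearMap.funLeft F F e).comp flat.toLinearMap)
  have hΦ : ∀ X, Φ X = (P : Matrix ι ι F) *ᵥ (flat X ∘ e) := fun X => rfl
  let f : Matrix (Fin a) (Fin b) F → Matrix (Fin a) (Fin b) F → F :=
    fun X Y => c⁻¹ * QuadraticMap.polar R (Φ X) (Φ Y)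
  have hcf : ∀ X Y, QuadraticMap.polar R (Φ X) (Φ Y) = c * f X Y := fun X Y => by
    show _ = c * (c⁻¹ * _)
    rw [mul_inv_cancel_left₀ hc0]
  have hg : ∀ {k : ℕ} {g : (Fin k → F) → (Fin k → F) → F}, SForm g → ∀ u v,
      g u v = ∑ i, ∑ j, u i * Cfsg.Geo.gramMatrix g i j * v j := fun H u v => by
    conv_lhs => rw [pi_eq_sum_univ' u, pi_eq_sum_univ' v, H.sum_left]
    refine Finset.sum_congr rfl fun i _ => ?_
    rw [H.smul_left, H.sum_right, Finset.mul_sum]
    refine Finset.sum_congr rfl fun j _ => ?_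
    rw [H.smul_right, mul_comm (v j), ← mul_assoc]
    rfl
  have hfp : ∀ c' d v w, f (vecMulVec c' v) (vecMulVec d w) = f₁ c' d * f₂ v w := fun c' d v w => by
    have h := hcT (flat (vecMulVec c' v)) (flat (vecMulVec d w))
    show c⁻¹ * _ = _
    rw [hΦ, hΦ, h, inv_mul_cancel_left₀ hc0, hg H1, hg H2, Cfsg.Geo.formOfGram, Fintype.sum_prod_type,
      Finset.sum_mul_sum]
    refine Finset.sum_congr rfl fun i _ => Finset.sum_congr rfl fun k _ => ?_
    rw [Fintype.sum_prod_type, Finset.sum_mul_sum]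
    refine Finset.sum_congr rfl fun j _ => Finset.sum_congr rfl fun l _ => ?_
    show c' i * v k * (Cfsg.Geo.gramMatrix f₁ i j * Cfsg.Geo.gramMatrix f₂ k l) * (d j * w l) = _
    ring
  have hΦsurj : Function.Surjective Φ := fun u =>
    ⟨flat.symm ((((P⁻¹ : GL ι F) : Matrix ι ι F) *ᵥ u) ∘ e.symm), by
      rw [hΦ, LinearEquiv.apply_symm_apply, Function.comp_assoc, Equiv.symm_comp_self,
        Function.comp_id, mulVec_mulVec, Units.mul_inv, one_mulVec]⟩
  have hΦinj : ∀ X, Φ X = 0 → X = 0 := fun X hX => by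
    have h1 := congrArg (((P⁻¹ : GL ι F) : Matrix ι ι F) *ᵥ ·) hX
    simp only [hΦ, mulVec_mulVec, Units.inv_mul, one_mulVec, mulVec_zero] at h1
    refine flat.map_eq_zero_iff.1 (funext fun p => ?_)
    simpa using congrFun h1 (e.symm p)
  have HF : SForm f :=
    { add_left := fun X Y Z => by
        show c⁻¹ * _ = c⁻¹ * _ + c⁻¹ * _
        rw [map_add, QuadraticMap.polar_add_left, mul_add]
      smul_left := fun t X Z => by
        show c⁻¹ * _ = t * (c⁻¹ * _)
        rw [map_smul, QuadraticMap.polar_smul_left, smul_eq_mul]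
        ring
      symm := fun X Y => by
        show c⁻¹ * _ = c⁻¹ * _
        rw [QuadraticMap.polar_comm]
      nondeg := fun X hX => hΦinj X (hR.1 _ fun u => by
        obtain ⟨Y, rfl⟩ := hΦsurj u
        show QuadraticMap.polar R (Φ X) (Φ Y) = 0
        rw [hcf, hX, mul_zero])
      two := h2 }
  have hQf : ∀ X, R (Φ X) = c / 2 * f X X := fun X => by
    have h := hcf X X
    rw [QuadraticMap.polar_self, two_nsmul] at h
    field_simp
    linear_combination h
  have hact : ∀ (M : GL (Fin a × Fin b) F) X,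
      ((CfsgLib.Aschbacher.frU e P M : GL ι F) : Matrix ι ι F) *ᵥ Φ X = Φ (mmap M X) := fun M X => by
    rw [CfsgLib.Aschbacher.frU_val, CfsgLib.Aschbacher.frAlg_apply, hΦ, hΦ]
    rw [mulVec_mulVec, mul_assoc, Units.inv_mul, mul_one, ← mulVec_mulVec, submatrix_mulVec_equiv,
      Function.comp_assoc, Equiv.self_comp_symm, Function.comp_id, mmap_apply,
      LinearEquiv.apply_symm_apply]
  let Φe : Matrix (Fin a) (Fin b) F ≃ₗ[F] (ι → F) :=
    LinearEquiv.ofBijective Φ ⟨(injective_iff_map_eq_zero Φ).2 hΦinj, hΦsurj⟩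
  have hΦe : ∀ X, Φe X = Φ X := fun X => rfl
  have hsurjM : ∀ g : Matrix (Fin a) (Fin b) F ≃ₗ[F] Matrix (Fin a) (Fin b) F, ∃ M, mmap M = g := by
    intro g
    let L : (Fin a × Fin b → F) ≃ₗ[F] (Fin a × Fin b → F) := flat.symm.trans (g.trans flat)
    refine ⟨Matrix.GeneralLinearGroup.toLin.symm (LinearMap.GeneralLinearGroup.ofLinearEquiv L),
      LinearEquiv.ext fun X => ?_⟩
    rw [mmap_apply]
    show flat.symm (LinearMap.toMatrix' L.toLinearMap *ᵥ flat X) = g X
    rw [LinearMap.toMatrix'_mulVec]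
    simp [L]
  let Ψ : quadIso R →* quadIso HF.quad :=
    { toFun := fun x => ⟨Φe.trans (x.1.trans Φe.symm), fun X => by
        have h := x.2 (Φ X)
        obtain ⟨Y, hY⟩ := hΦsurj (x.1 (Φ X))
        show f _ _ = f X X
        have e1 : (Φe.trans (x.1.trans Φe.symm)) X = Y := by
          show Φe.symm (x.1 (Φ X)) = Y
          rw [Φe.symm_apply_eq, hΦe, hY]
        rw [e1]
        rw [← hY, hQf, hQf] at h
        exact mul_left_cancel₀ (div_ne_zero hc0 h2) h⟩
      map_one' := Subtype.ext (LinearEquiv.ext fun X => Φe.symm_apply_apply X)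
      map_mul' := fun x y => Subtype.ext (LinearEquiv.ext fun X => by
        show Φe.symm (x.1 (y.1 (Φ X))) = Φe.symm (x.1 (Φ (Φe.symm (y.1 (Φ X)))))
        rw [← hΦe (Φe.symm _), Φe.apply_symm_apply]) }
  -- elements of odd order
  obtain ⟨p, hp⟩ := CharP.exists F
  haveI : Fact p.Prime := ⟨CharP.char_is_prime F p⟩
  have hp2 : p ≠ 2 := fun e0 => h2 (by
    subst e0
    exact_mod_cast CharP.cast_eq_zero F 2)
  have hΩ : Cfsg.Geo.omegaGL ⇑R = (commutator (quadIso R)).map (toMat R) := by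
    rw [Orth.omegaGL_eq hR hn5, OmegaSimple.commutator_eq R hR (by omega)]
  have hΩiso : ∀ M, CfsgLib.Aschbacher.frU e P M ∈ Cfsg.Geo.omegaGL ⇑R →
      ∀ X Y, f (mmap M X) (mmap M Y) = f X Y := by
    intro M hM X Y
    rw [hΩ] at hM
    obtain ⟨x, -, hx⟩ := hM
    show c⁻¹ * _ = c⁻¹ * _
    rw [← hact, ← hact, ← hx, toMat_mulVec, toMat_mulVec, OrthOrder.polar_map x.2]
  have hunip : ∀ g : Matrix (Fin a) (Fin b) F ≃ₗ[F] Matrix (Fin a) (Fin b) F,
      (∀ X Y, f (g X) (g Y) = f X Y) → Unip g →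
      ∃ M, mmap M = g ∧ CfsgLib.Aschbacher.frU e P M ∈ Cfsg.Geo.omegaGL ⇑R := by
    intro g hgi hu
    obtain ⟨M, rfl⟩ := hsurjM g
    refine ⟨M, rfl, ?_⟩
    haveI : Nonempty (Fin a) := ⟨⟨0, by omega⟩⟩
    haveI : Nonempty (Fin b) := ⟨⟨0, by omega⟩⟩
    obtain ⟨k, hk⟩ := pow_eq_one_of_nil p hu
    let x : quadIso R := ⟨Φe.symm.trans ((mmap M).trans Φe), fun v => by
      obtain ⟨X, rfl⟩ := hΦsurj v
      show R (Φ (mmap M (Φe.symm (Φ X)))) = R (Φ X)
      rw [show Φe.symm (Φ X) = X from Φe.symm_apply_apply X, hQf, hQf, hgi]⟩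
    have hxX : ∀ X, x.1 (Φ X) = Φ (mmap M X) := fun X => by
      show Φ (mmap M (Φe.symm (Φ X))) = _
      rw [show Φe.symm (Φ X) = X from Φe.symm_apply_apply X]
    have hpow : ∀ n X, (x ^ n).1 (Φ X) =
        Φ ((((mmap M).toLinearMap : Module.End F (Matrix (Fin a) (Fin b) F)) ^ n) X) := by
      intro n
      induction n with
      | zero => intro X; rfl
      | succ n ih =>
        intro X
        rw [pow_succ, pow_succ, Module.End.mul_apply]
        show (x ^ n).1 (x.1 (Φ X)) = _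
        rw [hxX, ih]
        rfl
    have hxN : x ^ p ^ k = 1 := Subtype.ext (LinearEquiv.ext fun v => by
      obtain ⟨X, rfl⟩ := hΦsurj v
      rw [hpow, hk]
      rfl)
    have hxc := mem_commutator_of_odd hR (by omega) (((Fact.out : p.Prime).odd_of_ne_two hp2).pow) hxN
    rw [hΩ]
    refine ⟨x, hxc, Units.ext (Matrix.toLin'.injective (LinearMap.ext fun v => ?_))⟩
    obtain ⟨X, rfl⟩ := hΦsurj v
    rw [Matrix.toLin'_apply, Matrix.toLin'_apply, toMat_mulVec, hxX, hact]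
  have hkron : ∀ M, Pure (mmap M) →
      CfsgLib.Aschbacher.frU e P M ∈ Cfsg.Geo.tensorProductSubgroup a b e P := by
    intro M hM
    rw [Cfsg.Geo.tensorProductSubgroup, CfsgLib.Aschbacher.map_glReindex_conj]
    exact ⟨M, kron_of_pure (by omega) (by omega) hM, rfl⟩
  let Θ : quadIso HF.quad →* quadIso R :=
    { toFun := fun y => ⟨Φe.symm.trans (y.1.trans Φe), fun v => by
        obtain ⟨X, rfl⟩ := hΦsurj v
        show R (Φ (y.1 (Φe.symm (Φ X)))) = R (Φ X)
        rw [show Φe.symm (Φ X) = X from Φe.symm_apply_apply X, hQf, hQf]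
        exact congrArg (c / 2 * ·) (y.2 X)⟩
      map_one' := Subtype.ext (LinearEquiv.ext fun v => Φe.apply_symm_apply v)
      map_mul' := fun x y => Subtype.ext (LinearEquiv.ext fun v => by
        show Φ (x.1 (y.1 (Φe.symm v))) = Φ (x.1 (Φe.symm (Φe (y.1 (Φe.symm v)))))
        rw [Φe.symm_apply_apply]) }
  -- every overgroup
  have key : ∀ K : Subgroup (GL ι F),
      Cfsg.Geo.tensorProductSubgroup a b e P ⊓ Cfsg.Geo.omegaGL ⇑R ≤ K → K ≤ Cfsg.Geo.omegaGL ⇑R →
      ∃ G : Subgroup (Matrix (Fin a) (Fin b) F ≃ₗ[F] Matrix (Fin a) (Fin b) F),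
        OO f₁ f₂ f G ∧ (∀ M, mmap M ∈ G ↔ CfsgLib.Aschbacher.frU e P M ∈ K) ∧
        (a = 3 → b = 4 → ∀ (x : Fin a → F) (hx : f₁ x x ≠ 0), turn H1 hx ∈ G) := by
    intro K hHK hKΩ
    refine ⟨(K.comap (CfsgLib.Aschbacher.frU e P).toMonoidHom).map mmap, ?_, fun M => ?_, ?_⟩
    swap
    · exact ⟨fun ⟨M', hM', he'⟩ => mmap_injective he' ▸ hM', fun h => ⟨M, h, rfl⟩⟩
    rotate_left
    · intro ha3 hb4 x hx
      obtain ⟨y, hy, hyt⟩ := turn_mem_commutator H1 H2 HF hfp
        (by rw [Module.finrank_fin_fun, ha3]) (by rw [Module.finrank_fin_fun, hb4]) hx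
      obtain ⟨M, hM⟩ := hsurjM (turn H1 hx)
      have hp : Pure (mmap M) := by
        rw [hM]
        exact ⟨halfTurn H1 x, LinearMap.id, fun c v => turn_pure H1 hx c v⟩
      refine ⟨M, hHK ⟨hkron M hp, ?_⟩, hM⟩
      rw [hΩ]
      have hΘ : Θ y ∈ commutator (quadIso R) := by
        have h2 := Subgroup.mem_map_of_mem Θ hy
        rw [_root_.commutator_def, Subgroup.map_commutator] at h2
        rw [_root_.commutator_def]
        exact Subgroup.commutator_mono le_top le_top h2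
      refine ⟨Θ y, hΘ, Units.ext (Matrix.toLin'.injective (LinearMap.ext fun v => ?_))⟩
      obtain ⟨X, rfl⟩ := hΦsurj v
      rw [Matrix.toLin'_apply, Matrix.toLin'_apply, toMat_mulVec, MulEquiv.coe_toMonoidHom, hact, hM,
        ← hyt]
      show Φ (y.1 (Φe.symm (Φe X))) = Φ (y.1 X)
      rw [Φe.symm_apply_apply]
    exact
    { h1 := H1
      h2 := H2
      h := HF
      f_pure := hfp
      isom := by
        rintro _ ⟨M, hM, rfl⟩
        exact hΩiso M (hKΩ hM)
      pu := fun g hgi hgp hu => by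
        obtain ⟨M, rfl, hM⟩ := hunip g hgi hu
        exact ⟨M, hHK ⟨hkron M hgp, hM⟩, rfl⟩
      split := fun g h hgi hgp hhi hu hgh => by
        obtain ⟨M, rfl⟩ := hsurjM g
        obtain ⟨M', rfl, hM'⟩ := hunip h hhi hu
        obtain ⟨M'', hM'', he''⟩ := hgh
        rw [← map_mul] at he''
        obtain rfl := mmap_injective he''
        have hmem : CfsgLib.Aschbacher.frU e P M ∈ Cfsg.Geo.omegaGL ⇑R := by
          have h1 := mul_mem (hKΩ hM'') (inv_mem hM')
          simpa using h1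
        exact ⟨M, hHK ⟨hkron M hgp, hmem⟩, rfl⟩
      a3 := by rwa [Fintype.card_fin]
      ab := Or.inl (by rwa [Fintype.card_fin, Fintype.card_fin])
      b4 := by
        rw [Fintype.card_fin, Nat.card_eq_fintype_card]
        exact hb.imp_right fun h => ⟨Or.inl h.2.1, h.2.2.1, h.2.2.2⟩
      odd := by rwa [Fintype.card_fin, Fintype.card_fin]
      small := by rwa [Fintype.card_fin]
      minus := fun h => hminus (by rwa [Fintype.card_fin] at h) }
  refine ⟨lt_of_le_of_ne inf_le_right fun h => ?_, fun K hK hKG => ?_⟩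
  · obtain ⟨G, O, hG, -⟩ := key _ inf_le_right le_rfl
    obtain ⟨η, hη0, hη⟩ := H1.exists_iso (hda O)
    obtain ⟨ζ, hζ, hηζ⟩ := exists_pair H1 hη0 hη
    obtain ⟨z, hz, hzz⟩ := exists_aniso_pairPerp H1 (hda O) hη hζ hηζ
    obtain ⟨hzη, hzζ⟩ := (mem_pairPerp H1).1 hz
    obtain ⟨u, hu0, hu⟩ := H2.exists_iso (by have := hdb O; omega)
    obtain ⟨v, hv, huv⟩ := exists_pair H2 hu0 hu
    have hQu : HF.quad (vecMulVec η u) = 0 := by rw [HF.quad_apply, hfp, hu, mul_zero]
    have hpol : QuadraticMap.polar HF.quad (vecMulVec η u) (vecMulVec z u) = 0 := by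
      rw [HF.quad_polar, hfp, hu, mul_zero, mul_zero]
    obtain ⟨x, hx⟩ := exists_eich HF.quad hQu hpol
    have hxi : ∀ X Y, f (x.1 X) (x.1 Y) = f X Y := fun X Y => by
      have h := OrthOrder.polar_map x.2 X Y
      rw [HF.quad_polar, HF.quad_polar] at h
      exact mul_left_cancel₀ h2 h
    have hxu : Unip x.1 := ⟨3, LinearMap.ext fun X => by
      have hd : ∀ Y, ((x.1.toLinearMap : Module.End F _) - 1) Y =
          (2 * f (vecMulVec η u) Y) • vecMulVec z u - (2 * f (vecMulVec z u) Y) • vecMulVec η u := fun Y => by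
        rw [LinearMap.sub_apply, Module.End.one_apply]
        show x.1 Y - Y = _
        rw [hx Y, HF.quad_polar, HF.quad_polar, HF.quad_apply, hfp z z u u, hu]
        match_scalars <;> ring
      rw [pow_succ, pow_succ, pow_one, Module.End.mul_apply, Module.End.mul_apply, LinearMap.zero_apply]
      simp only [hd, HF.sub_right, HF.smul_right, HF.zero_right, hfp, hu, mul_zero, sub_zero, zero_smul]⟩
    obtain ⟨M, hMx, hM⟩ := hunip x.1 hxi hxu
    have hMK := (h.ge hM).1
    rw [Cfsg.Geo.tensorProductSubgroup, CfsgLib.Aschbacher.map_glReindex_conj] at hMK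
    obtain ⟨M', ⟨A, B, hAB⟩, he'⟩ := hMK
    obtain rfl := (CfsgLib.Aschbacher.frU e P).injective he'
    have hx' : ∀ c' y, x.1 (vecMulVec c' y) =
        vecMulVec ((A : Matrix (Fin a) (Fin a) F) *ᵥ c') ((B : Matrix (Fin b) (Fin b) F) *ᵥ y) := fun c' y => by
      rw [← hMx, mmap_kron hAB, mul_vecMulVec, vecMulVec_mul, vecMul_transpose]
    have e1 : x.1 (vecMulVec ζ v) = vecMulVec ζ v + (2 : F) • vecMulVec z u := by
      rw [hx, HF.quad_polar, HF.quad_polar, HF.quad_apply, hfp, hfp, hfp, hηζ, hzζ, huv, hu]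
      match_scalars <;> ring
    rw [hx'] at e1
    have e2 := congrArg (cw O η) e1
    have e3 := congrArg (cw O z) e1
    rw [map_add, map_smul, cw_pure, cw_pure, cw_pure, H1.symm η ζ, hηζ, hzη, zero_smul, smul_zero,
      add_zero, one_smul] at e2
    rw [map_add, map_smul, cw_pure, cw_pure, cw_pure, H1.symm0 hzζ, zero_smul, zero_add, smul_smul] at e3
    set s := f₁ ((A : Matrix (Fin a) (Fin a) F) *ᵥ ζ) η
    set t := f₁ ((A : Matrix (Fin a) (Fin a) F) *ᵥ ζ) z
    have e4 := congrArg (f₂ · u) e2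
    have e5 := congrArg (f₂ · u) e3
    simp only [H2.smul_left, H2.symm u v, huv, hu, mul_zero] at e4 e5
    rcases mul_eq_zero.1 e5 with h0 | h0
    · rw [h0, zero_smul, eq_comm, smul_eq_zero] at e3
      exact e3.elim (mul_ne_zero h2 hzz) hu0
    · rw [h0, mul_zero] at e4
      exact zero_ne_one e4
  by_cases hin : K ≤ Cfsg.Geo.tensorProductSubgroup a b e P
  · exact Or.inl (le_antisymm (le_inf hin hKG) hK)
  refine Or.inr (le_antisymm hKG ?_)
  obtain ⟨G, O, hG, hturn⟩ := key K hK hKG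
  obtain ⟨g₀, hg₀, hg₀n⟩ := SetLike.not_le_iff_exists.1 hin
  obtain ⟨M₀, rfl⟩ := (CfsgLib.Aschbacher.frU e P).surjective g₀
  have hsieg := sieg_le O fun hN => hg₀n (hkron M₀ (by
    rcases hb with h5 | ⟨h3, h4, -, -⟩
    · exact pure_all O hN (by rwa [Module.finrank_fin_fun]) ((hG M₀).2 hg₀)
    · exact pure_all_four O hN (by rw [Fintype.card_fin, h3]) (by rw [Fintype.card_fin, h4])
        (hturn h3 h4) ((hG M₀).2 hg₀)))
  rw [hΩ]
  rintro _ ⟨x, hx, rfl⟩
  have h1 : Ψ x ∈ commutator (quadIso HF.quad) := by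
    have h2 := Subgroup.mem_map_of_mem Ψ hx
    rw [_root_.commutator_def, Subgroup.map_commutator] at h2
    rw [_root_.commutator_def]
    exact Subgroup.commutator_mono le_top le_top h2
  rw [OmegaSimple.commutator_eq HF.quad (quad_nondeg O) (by
    rw [Module.finrank_matrix, finrank_self, mul_one, Fintype.card_fin, Fintype.card_fin]
    nlinarith)] at h1
  have h3 : (Ψ x).1 ∈ G := hsieg h1
  obtain ⟨M, hM⟩ := hsurjM (Ψ x).1
  rw [← hM] at h3
  convert (hG M).1 h3 using 1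
  refine Units.ext (Matrix.toLin'.injective (LinearMap.ext fun v => ?_))
  obtain ⟨X, rfl⟩ := hΦsurj v
  rw [Matrix.toLin'_apply, Matrix.toLin'_apply, toMat_mulVec, hact, hM]
  show x.1 (Φ X) = Φ (Φe.symm (x.1 (Φ X)))
  exact (Φe.apply_symm_apply _).symm

/-- The stabiliser of a tensor product of two orthogonal spaces of dimensions at least five in the
second factor is maximal in `Ω`. -/
theorem orth_tensor_maximal [Fintype F] {ι : Type} [Fintype ι] [DecidableEq ι] {a b : ℕ}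
    (ha : 3 ≤ a) (hab : a < b) (hb : 5 ≤ b) (hpar : Odd a ∨ Odd b) (hq : Odd (Fintype.card F))
    (hex : ¬ (Fintype.card F = 3 ∧ a = 3)) {Q : (ι → F) → F}
    (hQ : Cfsg.Geo.IsNondegenerateQuadraticForm Q) (e : ι ≃ Fin a × Fin b) (P : GL ι F)
    (f₁ : (Fin a → F) → (Fin a → F) → F) (f₂ : (Fin b → F) → (Fin b → F) → F)
    (hf₁ : Cfsg.Geo.IsSymmetricForm f₁) (hf₂ : Cfsg.Geo.IsSymmetricForm f₂)
    (hminus : a = 4 → ∀ W : Submodule F (Fin a → F), (∀ x ∈ W, f₁ x x = 0) → finrank F W ≤ 1)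
    (hT : Cfsg.Geo.IsTensorFormStructure id (QuadraticMap.polar Q) f₁ f₂ e P) :
    Cfsg.Geo.IsMaximalIn (Cfsg.Geo.omegaGL Q)
      (Cfsg.Geo.tensorProductSubgroup a b e P ⊓ Cfsg.Geo.omegaGL Q) :=
  orth_tensor_maximal_aux ha hab hpar hq hex hQ e P f₁ f₂ hf₁ hf₂ hminus (Or.inl hb) hT

/-- The stabiliser of a tensor product of a three dimensional space and a four dimensional space of
minus type is maximal in `Ω`. -/
theorem orth_tensor_maximal_three_four [Fintype F] {ι : Type} [Fintype ι] [DecidableEq ι]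
    (hq : Odd (Fintype.card F)) (hq5 : 5 ≤ Fintype.card F) {Q : (ι → F) → F}
    (hQ : Cfsg.Geo.IsNondegenerateQuadraticForm Q) (e : ι ≃ Fin 3 × Fin 4) (P : GL ι F)
    (f₁ : (Fin 3 → F) → (Fin 3 → F) → F) (f₂ : (Fin 4 → F) → (Fin 4 → F) → F)
    (hf₁ : Cfsg.Geo.IsSymmetricForm f₁) (hf₂ : Cfsg.Geo.IsSymmetricForm f₂)
    (hm : ¬ Cfsg.Geo.IsPlusTypeOn (fun v : Fin 4 → F => f₂ v v) ⊤)
    (hT : Cfsg.Geo.IsTensorFormStructure id (QuadraticMap.polar Q) f₁ f₂ e P) :
    Cfsg.Geo.IsMaximalIn (Cfsg.Geo.omegaGL Q)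
      (Cfsg.Geo.tensorProductSubgroup 3 4 e P ⊓ Cfsg.Geo.omegaGL Q) :=
  orth_tensor_maximal_aux le_rfl (by norm_num) (Or.inl (by decide)) hq (fun h => by omega) hQ e P f₁ f₂
    hf₁ hf₂ (fun h => absurd h (by norm_num))
    (Or.inr ⟨rfl, rfl, hq5, fun W hW => by
      by_contra hc
      obtain ⟨g, hg⟩ := exists_linearIndependent_of_le_finrank (R := F) (M := W) (n := 2) (by omega)
      refine hm ⟨Submodule.span F (Set.range fun i => (g i : Fin 4 → F)), le_top,
        fun w hw => hW w (Submodule.span_le.2 (Set.range_subset_iff.2 fun i => (g i).2) hw), ?_⟩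
      have hg' : LinearIndependent F fun i => (g i : Fin 4 → F) := hg.map' W.subtype W.ker_subtype
      rw [finrank_span_eq_card hg', finrank_top,
        Module.finrank_fintype_fun_eq_card, Fintype.card_fin, Fintype.card_fin]⟩) hT

end CfsgLib.MaxSub.TensorOO
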