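/-
Three dimensional orthogonal spaces: half turns, involutive isometries and unipotent isometries.
-/
import Cfsg.Agent.Lib.MaxSub.TensorOO.Small

set_option autoImplicit false
set_option maxHeartbeats 1000000
set_option linter.unusedSectionVars false

namespace CfsgLib.MaxSub.TensorOO

open Module
open CfsgLib.MaxSub.TensorSympOrth (SForm)

variable {F : Type*} [Field F] {ι : Type*} [Fintype ι] [DecidableEq ι]
  {g : (ι → F) → (ι → F) → F} (H : SForm g) (hι : Fintype.card ι = 3)

include H

theorem halfTurn_self {a : ι → F} (ha : g a a ≠ 0) : halfTurn H a a = a := by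
  rw [halfTurn_apply, div_mul_cancel₀ _ ha, two_smul, add_sub_cancel_right]

theorem halfTurn_perp {a c : ι → F} (h : g c a = 0) : halfTurn H a c = -c := by
  rw [halfTurn_apply, h, mul_zero, zero_smul, zero_sub]

theorem halfTurn_isom {a : ι → F} (ha : g a a ≠ 0) (x y : ι → F) :
    g (halfTurn H a x) (halfTurn H a y) = g x y := by
  show g (-(H.refl a x)) (-(H.refl a y)) = _
  rw [H.neg_left, H.neg_right, neg_neg, H.refl_isom ha]

theorem halfTurn_smul {a : ι → F} {s : F} (hs : s ≠ 0) : halfTurn H (s • a) = halfTurn H a := by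
  refine LinearMap.ext fun x => ?_
  rw [halfTurn_apply, halfTurn_apply, H.smul_left, H.smul_right, H.smul_right, smul_smul]
  congr 2
  field_simp

include hι

/-- Two perpendicular vectors extend to an orthogonal basis. -/
theorem third {a b : ι → F} (ha : g a a ≠ 0) (hb : g b b ≠ 0) (hab : g a b = 0) :
    ∃ d, g d d ≠ 0 ∧ g d a = 0 ∧ g d b = 0 ∧
      ∀ x, x = (g x a / g a a) • a + (g x b / g b b) • b + (g x d / g d d) • d := by
  obtain ⟨d, hd, hda, hdb⟩ := H.exists_aniso_perp
    (by rw [Module.finrank_fintype_fun_eq_card, hι]) ha hb hab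
  have hba := H.symm0 hab
  have had := H.symm0 hda
  have hbd := H.symm0 hdb
  have hli : LinearIndependent F ![a, b, d] := by
    rw [Fintype.linearIndependent_iff]
    intro c hc
    simp only [Fin.sum_univ_three, Matrix.cons_val_zero, Matrix.cons_val_one, Matrix.head_cons,
      Matrix.cons_val_two, Matrix.tail_cons] at hc
    have e0 := congrArg (g · a) hc
    have e1 := congrArg (g · b) hc
    have e2 := congrArg (g · d) hc
    simp only [H.add_left, H.smul_left, H.zero_left, hba, hda, hab, hdb, had, hbd, mul_zero, add_zero,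
      zero_add, mul_eq_zero, ha, hb, hd, or_false] at e0 e1 e2
    intro i
    fin_cases i <;> assumption
  have htop := hli.span_eq_top_of_card_eq_finrank
    (by rw [Module.finrank_fintype_fun_eq_card, hι, Fintype.card_fin])
  refine ⟨d, hd, hda, hdb, fun x => ?_⟩
  rw [← sub_eq_zero]
  refine H.nondeg _ fun y => ?_
  set v := x - ((g x a / g a a) • a + (g x b / g b b) • b + (g x d / g d d) • d) with hv
  have hle : Submodule.span F (Set.range ![a, b, d]) ≤ LinearMap.ker (H.lin v) := by
    rw [Submodule.span_le]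
    rintro _ ⟨i, rfl⟩
    show g _ v = 0
    refine H.symm0 ?_
    fin_cases i
    all_goals
      simp [hv, H.sub_left, H.add_left, H.smul_left, hba, hda, hab, hdb, had, hbd, ha, hb, hd]
  rw [htop] at hle
  exact H.symm0 (hle (show y ∈ (⊤ : Submodule F (ι → F)) from trivial))

/-- Linear maps agreeing on two perpendicular vectors and their common perpendicular agree. -/
theorem ext_third {a b d : ι → F}
    (hdec : ∀ x, x = (g x a / g a a) • a + (g x b / g b b) • b + (g x d / g d d) • d)
    {A B : (ι → F) →ₗ[F] (ι → F)} (h1 : A a = B a) (h2 : A b = B b) (h3 : A d = B d) : A = B :=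
  LinearMap.ext fun x => by
    rw [hdec x, map_add, map_add, map_add, map_add, map_smul, map_smul, map_smul, map_smul, map_smul,
      map_smul, h1, h2, h3]

/-- The product of two perpendicular half turns is the third one. -/
theorem halfTurn_mul {a b : ι → F} (ha : g a a ≠ 0) (hb : g b b ≠ 0) (hab : g a b = 0) :
    ∃ d, g d d ≠ 0 ∧ g d a = 0 ∧ g d b = 0 ∧ halfTurn H a ∘ₗ halfTurn H b = halfTurn H d := by
  obtain ⟨d, hd, hda, hdb, hdec⟩ := third H hι ha hb hab
  refine ⟨d, hd, hda, hdb, ext_third H hι hdec ?_ ?_ ?_⟩ <;> rw [LinearMap.comp_apply]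
  · rw [halfTurn_perp H hab, map_neg, halfTurn_self H ha, halfTurn_perp H (H.symm0 hda)]
  · rw [halfTurn_self H hb, halfTurn_perp H (H.symm0 hab), halfTurn_perp H (H.symm0 hdb)]
  · rw [halfTurn_perp H hdb, map_neg, halfTurn_perp H hda, neg_neg, halfTurn_self H hd]

omit hι in
/-- Commuting half turns have parallel or perpendicular vectors. -/
theorem halfTurn_comm {a b : ι → F} (ha : g a a ≠ 0) (hb : g b b ≠ 0)
    (h : ∀ x, halfTurn H a (halfTurn H b x) = halfTurn H b (halfTurn H a x)) :
    (∃ s : F, s ≠ 0 ∧ b = s • a) ∨ g b a = 0 := by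
  by_cases hba : g b a = 0
  · exact Or.inr hba
  left
  have e := h b
  rw [halfTurn_self H hb, halfTurn_apply H b (halfTurn H a b)] at e
  set v := halfTurn H a b with hv
  have e2 : (2 : F) • v = (2 / g b b * g v b) • b := by
    rw [two_smul]
    nth_rw 1 [e]
    exact sub_add_cancel _ _
  have e3 : (2 : F) • ((2 / g a a * g b a) • a) = (2 + 2 / g b b * g v b) • b := by
    rw [add_smul, ← e2, hv, halfTurn_apply H a b, smul_sub]
    abel
  have hne : (2 : F) * (2 / g a a * g b a) ≠ 0 := mul_ne_zero H.two (mul_ne_zero (div_ne_zero H.two ha) hba)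
  rw [smul_smul] at e3
  have hne2 : 2 + 2 / g b b * g v b ≠ 0 := fun h0 => by
    rw [h0, zero_smul] at e3
    exact H.ne_zero ha ((smul_eq_zero.1 e3).resolve_left hne)
  refine ⟨(2 + 2 / g b b * g v b)⁻¹ * (2 * (2 / g a a * g b a)), mul_ne_zero (inv_ne_zero hne2) hne, ?_⟩
  rw [← smul_smul, e3, smul_smul, inv_mul_cancel₀ hne2, one_smul]

/-- The product of two half turns, if involutive, is the identity or a half turn. -/
theorem halfTurn_pair {a b : ι → F} (ha : g a a ≠ 0) (hb : g b b ≠ 0)
    (h : ∀ x, halfTurn H a (halfTurn H b (halfTurn H a (halfTurn H b x))) = x) :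
    halfTurn H a ∘ₗ halfTurn H b = LinearMap.id ∨
      ∃ d, g d d ≠ 0 ∧ g d a = 0 ∧ halfTurn H a ∘ₗ halfTurn H b = halfTurn H d := by
  have hc : ∀ x, halfTurn H a (halfTurn H b x) = halfTurn H b (halfTurn H a x) := fun x => by
    have := h (halfTurn H b (halfTurn H a x))
    rwa [halfTurn_twice H hb, halfTurn_twice H ha] at this
  rcases halfTurn_comm H ha hb hc with ⟨s, hs, rfl⟩ | hba
  · left
    refine LinearMap.ext fun x => ?_
    rw [LinearMap.comp_apply, halfTurn_smul H hs, halfTurn_twice H ha]
    rfl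
  · obtain ⟨d, hd, hda, -, he⟩ := halfTurn_mul H hι ha hb (H.symm0 hba)
    exact Or.inr ⟨d, hd, hda, he⟩

theorem finrank_fix_halfTurn {a : ι → F} (ha : g a a ≠ 0) :
    finrank F (LinearMap.ker (halfTurn H a - LinearMap.id)) = 1 := by
  have e : LinearMap.ker (halfTurn H a - LinearMap.id) = F ∙ a := by
    refine le_antisymm (fun x hx => ?_) ((Submodule.span_singleton_le_iff_mem _ _).2 ?_)
    · rw [LinearMap.mem_ker, LinearMap.sub_apply, LinearMap.id_apply, halfTurn_apply] at hx
      refine Submodule.mem_span_singleton.2 ⟨1 / g a a * g x a, ?_⟩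
      refine smul_right_injective (ι → F) H.two ?_
      show (2 : F) • _ = (2 : F) • x
      rw [smul_smul, two_smul F x]
      linear_combination (norm := module) hx
    · rw [LinearMap.mem_ker, LinearMap.sub_apply, LinearMap.id_apply, halfTurn_self H ha, sub_self]
  rw [e, finrank_span_singleton (H.ne_zero ha)]

/-- An involutive isometry with one dimensional fixed space is a half turn. -/
theorem eq_halfTurn {α : (ι → F) →ₗ[F] (ι → F)} (h2 : ∀ x, α (α x) = x)
    (hi : ∀ x y, g (α x) (α y) = g x y)
    (h1 : finrank F (LinearMap.ker (α - LinearMap.id)) = 1) :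
    ∃ c, g c c ≠ 0 ∧ α = halfTurn H c := by
  obtain ⟨⟨c, hcm⟩, hc0, hspan⟩ := finrank_eq_one_iff'.1 h1
  have hγc : α c = c := sub_eq_zero.1 hcm
  have hperp : ∀ x, α x = -x → g x c = 0 := fun x hx => by
    have := hi x c
    rw [hx, hγc, H.neg_left] at this
    exact (mul_eq_zero.1 (show (2 : F) * g x c = 0 by linear_combination -this)).resolve_left H.two
  have hdec : ∀ x, ∃ (u : F) (m : ι → F), α m = -m ∧ x = u • c + m := fun x => by
    obtain ⟨u, hu⟩ := hspan ⟨(2 : F)⁻¹ • (x + α x), by
      rw [LinearMap.mem_ker, LinearMap.sub_apply, LinearMap.id_apply, map_smul, map_add, h2,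
        add_comm, sub_self]⟩
    have hu' : u • c = (2 : F)⁻¹ • (x + α x) := congrArg Subtype.val hu
    refine ⟨u, (2 : F)⁻¹ • (x - α x), by rw [map_smul, map_sub, h2, ← smul_neg, neg_sub], ?_⟩
    rw [hu', ← smul_add]
    have := H.two
    match_scalars <;> field_simp <;> ring
  have hcc : g c c ≠ 0 := fun h0 => hc0 (Subtype.ext (H.nondeg c fun x => by
    obtain ⟨u, m, hm, rfl⟩ := hdec x
    rw [H.add_right, H.smul_right, h0, H.symm0 (hperp m hm), mul_zero, add_zero]))
  refine ⟨c, hcc, LinearMap.ext fun x => ?_⟩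
  obtain ⟨u, m, hm, rfl⟩ := hdec x
  rw [map_add, map_add, map_smul, map_smul, hγc, hm, halfTurn_self H hcc, halfTurn_perp H (hperp m hm)]

/-- The involutive isometries. -/
theorem invol_cases {α : (ι → F) →ₗ[F] (ι → F)} (h2 : ∀ x, α (α x) = x)
    (hi : ∀ x y, g (α x) (α y) = g x y) :
    ∃ ε : F, ε * ε = 1 ∧ (α = ε • LinearMap.id ∨ ∃ c, g c c ≠ 0 ∧ α = ε • halfTurn H c) := by
  have hsum := finrank_invol H.two α h2
  rw [Module.finrank_fintype_fun_eq_card, hι] at hsum
  set i := finrank F (LinearMap.ker (α - LinearMap.id)) with hidef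
  set j := finrank F (LinearMap.ker (α + LinearMap.id)) with hjdef
  rcases (show j = 0 ∨ i = 0 ∨ i = 1 ∨ j = 1 by omega) with h | h | h | h
  · refine ⟨1, one_mul 1, Or.inl (LinearMap.ext fun x => ?_)⟩
    have hx : α x - x ∈ LinearMap.ker (α + LinearMap.id) := by
      rw [LinearMap.mem_ker, LinearMap.add_apply, LinearMap.id_apply, map_sub, h2]
      abel
    rw [Submodule.finrank_eq_zero.1 h, Submodule.mem_bot, sub_eq_zero] at hx
    rw [hx, one_smul]
    rfl
  · refine ⟨-1, by ring, Or.inl (LinearMap.ext fun x => ?_)⟩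
    have hx : α x + x ∈ LinearMap.ker (α - LinearMap.id) := by
      rw [LinearMap.mem_ker, LinearMap.sub_apply, LinearMap.id_apply, map_add, h2]
      abel
    rw [Submodule.finrank_eq_zero.1 h, Submodule.mem_bot, add_eq_zero_iff_eq_neg] at hx
    rw [hx, LinearMap.smul_apply, LinearMap.id_apply, neg_one_smul]
  · obtain ⟨c, hc, e⟩ := eq_halfTurn H hι h2 hi h
    exact ⟨1, one_mul 1, Or.inr ⟨c, hc, by rw [e, one_smul]⟩⟩
  · obtain ⟨c, hc, e⟩ := eq_halfTurn H hι (α := -α) (fun x => by simp [h2]) (fun x y => by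
      rw [LinearMap.neg_apply, LinearMap.neg_apply, H.neg_left, H.neg_right, neg_neg, hi]) (by
      rw [show -α - LinearMap.id = -(α + LinearMap.id) from LinearMap.ext fun x => by simp; abel,
        LinearMap.ker_neg]
      exact h)
    exact ⟨-1, by ring, Or.inr ⟨c, hc, by rw [← e]; exact LinearMap.ext fun x => by simp⟩⟩

/-- Isometries fixing two perpendicular vectors fix the third or reverse it; unipotent ones fix it. -/
theorem fixed_pair {M : (ι → F) →ₗ[F] (ι → F)} (hi : ∀ x y, g (M x) (M y) = g x y) {a b : ι → F}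
    (ha : g a a ≠ 0) (hb : g b b ≠ 0) (hab : g a b = 0) (hMa : M a = a) (hMb : M b = b) :
    M = LinearMap.id ∨ ∃ d, g d d ≠ 0 ∧ g d a = 0 ∧ g d b = 0 ∧ M d = -d := by
  obtain ⟨d, hd, hda, hdb, hdec⟩ := third H hι ha hb hab
  have e1 : g (M d) a = 0 := by rw [← hMa, hi]; exact hda
  have e2 : g (M d) b = 0 := by rw [← hMb, hi]; exact hdb
  set s := g (M d) d / g d d
  have e : M d = s • d := by
    have h := hdec (M d)
    rw [e1, e2, zero_div, zero_div, zero_smul, zero_smul, zero_add, zero_add] at h
    exact h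
  have e3 : s * s = 1 := by
    have h := hi d d
    rw [e, H.smul_left, H.smul_right] at h
    exact mul_right_cancel₀ hd (by linear_combination h)
  rcases mul_self_eq_one_iff.1 e3 with h | h
  · exact Or.inl (ext_third H hι hdec hMa hMb (by rw [e, h, one_smul]; rfl))
  · exact Or.inr ⟨d, hd, hda, hdb, by rw [e, h, neg_one_smul]⟩

omit hι in
/-- A nilpotent displacement reverses no vector outside an invariant line. -/
theorem not_reversed {M : (ι → F) →ₗ[F] (ι → F)} (hn : IsNilpotent ((M : Module.End F (ι → F)) - 1))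
    {d b : ι → F} {c : F} (hMb : M b = b) (hMd : M d = -d + c • b) (hd : d ∉ F ∙ b) : False := by
  obtain ⟨n, hn⟩ := hn
  have : ∀ j : ℕ, ∃ r : F, (((M : Module.End F (ι → F)) - 1) ^ j) d = (-2 : F) ^ j • d + r • b := by
    intro j
    induction j with
    | zero => exact ⟨0, by simp⟩
    | succ j ih =>
      obtain ⟨r, hr⟩ := ih
      refine ⟨(-2) ^ j * c, ?_⟩
      rw [pow_succ', Module.End.mul_apply, hr, map_add, map_smul, map_smul]
      simp only [LinearMap.sub_apply, Module.End.one_apply, hMd, hMb, sub_self, smul_zero, add_zero]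
      rw [pow_succ]
      module
  obtain ⟨r, hr⟩ := this n
  rw [hn, LinearMap.zero_apply, eq_comm] at hr
  refine hd (Submodule.mem_span_singleton.2 ⟨-r * ((-2 : F) ^ n)⁻¹, ?_⟩)
  have h2 : ((-2 : F) ^ n) ≠ 0 := pow_ne_zero _ (neg_ne_zero.2 H.two)
  have hrb : (-r) • b = (-2 : F) ^ n • d := by
    rw [neg_smul, neg_eq_iff_add_eq_zero, add_comm]
    exact hr
  rw [mul_comm, ← smul_smul, hrb, smul_smul, inv_mul_cancel₀ h2, one_smul]

/-- A vector perpendicular to a pair and to an anisotropic vector perpendicular to it is zero. -/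
theorem pair_third {b b' k x : ι → F} (hb : g b b = 0) (hb' : g b' b' = 0) (hbb : g b b' = 1)
    (hkb : g k b = 0) (hkb' : g k b' = 0) (hk : g k k ≠ 0) (hxb : g x b = 0) (hxb' : g x b' = 0)
    (hxk : g x k = 0) : x = 0 := by
  have hs : g (b + b') (b + b') = 2 := by
    simp only [H.add_left, H.add_right, hb, hb', hbb, H.symm b b']
    ring
  have hp : g (b - b') (b - b') = -2 := by
    simp only [H.sub_left, H.sub_right, hb, hb', hbb, H.symm b b']
    ring
  obtain ⟨d, hd, hd1, hd2, hdec⟩ := third H hι (a := b + b') (b := b - b')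
    (by rw [hs]; exact H.two) (by rw [hp]; exact neg_ne_zero.2 H.two) (by
      simp only [H.add_left, H.sub_right, hb, hb', hbb, H.symm b b']
      ring)
  have hkd : k = (g k d / g d d) • d := by
    have h := hdec k
    rwa [H.add_right, H.sub_right, hkb, hkb', add_zero, sub_zero, zero_div, zero_div, zero_smul,
      zero_smul, zero_add, zero_add] at h
  have hgd : g x d = 0 := by
    rw [hkd, H.smul_right] at hxk
    refine (mul_eq_zero.1 hxk).resolve_left fun h0 => hk ?_
    rw [hkd, h0, zero_smul, H.zero_left]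
  rw [hdec x, H.add_right, H.sub_right, hxb, hxb', hgd]
  simp

/-- Unipotent isometries other than one are Eichler transformations with anisotropic vector. -/
theorem unip_eq_eich {M : (ι → F) →ₗ[F] (ι → F)} (hi : ∀ x y, g (M x) (M y) = g x y)
    (hn : IsNilpotent ((M : Module.End F (ι → F)) - 1)) (h1 : M ≠ LinearMap.id) :
    ∃ b k, b ≠ 0 ∧ g b b = 0 ∧ g b k = 0 ∧ g k k ≠ 0 ∧ M = eich H b k := by
  set N : Module.End F (ι → F) := (M : Module.End F (ι → F)) - 1 with hN
  have hNa : ∀ x, N x = M x - x := fun x => rfl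
  -- a fixed vector below any vector
  have hfix : ∀ x, x ≠ 0 → ∃ j, (N ^ j) x ≠ 0 ∧ M ((N ^ j) x) = (N ^ j) x := fun x hx => by
    classical
    have hex : ∃ j, (N ^ j) x = 0 := by
      obtain ⟨n, hn⟩ := hn
      exact ⟨n, by rw [hn, LinearMap.zero_apply]⟩
    obtain ⟨j, hj⟩ : ∃ j, Nat.find hex = j + 1 := Nat.exists_eq_add_one.2 (Nat.pos_of_ne_zero fun h0 =>
      hx (by simpa [h0] using Nat.find_spec hex))
    refine ⟨j, Nat.find_min hex (by omega), ?_⟩
    have := Nat.find_spec hex
    rw [hj, pow_succ', Module.End.mul_apply, hNa, sub_eq_zero] at this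
    exact this
  have htwo : ∀ {a b : ι → F}, g a a ≠ 0 → g b b ≠ 0 → g a b = 0 → M a = a → M b = b → False :=
    fun ha hb hab hMa hMb => by
      rcases fixed_pair H hι hi ha hb hab hMa hMb with h | ⟨d, hd, -, hdb, hMd⟩
      · exact h1 h
      · refine not_reversed H hn hMb (c := 0) (by rw [hMd, zero_smul, add_zero]) fun hm => ?_
        obtain ⟨t, rfl⟩ := Submodule.mem_span_singleton.1 hm
        rw [H.smul_left] at hdb
        exact hd (by rw [(mul_eq_zero.1 hdb).resolve_right hb, zero_smul, H.zero_left])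
  -- a fixed singular vector
  have hani : ∀ a, g a a ≠ 0 → M a ≠ a := fun a ha hMa => by
    obtain ⟨c, hc, hca⟩ := exists_aniso_orth H (by rw [Module.finrank_fintype_fun_eq_card, hι]; norm_num) ha
    have hperp : ∀ j, g ((N ^ j) c) a = 0 := fun j => by
      induction j with
      | zero => exact hca
      | succ j ih =>
        rw [pow_succ', Module.End.mul_apply, hNa, H.sub_left, ih, sub_zero]
        conv_lhs => arg 2; rw [← hMa]
        rw [hi, ih]
    obtain ⟨j, hw0, hw⟩ := hfix c (H.ne_zero hc)
    set w := (N ^ j) c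
    by_cases hww : g w w = 0
    · obtain ⟨w', hw', hww'⟩ := exists_pair H hw0 hww
      set v := w' - (g w' a / g a a) • a with hv
      have hva : g v a = 0 := by rw [hv, H.sub_left, H.smul_left, div_mul_cancel₀ _ ha, sub_self]
      have hwv : g w v = 1 := by
        rw [hv, H.sub_right, H.smul_right, hperp, mul_zero, sub_zero, hww']
      set v' := v - (g v v / 2) • w with hv'
      have hv'a : g v' a = 0 := by rw [hv', H.sub_left, H.smul_left, hva, hperp, mul_zero, sub_zero]
      have hwv' : g w v' = 1 := by rw [hv', H.sub_right, H.smul_right, hww, mul_zero, sub_zero, hwv]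
      have hv'v' : g v' v' = 0 := by
        simp only [hv', H.sub_left, H.sub_right, H.smul_left, H.smul_right, hww, hwv, H.symm w v]
        have := H.two
        field_simp
        ring
      have hMv' : M v' = v' := by
        refine sub_eq_zero.1 (pair_third H hι hww hv'v' hwv' (H.symm0 (hperp j)) (H.symm0 hv'a) ha
          ?_ ?_ ?_)
        · rw [H.sub_left]
          conv_lhs => arg 1; arg 2; rw [← hw]
          rw [hi, sub_self]
        · rw [H.sub_left, hv'v', sub_zero]
          have e := pair_third H hι hww hv'v' hwv' (H.symm0 (hperp j)) (H.symm0 hv'a) ha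
            (x := M v' - v' - (g (M v' - v') v') • w) ?_ ?_ ?_
          · have e' : M v' = v' + (g (M v' - v') v') • w := by
              rw [← sub_eq_zero, ← e]; abel
            have := hi v' v'
            rw [e'] at this
            simp only [H.add_left, H.add_right, H.smul_left, H.smul_right, hv'v', hww, hwv',
              H.symm w v', H.sub_left, sub_zero] at this
            exact (mul_eq_zero.1 (show (2 : F) * g (M v') v' = 0 by linear_combination this)).resolve_left
              H.two
          · rw [H.sub_left, H.sub_left, H.smul_left, hww, mul_zero, sub_zero]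
            conv_lhs => arg 1; arg 2; rw [← hw]
            rw [hi, sub_self]
          · rw [H.sub_left (M v' - v'), H.smul_left, hwv', mul_one, sub_self]
          · rw [H.sub_left, H.sub_left, H.smul_left, hperp, mul_zero, sub_zero]
            conv_lhs => arg 1; arg 2; rw [← hMa]
            rw [hi, sub_self]
        · rw [H.sub_left]
          conv_lhs => arg 1; arg 2; rw [← hMa]
          rw [hi, sub_self]
      refine htwo (a := w + v') (b := w - v') ?_ ?_ ?_ (by rw [map_add, hw, hMv'])
        (by rw [map_sub, hw, hMv'])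
      · simp only [H.add_left, H.add_right, hww, hv'v', hwv', H.symm w v']
        simpa [one_add_one_eq_two] using H.two
      · simp only [H.sub_left, H.sub_right, hww, hv'v', hwv', H.symm w v']
        have := H.two
        intro h0
        exact this (by linear_combination -h0)
      · simp only [H.add_left, H.sub_right, hww, hv'v', hwv', H.symm w v']
        ring
    · exact htwo ha hww (H.symm0 (hperp j)) hMa hw
  obtain ⟨x, hx⟩ : ∃ x : ι → F, x ≠ 0 := by
    haveI : Nontrivial (ι → F) := Module.nontrivial_of_finrank_pos (R := F)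
      (by rw [Module.finrank_fintype_fun_eq_card, hι]; norm_num)
    exact exists_ne 0
  obtain ⟨j, hb0, hMb⟩ := hfix x hx
  set b := (N ^ j) x
  have hb : g b b = 0 := by
    by_contra h
    exact hani b h hMb
  obtain ⟨b', hb', hbb⟩ := exists_pair H hb0 hb
  obtain ⟨k₀, hk₀, hk₀n⟩ := exists_aniso_pairPerp H
    (by rw [Module.finrank_fintype_fun_eq_card, hι]) hb hb' hbb
  obtain ⟨hk₀b, hk₀b'⟩ := (mem_pairPerp H).1 hk₀
  set k := M b' - g (M b') b' • b - b' with hk
  have hMbb : g (M b') b = 1 := by
    conv_lhs => arg 2; rw [← hMb]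
    rw [hi, H.symm b b', hbb]
  have hkb : g k b = 0 := by
    rw [hk, H.sub_left, H.sub_left, H.smul_left, hb, hMbb, H.symm b b', hbb]
    ring
  have hkb' : g k b' = 0 := by
    rw [hk, H.sub_left, H.sub_left, H.smul_left, hbb, hb']
    ring
  have hbk := H.symm0 hkb
  have ht : g (M b') b' = -(g k k / 2) := by
    have e : M b' = k + g (M b') b' • b + b' := by rw [hk]; abel
    have := hi b' b'
    rw [e] at this
    simp only [H.add_left, H.add_right, H.smul_left, H.smul_right, hb, hb', hbb, hkb, hkb', hbk,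
      H.symm0 hkb', H.symm b b'] at this
    have h2 := H.two
    field_simp
    linear_combination this
  have hEb : eich H b k b = b := eich_fix H hb hbk
  have hEb' : eich H b k b' = M b' := by
    rw [eich_apply, H.symm b b', hbb, H.symm0 hkb', one_smul, zero_smul, mul_one, sub_zero,
      show M b' = k + g (M b') b' • b + b' by rw [hk]; abel, ht, neg_smul]
    abel
  -- the third vector
  set y := M k₀ - g (M k₀) b' • b with hy
  have hyb : g y b = 0 := by
    rw [hy, H.sub_left, H.smul_left, hb, mul_zero, sub_zero]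
    conv_lhs => arg 2; rw [← hMb]
    rw [hi, hk₀b]
  have hyb' : g y b' = 0 := by rw [hy, H.sub_left, H.smul_left, hbb, mul_one, sub_self]
  set ε := g y k₀ / g k₀ k₀
  have hy' : y = ε • k₀ := sub_eq_zero.1 (pair_third H hι hb hb' hbb hk₀b hk₀b' hk₀n
    (by rw [H.sub_left, H.smul_left, hyb, hk₀b, mul_zero, sub_zero])
    (by rw [H.sub_left, H.smul_left, hyb', hk₀b', mul_zero, sub_zero])
    (by rw [H.sub_left, H.smul_left, div_mul_cancel₀ _ hk₀n, sub_self]))
  have hMk : M k₀ = ε • k₀ + g (M k₀) b' • b := by rw [← hy', hy]; abel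
  have hε2 : ε * ε = 1 := by
    have := hi k₀ k₀
    rw [hMk] at this
    simp only [H.add_left, H.add_right, H.smul_left, H.smul_right, hb, hk₀b, H.symm0 hk₀b] at this
    exact mul_right_cancel₀ hk₀n (by linear_combination this)
  have hε : ε = 1 := (mul_self_eq_one_iff.1 hε2).resolve_right fun h => by
    refine not_reversed H hn hMb (c := g (M k₀) b') (hMk.trans (by rw [h, neg_one_smul])) fun hm => ?_
    obtain ⟨t, ht'⟩ := Submodule.mem_span_singleton.1 hm
    rw [← ht', H.smul_left, H.smul_right, hb, mul_zero, mul_zero] at hk₀n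
    exact hk₀n rfl
  rw [hε, one_smul] at hMk
  have hEk : eich H b k k₀ = M k₀ := by
    have e : g (M k₀) b' = -g k₀ k := by
      have := hi k₀ b'
      rw [hk₀b'] at this
      rw [show M b' = k + g (M b') b' • b + b' by rw [hk]; abel, hMk] at this
      simp only [H.add_left, H.add_right, H.smul_left, H.smul_right, hk₀b, hk₀b', hbk, hb, hbb] at this
      linear_combination this
    rw [hMk, e, eich_apply, hk₀b, zero_smul, mul_zero, zero_smul, sub_zero, zero_sub, neg_smul]
  have hdec : ∀ z, ∃ p q r : F, z = p • b + q • b' + r • k₀ := fun z => by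
    obtain ⟨p, q, l, hl, rfl⟩ := split_pair H hb hb' hbb z
    obtain ⟨hl1, hl2⟩ := (mem_pairPerp H).1 hl
    refine ⟨p, q, g l k₀ / g k₀ k₀, ?_⟩
    congr 1
    exact sub_eq_zero.1 (pair_third H hι hb hb' hbb hk₀b hk₀b' hk₀n
      (by rw [H.sub_left, H.smul_left, hl1, hk₀b, mul_zero, sub_zero])
      (by rw [H.sub_left, H.smul_left, hl2, hk₀b', mul_zero, sub_zero])
      (by rw [H.sub_left, H.smul_left, div_mul_cancel₀ _ hk₀n, sub_self]))
  have hME : M = eich H b k := LinearMap.ext fun z => by
    obtain ⟨p, q, r, rfl⟩ := hdec z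
    rw [map_add, map_add, map_add, map_add, map_smul, map_smul, map_smul, map_smul, map_smul, map_smul,
      hEb, hEb', hEk, hMb]
  refine ⟨b, k, hb0, hb, hbk, fun hkk => h1 ?_, hME⟩
  obtain ⟨p, q, r, hpqr⟩ := hdec k
  have hp : p = 0 ∧ q = 0 := by
    have e1 := congrArg (g · b') hpqr
    have e2 := congrArg (g · b) hpqr
    simp only [H.add_left, H.smul_left, hb, hb', hbb, H.symm b b', hk₀b, hk₀b', hkb, hkb'] at e1 e2
    exact ⟨by linear_combination -e1, by linear_combination -e2⟩
  rw [hp.1, hp.2, zero_smul, zero_smul, zero_add, zero_add] at hpqr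
  rw [hpqr, H.smul_left, H.smul_right] at hkk
  have hr : r = 0 := by
    have := (mul_eq_zero.1 (show r * r * g k₀ k₀ = 0 by linear_combination hkk)).resolve_right hk₀n
    exact mul_self_eq_zero.1 this
  rw [hME, hpqr, hr, zero_smul]
  exact LinearMap.ext fun z => eich_zero H b z

omit hι in
/-- The vectors fixed by an Eichler transformation with anisotropic vector. -/
theorem eich_fixed {b k x : ι → F} (hb0 : b ≠ 0) (hb : g b b = 0) (hbk : g b k = 0) (hk : g k k ≠ 0)
    (hx : eich H b k x = x) : g x b = 0 ∧ g x k = 0 := by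
  rw [eich_apply, add_eq_left] at hx
  have h1 := congrArg (g · k) hx
  simp only [H.sub_left, H.smul_left, hbk, H.zero_left, mul_zero, sub_zero] at h1
  have hxb : g x b = 0 := (mul_eq_zero.1 h1).resolve_right hk
  rw [hxb, zero_smul, mul_zero, zero_smul, zero_sub, sub_zero, neg_eq_zero] at hx
  exact ⟨hxb, (smul_eq_zero.1 hx).resolve_right hb0⟩

/-- The vectors fixed by an Eichler transformation with anisotropic vector form a line. -/
theorem eich_fixed_mem {b k x : ι → F} (hb0 : b ≠ 0) (hb : g b b = 0) (hbk : g b k = 0)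
    (hk : g k k ≠ 0) (hx : eich H b k x = x) : x ∈ F ∙ b := by
  obtain ⟨hxb, hxk⟩ := eich_fixed H hb0 hb hbk hk hx
  obtain ⟨b', hb', hbb⟩ := exists_pair H hb0 hb
  -- move the vector into the perpendicular
  set k' := k - g k b' • b with hk'
  have e1 : g k' b = 0 := by rw [hk', H.sub_left, H.smul_left, hb, H.symm0 hbk, mul_zero, sub_zero]
  have e2 : g k' b' = 0 := by rw [hk', H.sub_left, H.smul_left, hbb, mul_one, sub_self]
  have e3 : g k' k' ≠ 0 := by
    simp only [hk', H.sub_left, H.sub_right, H.smul_left, H.smul_right, hb, hbk, H.symm0 hbk]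
    simpa using hk
  refine Submodule.mem_span_singleton.2 ⟨g x b', (sub_eq_zero.1 (pair_third H hι hb hb' hbb e1 e2 e3
    (x := x - g x b' • b) ?_ ?_ ?_)).symm⟩
  · rw [H.sub_left, H.smul_left, hxb, hb, mul_zero, sub_zero]
  · rw [H.sub_left, H.smul_left, hbb, mul_one, sub_self]
  · rw [hk', H.sub_left, H.sub_right, H.smul_left, H.smul_right, H.sub_right, H.smul_right, hxk, hxb,
      hbk, hb]
    ring

/-- A unipotent isometry keeping an anisotropic line is one. -/
theorem unip_of_fix {M : (ι → F) →ₗ[F] (ι → F)} (hi : ∀ x y, g (M x) (M y) = g x y)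
    (hn : IsNilpotent ((M : Module.End F (ι → F)) - 1)) {a : ι → F} (ha : g a a ≠ 0)
    (hMa : M a ∈ F ∙ a) : M = LinearMap.id := by
  by_contra h1
  obtain ⟨b, k, hb0, hb, hbk, hk, rfl⟩ := unip_eq_eich H hι hi hn h1
  obtain ⟨t, ht⟩ := Submodule.mem_span_singleton.1 hMa
  have hfix : eich H b k a = a := by
    obtain ⟨n, hn⟩ := hn
    have : ∀ j, (((eich H b k : Module.End F (ι → F)) - 1) ^ j) a = (t - 1) ^ j • a := fun j => by
      induction j with
      | zero => simp
      | succ j ih =>
        rw [pow_succ', Module.End.mul_apply, ih, map_smul, LinearMap.sub_apply, Module.End.one_apply,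
          ← ht, pow_succ]
        module
    have h := this n
    rw [hn, LinearMap.zero_apply, eq_comm, smul_eq_zero, or_iff_left (H.ne_zero ha)] at h
    rw [← ht, sub_eq_zero.1 (eq_zero_of_pow_eq_zero h), one_smul]
  obtain ⟨r, rfl⟩ := Submodule.mem_span_singleton.1 (eich_fixed_mem H hι hb0 hb hbk hk hfix)
  rw [H.smul_left, H.smul_right, hb, mul_zero, mul_zero] at ha
  exact ha rfl

end CfsgLib.MaxSub.TensorOO
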