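/-
Two three dimensional factors, without elements of rank two: elements keeping a space of pure tensors on
an anisotropic vector respect the decomposition.
-/
import Cfsg.Agent.Lib.MaxSub.TensorOO.ThreeSpace
import Cfsg.Agent.Lib.HallHigmanB.Main
import Mathlib.FieldTheory.IsAlgClosed.AlgebraicClosure

set_option autoImplicit false
set_option maxHeartbeats 1000000
set_option linter.unusedSectionVars false

namespace CfsgLib.MaxSub.TensorOO

open Matrix Module
open CfsgLib.MaxSub.TensorSympOrth (SForm ext_pure vmv_smul vmv_sub sub_vmv vmv_neg neg_vmv vmv_ne_zero)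
open CfsgLib.MaxSub.TensorLin (Col colMap colMap_apply mem_col vmv_eq_zero vmv_zero vm exists_dot_one
  colMap_injective finrank_col)

variable {F : Type*} [Field F] {ι : Type*} [Fintype ι] [DecidableEq ι]

local notation "MV" => Matrix ι ι F

variable {f1 : (ι → F) → (ι → F) → F}
  {f : Matrix ι ι F → Matrix ι ι F → F} {G : Subgroup (Matrix ι ι F ≃ₗ[F] Matrix ι ι F)}

variable (O : OO f1 f1 f G)
include O

variable [Finite F]

/-- An element conjugating a root element to a root element respects the decomposition. -/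
theorem pure_of_eich_eq (hN : NoRoot O) {b k η θ : ι → F} (hb0 : b ≠ 0) (hb : f1 b b = 0)
    (hbk : f1 b k = 0) (hk : f1 k k ≠ 0) (hη : f1 η η = 0) (hηθ : f1 η θ = 0) {E v : MV ≃ₗ[F] MV}
    (hE : ∀ c x, E (vecMulVec c x) = vecMulVec c (eich O.h2 b k x))
    (hv : ∀ c x, v (vecMulVec c x) = vecMulVec c (eich O.h2 η θ x)) {g : MV ≃ₗ[F] MV} (hg : g ∈ G)
    (hc : g * E * g⁻¹ = v) : Pure g := by
  obtain ⟨b', hb', hbb⟩ := exists_pair O.h2 hb0 hb
  have hN0 : ∀ {η θ : ι → F} (u : ι → F), ((eich O.h2 η θ : Module.End F (ι → F)) - 1) u =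
      f1 u η • θ - f1 u θ • η - (f1 θ θ / 2 * f1 u η) • η := fun u => by
    rw [LinearMap.sub_apply, Module.End.one_apply, eich_apply, add_sub_cancel_left]
  have hNsq : ∀ {η θ : ι → F}, f1 η η = 0 → f1 η θ = 0 → ∀ u : ι → F,
      (((eich O.h2 η θ : Module.End F (ι → F)) - 1) ^ 2 : Module.End F (ι → F)) u = (-(f1 θ θ * f1 u η)) • η := fun h h' u => by
    rw [pow_two, Module.End.mul_apply, hN0, hN0]
    simp only [O.h2.sub_left, O.h2.smul_left, h, h', O.h2.symm0 h']
    match_scalars <;> ring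
  have hrow : ∀ c i, g (vecMulVec c b) i ∈ F ∙ η := by
    intro c i
    have h1 : g (vecMulVec c b) = ((dsp v) ^ 2) ((-f1 k k)⁻¹ • g (vecMulVec c b')) := by
      rw [map_smul, ← hc, dsp_conj_pow, g.symm_apply_apply, dsp_right_pow hE, hNsq hb hbk,
        O.h2.symm b b', hbb, mul_one, vmv_smul, map_smul, smul_smul,
        inv_mul_cancel₀ (neg_ne_zero.2 hk), one_smul]
    rw [h1]
    refine range_right_le (N := ((eich O.h2 η θ : Module.End F (ι → F)) - 1) ^ 2)
      (fun c x => dsp_right_pow hv 2 c x) (fun u => ?_) _ i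
    rw [hNsq hη hηθ]
    exact Submodule.smul_mem _ _ (Submodule.mem_span_singleton_self η)
  refine pure_of_col O hN hb0 hb hg (e₁ := η) fun c => ?_
  choose t ht using fun i => Submodule.mem_span_singleton.1 (hrow c i)
  refine mem_col.2 ⟨t, ?_⟩
  ext i j
  rw [vecMulVec_apply, ← ht i]
  rfl

/-- Pure unipotent isometries are tensor products of unipotent isometries. -/
theorem pure_unip_factors {x : MV ≃ₗ[F] MV} (hi : ∀ X Y, f (x X) (x Y) = f X Y) (hp : Pure x)
    (hu : Unip x) :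
    ∃ L M : (ι → F) →ₗ[F] (ι → F), (∀ c d, f1 (L c) (L d) = f1 c d) ∧
      (∀ u v, f1 (M u) (M v) = f1 u v) ∧ IsNilpotent ((L : Module.End F (ι → F)) - 1) ∧
      IsNilpotent ((M : Module.End F (ι → F)) - 1) ∧
      ∀ c u, x (vecMulVec c u) = vecMulVec (L c) (M u) := by
  obtain ⟨L, M, hx⟩ := hp
  obtain ⟨p, hp'⟩ := CharP.exists F
  have : Fact p.Prime := ⟨CharP.char_is_prime F p⟩
  haveI := nonempty_ι O
  obtain ⟨c₀, hc₀⟩ := exists_ne (0 : ι → F)
  haveI : Nontrivial MV := ⟨⟨vecMulVec c₀ c₀, 0, vmv_ne_zero hc₀ hc₀⟩⟩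
  obtain ⟨k, hk⟩ := pow_eq_one_of_nil p hu
  set N := p ^ k with hN
  have hinj : Function.Injective fun t : F => t ^ N := fun a b hab => by
    have h : (a - b) ^ N = 0 := by rw [hN, sub_pow_char_pow, sub_eq_zero]; exact hab
    exact sub_eq_zero.1 (eq_zero_of_pow_eq_zero h)
  have hpow : ∀ j c u, ((x.toLinearMap : Module.End F MV) ^ j) (vecMulVec c u) =
      vecMulVec (((L : Module.End F (ι → F)) ^ j) c) (((M : Module.End F (ι → F)) ^ j) u) := by
    intro j
    induction j with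
    | zero => intro c u; simp
    | succ j ih =>
      intro c u
      rw [pow_succ', pow_succ', pow_succ', Module.End.mul_apply, ih]
      exact hx _ _
  have hN1 : ∀ c u, vecMulVec (((L : Module.End F (ι → F)) ^ N) c)
      (((M : Module.End F (ι → F)) ^ N) u) = vecMulVec c u := fun c u => by
    rw [← hpow, hk, Module.End.one_apply]
  obtain ⟨ν, hν⟩ := exists_dot_one hc₀
  set s := ((M : Module.End F (ι → F)) ^ N) c₀ ⬝ᵥ ν with hs
  have hLN : ∀ c, s • ((L : Module.End F (ι → F)) ^ N) c = c := fun c => by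
    have := congrArg (fun X : MV => X *ᵥ ν) (hN1 c c₀)
    simp only [vm, hν, one_smul] at this
    exact this
  have hs0 : s ≠ 0 := fun e => hc₀ (by rw [← hLN c₀, e, zero_smul])
  obtain ⟨t, ht⟩ := (Finite.injective_iff_surjective.1 hinj) s
  have ht' : t ^ N = s := ht
  have ht0 : t ≠ 0 := fun e => hs0 (by
    rw [← ht', e, zero_pow (by rw [hN]; exact (pow_pos (Fact.out : p.Prime).pos k).ne')])
  let L' : Module.End F (ι → F) := t • L
  let M' : Module.End F (ι → F) := t⁻¹ • M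
  have hx' : ∀ c u, x (vecMulVec c u) = vecMulVec (L' c) (M' u) := fun c u => by
    show _ = vecMulVec (t • L c) (t⁻¹ • M u)
    rw [smul_vecMulVec, vmv_smul, smul_smul, mul_inv_cancel₀ ht0, one_smul, hx]
  have hL' : L' ^ N = 1 := LinearMap.ext fun c => by
    show ((t • (L : Module.End F (ι → F))) ^ N) c = c
    rw [smul_pow, LinearMap.smul_apply, ht', hLN]
  have hM' : M' ^ N = 1 := LinearMap.ext fun u => by
    show ((t⁻¹ • (M : Module.End F (ι → F))) ^ N) u = u
    rw [smul_pow, LinearMap.smul_apply, inv_pow, ht', inv_smul_eq_iff₀ hs0]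
    obtain ⟨η, hη⟩ := exists_dot_one hc₀
    have := congrArg (fun X : MV => η ᵥ* X) (hN1 c₀ u)
    simp only [vecMul_vecMulVec] at this
    rw [dotProduct_comm η c₀, hη] at this
    have h2 : η ⬝ᵥ ((L : Module.End F (ι → F)) ^ N) c₀ = s⁻¹ := by
      have h3 := congrArg (fun c => η ⬝ᵥ c) (hLN c₀)
      simp only [dotProduct_smul, smul_eq_mul] at h3
      rw [dotProduct_comm η c₀, hη] at h3
      exact eq_inv_of_mul_eq_one_right h3
    rw [h2, one_smul, inv_smul_eq_iff₀ hs0] at this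
    exact this
  have nL : IsNilpotent (L' - 1) := nil_of_pow_eq_one p hL'
  have nM : IsNilpotent (M' - 1) := nil_of_pow_eq_one p hM'
  have hiso : ∀ c d u v, f1 (L' c) (L' d) * f1 (M' u) (M' v) = f1 c d * f1 u v := fun c d u v => by
    rw [← O.f_pure, ← O.f_pure, ← hx', ← hx', hi]
  obtain ⟨u₀, hu₀⟩ := O.h2.exists_left hc₀
  set m := f1 (M' u₀) (M' c₀) with hm
  have hLm : ∀ c d, f1 (L' c) (L' d) * m = f1 c d := fun c d => by
    rw [hm, hiso, hu₀, mul_one]
  have hm0 : m ≠ 0 := fun e => one_ne_zero (α := F) (by rw [← hu₀, ← hLm, e, mul_zero])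
  have hm1 : m = 1 := by
    have hit : ∀ j c d, f1 ((L' ^ j) c) ((L' ^ j) d) * m ^ j = f1 c d := by
      intro j
      induction j with
      | zero => intro c d; simp
      | succ j ih =>
        intro c d
        rw [pow_succ, Module.End.mul_apply, Module.End.mul_apply, pow_succ, ← mul_assoc, ih, hLm]
    have := hit N u₀ c₀
    rw [hL', Module.End.one_apply, Module.End.one_apply, hu₀, one_mul] at this
    exact hinj (this.trans (one_pow N).symm)
  have hLi : ∀ c d, f1 (L' c) (L' d) = f1 c d := fun c d => by rw [← hLm c d, hm1, mul_one]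
  refine ⟨L', M', hLi, fun u v => ?_, nL, nM, hx'⟩
  have := hiso u₀ c₀ u v
  rwa [hLi, hu₀, one_mul, one_mul] at this

/-- A pure unipotent isometry keeping a space of pure tensors acts on the second factor. -/
theorem pure_unip_block (hι : Fintype.card ι = 3) {x : MV ≃ₗ[F] MV}
    (hi : ∀ X Y, f (x X) (x Y) = f X Y) (hp : Pure x) (hu : Unip x) {a : ι → F} (ha : f1 a a ≠ 0)
    (hxa : ∀ u, ∃ y, x (vecMulVec a u) = vecMulVec a y) :
    ∃ M : (ι → F) →ₗ[F] (ι → F), (∀ u v, f1 (M u) (M v) = f1 u v) ∧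
      IsNilpotent ((M : Module.End F (ι → F)) - 1) ∧ ∀ c u, x (vecMulVec c u) = vecMulVec c (M u) := by
  obtain ⟨L, M, hLi, hMi, hLn, hMn, hx⟩ := pure_unip_factors O hi hp hu
  obtain ⟨u₀, hu₀⟩ : ∃ u, M u ≠ 0 := by
    haveI := nonempty_ι O
    obtain ⟨c₀, hc₀⟩ := exists_ne (0 : ι → F)
    obtain ⟨y, hy⟩ := O.h2.exists_left hc₀
    exact ⟨c₀, fun e => one_ne_zero (α := F) (by rw [← hy, ← hMi, e, O.h2.zero_right])⟩
  obtain ⟨y, hy⟩ := hxa u₀
  obtain ⟨ν, hν⟩ := exists_dot_one hu₀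
  have hLa : L a ∈ F ∙ a := by
    rw [hx] at hy
    have h := congrArg (fun X : MV => X *ᵥ ν) hy
    simp only [vm, hν, one_smul] at h
    rw [h]
    exact Submodule.smul_mem _ _ (Submodule.mem_span_singleton_self a)
  obtain rfl := unip_of_fix O.h1 hι hLi hLn ha hLa
  exact ⟨M, hMi, hMn, hx⟩

omit [Finite F] in
/-- An element on the second factor is determined by one space of pure tensors. -/
theorem right_ext {a : ι → F} (ha : f1 a a ≠ 0) {M M' : (ι → F) →ₗ[F] (ι → F)}
    (h : ∀ u, vecMulVec a (M u) = vecMulVec a (M' u)) : M = M' := LinearMap.ext fun u => by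
  have e := congrArg (cw O a) (h u)
  rw [cw_pure, cw_pure] at e
  exact smul_right_injective (ι → F) ha e

omit [Finite F] in
theorem right_equiv_ext {v w : MV ≃ₗ[F] MV} {M : (ι → F) →ₗ[F] (ι → F)}
    (hv : ∀ c x, v (vecMulVec c x) = vecMulVec c (M x))
    (hw : ∀ c x, w (vecMulVec c x) = vecMulVec c (M x)) : v = w :=
  LinearEquiv.ext fun X =>
    ext_pure (A := v.toLinearMap) (B := w.toLinearMap) (fun c x => (hv c x).trans (hw c x).symm) X

/-- The elements fixing a space of pure tensors pointwise are pure. -/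
theorem fixer_pure_three (hN : NoRoot O) (hι : Fintype.card ι = 3) {a : ι → F} (ha : f1 a a ≠ 0)
    {g : MV ≃ₗ[F] MV} (hg : g ∈ fixer (G := G) a) : Pure g := by
  classical
  obtain ⟨p, hp'⟩ := CharP.exists F
  haveI : Fact p.Prime := ⟨CharP.char_is_prime F p⟩
  haveI : Finite (MV ≃ₗ[F] MV) :=
    Finite.of_injective (fun g : MV ≃ₗ[F] MV => (g : MV → MV)) DFunLike.coe_injective
  have hq5 : 5 ≤ Nat.card F := (O.b4.resolve_left (by omega)).2.1
  obtain ⟨b, hb0, hb⟩ := O.h2.exists_iso (hdb O)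
  obtain ⟨b', hb', hbb⟩ := exists_pair O.h2 hb0 hb
  set K := pairPerp O.h2 b b' with hKdef
  have hK : ∀ k ∈ K, f1 b k = 0 := fun k hk => O.h2.symm0 ((mem_pairPerp O.h2).1 hk).1
  have hKn : ∀ k : K, k ≠ 0 → f1 (k : ι → F) k ≠ 0 := fun k hk0 hkk => by
    obtain ⟨k₀, hk₀, hk₀n⟩ := exists_aniso_pairPerp O.h2 (hdb O) hb hb' hbb
    obtain ⟨hkb, hkb'⟩ := (mem_pairPerp O.h2).1 k.2
    obtain ⟨h1, h2⟩ := (mem_pairPerp O.h2).1 hk₀
    set t := f1 (k : ι → F) k₀ / f1 k₀ k₀
    have e : (k : ι → F) = t • k₀ := sub_eq_zero.1 (pair_third O.h2 hι hb hb' hbb h1 h2 hk₀n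
      (by rw [O.h2.sub_left, O.h2.smul_left, hkb, h1, mul_zero, sub_zero])
      (by rw [O.h2.sub_left, O.h2.smul_left, hkb', h2, mul_zero, sub_zero])
      (by rw [O.h2.sub_left, O.h2.smul_left, div_mul_cancel₀ _ hk₀n, sub_self]))
    rw [e, O.h2.smul_left, O.h2.smul_right] at hkk
    have ht : t = 0 := mul_self_eq_zero.1
      ((mul_eq_zero.1 (show t * t * f1 k₀ k₀ = 0 by linear_combination hkk)).resolve_right hk₀n)
    exact hk0 (Subtype.ext (by rw [e, ht, zero_smul]; rfl))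
  set U := rootGrp O hb hbb with hU
  set N := fixer (G := G) a with hNd
  obtain ⟨c₀, hc₀, -⟩ := O.h1.exists_iso (hda O)
  haveI : Nontrivial MV := ⟨⟨vecMulVec c₀ b, 0, vmv_ne_zero hc₀ hb0⟩⟩
  have hUG : U ≤ G := by
    rintro g ⟨k, hk, hgX⟩
    obtain ⟨-, u, hu, huX⟩ := inr_eich O hb (hK k hk)
    rwa [right_equiv_ext O hgX huX]
  have hUexp : ∀ E ∈ U, E ^ p = 1 := by
    rintro E ⟨k, hk, hE⟩
    have hj : ∀ (j : ℕ) c x, (E ^ j) (vecMulVec c x) = vecMulVec c (eich O.h2 b ((j : F) • k) x) := by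
      intro j
      induction j with
      | zero => intro c x; rw [Nat.cast_zero, zero_smul, eich_zero]; rfl
      | succ j ih =>
        intro c x
        rw [pow_succ, LinearEquiv.mul_apply, hE, ih, eich_mul O.h2 hb
          (by rw [O.h2.smul_right, hK k hk, mul_zero]) (hK k hk), Nat.cast_succ, add_smul, one_smul]
    refine LinearEquiv.ext fun X => ext_pure (A := (E ^ p).toLinearMap) (B := LinearMap.id)
      (fun c x => ?_) X
    rw [LinearEquiv.coe_coe, hj, CharP.cast_eq_zero, zero_smul, eich_zero]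
    rfl
  haveI : IsMulCommutative U := ⟨⟨fun ⟨E, k, hk, hE⟩ ⟨E', k', hk', hE'⟩ => Subtype.ext
    (LinearEquiv.ext fun X => ext_pure (A := (E * E').toLinearMap) (B := (E' * E).toLinearMap)
      (fun c x => by
        show E (E' _) = E' (E _)
        rw [hE', hE, hE, hE', eich_mul O.h2 hb (hK k hk) (hK k' hk'),
          eich_mul O.h2 hb (hK k' hk') (hK k hk), add_comm]) X)⟩⟩
  have hUmem : ∀ k : K, ∃ E : U, ∀ c x,
      (E : MV ≃ₗ[F] MV) (vecMulVec c x) = vecMulVec c (eich O.h2 b (k : ι → F) x) := fun k => by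
    obtain ⟨-, u, -, huX⟩ := inr_eich O hb (hK k k.2)
    exact ⟨⟨u, k, k.2, huX⟩, huX⟩
  choose Ef hEf using hUmem
  have hEinj : Function.Injective Ef := fun k l hkl => Subtype.ext <| by
    have h1 := hEf k a b'
    rw [hkl, hEf l] at h1
    have h2 := congrArg (cw O a) h1
    rw [cw_pure, cw_pure] at h2
    have h2' := smul_right_injective (ι → F) ha h2
    have h3 : ∀ k : K, eich O.h2 b (k : ι → F) b' =
        b' + (k : ι → F) - (f1 (k : ι → F) k / 2) • b := fun k => by
      rw [eich_apply, O.h2.symm b b', hbb, O.h2.symm0 ((mem_pairPerp O.h2).1 k.2).2, mul_one, one_smul,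
        zero_smul, sub_zero]
      abel
    rw [h3, h3] at h2'
    have h4 := congrArg (fun z => z - f1 z b' • b - f1 z b • b') h2'
    obtain ⟨hl1, hl2⟩ := (mem_pairPerp O.h2).1 l.2
    obtain ⟨hk1, hk2⟩ := (mem_pairPerp O.h2).1 k.2
    simp only [O.h2.sub_left, O.h2.add_left, O.h2.smul_left, hl1, hl2, hk1, hk2, hbb, hb,
      O.h2.symm b b', hb'] at h4
    linear_combination (norm := module) -h4
  have hUk : ∀ E ∈ U, E ≠ 1 → ∃ k : K, k ≠ 0 ∧
      ∀ c x, E (vecMulVec c x) = vecMulVec c (eich O.h2 b (k : ι → F) x) := by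
    rintro E ⟨k, hk, hE⟩ hE1
    refine ⟨⟨k, hk⟩, fun e0 => hE1 (LinearEquiv.ext fun X =>
      ext_pure (A := E.toLinearMap) (B := LinearMap.id) (fun c x => ?_) X), hE⟩
    have e1 : k = 0 := congrArg Subtype.val e0
    rw [LinearEquiv.coe_coe, hE, e1, eich_zero]
    rfl
  have hnorm : ∀ E ∈ U, ∀ n ∈ N, E * n * E⁻¹ ∈ N := by
    rintro E hE n ⟨hnG, hnx⟩
    obtain ⟨k, hk, hEX⟩ := hE
    have hEG := hUG (show E ∈ U from ⟨k, hk, hEX⟩)
    refine ⟨mul_mem (mul_mem hEG hnG) (inv_mem hEG), fun x => ?_⟩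
    obtain ⟨k', hk', hEX'⟩ := U.inv_mem (show E ∈ U from ⟨k, hk, hEX⟩)
    show E (n (E⁻¹ (vecMulVec a x))) = _
    rw [hEX', hnx, ← hEX']
    exact E.apply_symm_apply _
  have hUN : U ≤ Subgroup.normalizer (N : Set (MV ≃ₗ[F] MV)) := fun E hE => by
    refine Subgroup.mem_normalizer_iff.2 fun n => ⟨fun hn => hnorm E hE n hn, fun hn => ?_⟩
    have := hnorm _ (U.inv_mem hE) _ hn
    rwa [inv_inv, show E⁻¹ * (E * n * E⁻¹) * E = n by group] at this
  have hcentral : ∀ n ∈ N, ∀ E ∈ U, E ≠ 1 → n * E = E * n → Pure n := by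
    intro n hn E hE hE1 hcomm
    obtain ⟨k, hk0, hEX⟩ := hUk E hE hE1
    exact pure_of_eich_eq O hN hb0 hb (hK k k.2) (hKn k hk0) hb (hK k k.2) hEX hEX hn.1
      (by rw [hcomm, mul_inv_cancel_right])
  have hUp : IsPGroup p U := fun E => ⟨1, by rw [pow_one]; exact Subtype.ext (hUexp E E.2)⟩
  obtain ⟨k₁, hk₁0⟩ : ∃ k : K, k ≠ 0 := by
    haveI : Nontrivial K := Module.nontrivial_of_finrank_pos (R := F) (by
      have hd : finrank F (ι → F) ≤ finrank F K + 2 := pairPerp_dim O.h2 b b'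
      have := hdb O
      omega)
    exact exists_ne 0
  have hE₁1 : ((Ef k₁ : U) : MV ≃ₗ[F] MV) ≠ 1 := fun e1 => hk₁0 (hEinj (Subtype.ext (by
    rw [e1]
    exact LinearEquiv.ext fun X => (ext_pure (A := ((Ef 0 : U) : MV ≃ₗ[F] MV).toLinearMap)
      (B := LinearMap.id) (fun c x => by
        rw [LinearEquiv.coe_coe, hEf, Submodule.coe_zero, eich_zero]; rfl) X).symm)))
  have hpN : ¬ p ∣ Nat.card N := by
    intro hdvd
    set S := U ⊔ N
    obtain ⟨P, hP⟩ := (hUp.of_equiv (Subgroup.subgroupOfEquivOfLe (le_sup_left : U ≤ S)).symm).exists_le_sylow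
    set N' := N.subgroupOf S
    haveI : N'.Normal := by
      refine Subgroup.normal_subgroupOf_of_le_normalizer ?_
      exact sup_le hUN Subgroup.le_normalizer
    have hnb : (P : Subgroup S) ⊓ N' ≠ ⊥ := by
      intro hbot
      have hinj : Function.Injective ((QuotientGroup.mk' N').comp (P : Subgroup S).subtype) :=
        (injective_iff_map_eq_one _).2 fun x hx => Subtype.ext (by
          have hm : (x : S) ∈ (P : Subgroup S) ⊓ N' := ⟨x.2, (QuotientGroup.eq_one_iff _).1 hx⟩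
          rw [hbot, Subgroup.mem_bot] at hm
          exact hm)
      have h1 : Nat.card (P : Subgroup S) ∣ Nat.card (S ⧸ N') :=
        Subgroup.card_dvd_of_injective _ hinj
      have h2 : p * Nat.card (P : Subgroup S) ∣ Nat.card S := by
        rw [Subgroup.card_eq_card_quotient_mul_card_subgroup N', mul_comm p]
        refine mul_dvd_mul h1 ?_
        rwa [Nat.card_congr (Subgroup.subgroupOfEquivOfLe (le_sup_right : N ≤ S)).toEquiv]
      rw [← Subgroup.card_mul_index (P : Subgroup S), mul_comm p,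
        Nat.mul_dvd_mul_iff_left Nat.card_pos] at h2
      exact P.not_dvd_index h2
    set D := ((P : Subgroup S) ⊓ N')
    let act : MulAction U D :=
      { smul := fun E d => ⟨(⟨(E : MV ≃ₗ[F] MV), le_sup_left (b := N) E.2⟩ : S) * (d : S) *
            (⟨(E : MV ≃ₗ[F] MV), le_sup_left (b := N) E.2⟩ : S)⁻¹,
          Subgroup.mem_inf.2 ⟨mul_mem (mul_mem (hP E.2) (Subgroup.mem_inf.1 d.2).1)
            (inv_mem (hP E.2)),
          Subgroup.Normal.conj_mem inferInstance _ (Subgroup.mem_inf.1 d.2).2 _⟩⟩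
        one_smul := fun d => Subtype.ext (Subtype.ext (by
          show (1 : MV ≃ₗ[F] MV) * _ * (1 : MV ≃ₗ[F] MV)⁻¹ = _
          rw [one_mul, inv_one, mul_one]))
        mul_smul := fun E E' d => Subtype.ext (Subtype.ext (by
          show (E : MV ≃ₗ[F] MV) * E' * ((d : S) : MV ≃ₗ[F] MV) * ((E : MV ≃ₗ[F] MV) * E')⁻¹ =
            (E : MV ≃ₗ[F] MV) * ((E' : MV ≃ₗ[F] MV) * ((d : S) : MV ≃ₗ[F] MV) *
              (E' : MV ≃ₗ[F] MV)⁻¹) * (E : MV ≃ₗ[F] MV)⁻¹
          group)) }
    have hDp : IsPGroup p D := P.isPGroup'.to_le inf_le_left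
    have hDd : p ∣ Nat.card D := by
      haveI : Nontrivial D := (Subgroup.nontrivial_iff_ne_bot D).2 hnb
      obtain ⟨n, hn, hcard⟩ := hDp.nontrivial_iff_card.1 inferInstance
      exact hcard ▸ dvd_pow_self p hn.ne'
    have h1fix : (1 : D) ∈ MulAction.fixedPoints U D := fun E => Subtype.ext (Subtype.ext (by
      show (E : MV ≃ₗ[F] MV) * 1 * (E : MV ≃ₗ[F] MV)⁻¹ = 1
      rw [mul_one, mul_inv_cancel]))
    obtain ⟨d, hd, hd1⟩ := hUp.exists_fixed_point_of_prime_dvd_card_of_fixed_point D hDd h1fix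
    set z : MV ≃ₗ[F] MV := ((d : S) : MV ≃ₗ[F] MV) with hz
    have hzN : z ∈ N := d.2.2
    have hz1 : z ≠ 1 := fun e => hd1 (Subtype.ext (Subtype.ext e.symm))
    have hzc : ∀ E ∈ U, z * E = E * z := fun E hE => by
      have := congrArg (fun d : D => ((d : S) : MV ≃ₗ[F] MV)) (hd ⟨E, hE⟩)
      change E * z * E⁻¹ = z at this
      exact (mul_inv_eq_iff_eq_mul.1 this).symm
    obtain ⟨j, hj⟩ := hDp d
    have hzk : z ^ p ^ j = 1 := by
      have := congrArg (fun d : D => ((d : S) : MV ≃ₗ[F] MV)) hj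
      simpa using this
    have hzp := hcentral z hzN _ (Ef k₁).2 hE₁1 (hzc _ (Ef k₁).2)
    have hzu : Unip z := nil_of_pow_eq_one p (k := j) (by rw [← toLinearMap_pow, hzk]; rfl)
    obtain ⟨M, -, -, hzX⟩ := pure_unip_block O hι (O.isom z hzN.1) hzp hzu ha
      (fun u => ⟨u, hzN.2 u⟩)
    have hM : M = LinearMap.id := right_ext O ha fun u => by rw [← hzX, hzN.2]; rfl
    exact hz1 (right_equiv_ext O hzX (fun c x => by rw [hM]; rfl))
  have hcop : (Nat.card U).Coprime (Nat.card N) := by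
    obtain ⟨n, hn⟩ := (IsPGroup.iff_card.1 hUp)
    rw [hn]
    exact Nat.Coprime.pow_left n (((Fact.out : p.Prime).coprime_iff_not_dvd).2 hpN)
  by_cases hUcyc : IsCyclic U
  · -- a field of prime order: the theorem of Hall and Higman
    obtain ⟨E₀, hE₀⟩ := hUcyc.exists_generator
    have hcU : Nat.card U ∣ p := by
      rw [← orderOf_eq_card_of_forall_mem_zpowers hE₀]
      exact orderOf_dvd_of_pow_eq_one (Subtype.ext (hUexp E₀ E₀.2))
    have hp5 : 5 ≤ p := by
      have h2 := Nat.card_le_card_of_injective Ef hEinj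
      rw [Module.natCard_eq_pow_finrank (K := F) (V := K)] at h2
      have hd : finrank F (ι → F) ≤ finrank F K + 2 := pairPerp_dim O.h2 b b'
      have := hdb O
      have h3 := Nat.le_of_dvd (Fact.out : p.Prime).pos hcU
      have h4 : Nat.card F ≤ Nat.card F ^ finrank F K := Nat.le_self_pow (by omega) _
      omega
    set E : MV ≃ₗ[F] MV := ((Ef k₁ : U) : MV ≃ₗ[F] MV) with hEdef
    have hEU : E ∈ U := (Ef k₁).2
    have hEo : orderOf E = p ^ 1 := by rw [pow_one]; exact orderOf_eq_prime (hUexp E hEU) hE₁1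
    have hEnil : ((E.toLinearMap : Module.End F MV) - 1) ^ 3 = 0 := LinearMap.ext fun X =>
      ext_pure (A := (dsp E) ^ 3) (B := 0) (fun c x => by
        rw [dsp_right_pow (hEf k₁), eich_cube O.h2 hb (hK k₁ k₁.2), LinearMap.zero_apply, vmv_zero,
          LinearMap.zero_apply]) X
    let Kc := AlgebraicClosure F
    haveI : CharP Kc p := charP_of_injective_algebraMap (algebraMap F Kc).injective p
    let T : (MV ≃ₗ[F] MV) →* Module.End F MV :=
      { toFun := fun g => g.toLinearMap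
        map_one' := rfl
        map_mul' := fun _ _ => rfl }
    let ρ : (MV ≃ₗ[F] MV) →* Module.End Kc (TensorProduct F Kc MV) :=
      (Module.End.baseChangeHom F Kc MV).toMonoidHom.comp T
    have hρ : Function.Injective ρ :=
      (LinearMap.baseChangeHom_injective F MV Kc).comp fun g h e => LinearEquiv.toLinearMap_injective e
    have hρE : (ρ E - 1) ^ 3 = 0 := by
      have := congrArg (Module.End.baseChangeHom F Kc MV) hEnil
      rw [map_pow, map_sub, map_one, map_zero] at this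
      exact this
    have hRc : ∀ (ℓ : ℕ) [Fact ℓ.Prime], ∃ R : Sylow ℓ N,
        ∀ x ∈ (R : Subgroup N).map N.subtype, x * E = E * x := by
      intro ℓ _
      obtain ⟨R, hR⟩ := CfsgLib.coprime_exists_invariant_sylow hUN hcop
        (Or.inl inferInstance) ℓ
      refine ⟨R, ?_⟩
      by_cases hℓ : ℓ = p
      · subst hℓ
        intro x hx
        obtain ⟨r, hr, rfl⟩ := hx
        obtain ⟨i, hi⟩ := R.isPGroup' ⟨r, hr⟩
        have h1 : r ^ ℓ ^ i = 1 := congrArg Subtype.val hi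
        have h2 : orderOf r = 1 := Nat.eq_one_of_dvd_coprimes
          (Nat.Coprime.pow_left i (((Fact.out : ℓ.Prime).coprime_iff_not_dvd).2 hpN))
          (orderOf_dvd_of_pow_eq_one h1) (orderOf_dvd_natCard r)
        rw [orderOf_eq_one_iff.1 h2, map_one, one_mul, mul_one]
      · by_contra hc
        have hQ : IsPGroup ℓ ((R : Subgroup N).map N.subtype : Subgroup (MV ≃ₗ[F] MV)) :=
          R.isPGroup'.map _
        rcases CfsgLib.HallHigmanB.bound_of_invariant (K := Kc) (Ne.symm hℓ) ρ hρ _ hQ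
          (hR hEU) le_rfl hEo (by
            rw [Nat.sub_self, pow_zero, pow_one]
            exact fun hm => hc fun x hx => Subgroup.mem_centralizer_iff.1 hm x hx) 3 hρE with h | h
        · rw [pow_one] at h
          omega
        · obtain ⟨-, i, m, hi, hm, he, hle, -⟩ := h
          obtain rfl : i = 0 := by omega
          rw [pow_zero, one_mul] at hle
          rw [Nat.sub_zero, pow_one] at he
          omega
    let C := (Subgroup.centralizer ({E} : Set (MV ≃ₗ[F] MV))).subgroupOf N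
    have hdvdC : Nat.card N ∣ Nat.card C := by
      rw [← Nat.factorization_prime_le_iff_dvd Nat.card_pos.ne' Nat.card_pos.ne']
      intro ℓ hℓ
      haveI : Fact ℓ.Prime := ⟨hℓ⟩
      obtain ⟨R, hR⟩ := hRc ℓ
      have hle : (R : Subgroup N) ≤ C := fun r hr => Subgroup.mem_centralizer_singleton_iff.2
        (hR _ ⟨r, hr, rfl⟩)
      have h1 := Subgroup.card_dvd_of_le hle
      rw [R.card_eq_multiplicity] at h1
      exact (hℓ.pow_dvd_iff_le_factorization Nat.card_pos.ne').1 h1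
    have hC : C = ⊤ := Subgroup.eq_top_of_le_card C (Nat.le_of_dvd Nat.card_pos hdvdC)
    have hgC : (⟨g, hg⟩ : N) ∈ C := hC ▸ Subgroup.mem_top _
    exact hcentral g hg E hEU hE₁1 (Subgroup.mem_centralizer_singleton_iff.1 hgC)
  have hgen := CfsgLib.coprime_generated_by_centralizers hUcyc hUN hcop
  have hle : N ≤ pureSub O := by
    rw [← hgen]
    refine iSup₂_le fun E hE n hn => ?_
    exact hcentral n hn.1 E hE.1 hE.2 (Subgroup.mem_centralizer_singleton_iff.1 hn.2)
  exact hle hg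

/-- An element mapping one space of pure tensors on an anisotropic vector of the first factor onto
another is pure. -/
theorem pure_of_block_three (hN : NoRoot O) (hι : Fintype.card ι = 3) {a₁ a₂ : ι → F}
    (h₁ : f1 a₁ a₁ ≠ 0) (h₂ : f1 a₂ a₂ ≠ 0) {g : MV ≃ₗ[F] MV} (hg : g ∈ G)
    (hgM : ∀ x, ∃ y, g (vecMulVec a₁ x) = vecMulVec a₂ y) : Pure g := by
  let M : (ι → F) →ₗ[F] (ι → F) :=
    { toFun := fun x => (f1 a₂ a₂)⁻¹ • cw O a₂ (g (vecMulVec a₁ x))
      map_add' := fun x y => by rw [vecMulVec_add, map_add, map_add, smul_add]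
      map_smul' := fun t x => by rw [vmv_smul, map_smul, map_smul, smul_comm, RingHom.id_apply] }
  have hM : ∀ x, g (vecMulVec a₁ x) = vecMulVec a₂ (M x) := fun x => by
    obtain ⟨y, hy⟩ := hgM x
    show _ = vecMulVec a₂ ((f1 a₂ a₂)⁻¹ • cw O a₂ (g (vecMulVec a₁ x)))
    rw [hy, cw_pure, smul_smul, inv_mul_cancel₀ h₂, one_smul]
  set ν := f1 a₁ a₁ / f1 a₂ a₂ with hν
  have hν0 : ν ≠ 0 := div_ne_zero h₁ h₂
  have hMi : ∀ x y, f1 (M x) (M y) = ν * f1 x y := fun x y => by
    have := O.isom g hg (vecMulVec a₁ x) (vecMulVec a₁ y)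
    rw [hM, hM, O.f_pure, O.f_pure] at this
    rw [hν, div_mul_eq_mul_div, eq_div_iff h₂]
    linear_combination this
  obtain ⟨b, hb0, hb⟩ := O.h2.exists_iso (hdb O)
  obtain ⟨b', hb', hbb⟩ := exists_pair O.h2 hb0 hb
  obtain ⟨k, hk, hkk⟩ := exists_aniso_pairPerp O.h2 (hdb O) hb hb' hbb
  have hbk := O.h2.symm0 ((mem_pairPerp O.h2).1 hk).1
  obtain ⟨-, E, hEG, hE⟩ := inr_eich O hb hbk
  have hη : f1 (M b) (M b) = 0 := by rw [hMi, hb, mul_zero]
  have hθ : f1 (M b) (ν⁻¹ • M k) = 0 := by rw [O.h2.smul_right, hMi, hbk, mul_zero, mul_zero]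
  have heq : ∀ x, eich O.h2 (M b) (ν⁻¹ • M k) (M x) = M (eich O.h2 b k x) := fun x => by
    simp only [eich_apply, map_add, map_sub, map_smul, O.h2.smul_left, O.h2.smul_right, hMi]
    match_scalars <;> field_simp
  have hMinj : Function.Injective M := (injective_iff_map_eq_zero M).2 fun x hx =>
    O.h2.nondeg x fun y =>
      (mul_eq_zero.1 (by rw [← hMi, hx, O.h2.zero_left] : ν * f1 x y = 0)).resolve_left hν0
  have hMs : Function.Surjective M := LinearMap.injective_iff_surjective.1 hMinj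
  obtain ⟨-, v, hv, hvX⟩ := inr_eich O hη hθ
  set w := g * E * g⁻¹ with hw
  have hwG : w ∈ G := mul_mem (mul_mem hg hEG) (inv_mem hg)
  have hwblock : ∀ x, w (vecMulVec a₂ (M x)) = v (vecMulVec a₂ (M x)) := fun x => by
    show g (E (g.symm (vecMulVec a₂ (M x)))) = _
    rw [← hM, g.symm_apply_apply, hE, hM, hM x, hvX, heq]
  have hfix : v⁻¹ * w ∈ fixer (G := G) a₂ := by
    refine ⟨mul_mem (inv_mem hv) hwG, fun y => ?_⟩
    obtain ⟨x, rfl⟩ := hMs y
    show v.symm (w (vecMulVec a₂ (M x))) = _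
    rw [v.symm_apply_eq, hwblock]
  have hwp : Pure w := by
    rw [← mul_inv_cancel_left v w]
    exact Pure.mul ⟨LinearMap.id, eich O.h2 (M b) (ν⁻¹ • M k), hvX⟩
      (fixer_pure_three O hN hι h₂ hfix)
  obtain ⟨M', -, -, hwX⟩ := pure_unip_block O hι (O.isom w hwG) hwp
    ((unip_right O hE ⟨3, eich_cube O.h2 hb hbk⟩).conj g) h₂ fun u => by
      obtain ⟨x, rfl⟩ := hMs u
      exact ⟨_, (hwblock x).trans (hvX _ _)⟩
  have hM' : M' = eich O.h2 (M b) (ν⁻¹ • M k) := right_ext O h₂ fun u => by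
    obtain ⟨x, rfl⟩ := hMs u
    rw [← hwX, hwblock, hvX]
  exact pure_of_eich_eq O hN hb0 hb hbk hkk hη hθ hE hvX hg
    (right_equiv_ext O hwX (by rw [hM']; exact hvX))

/-- An element commuting with a half turn is pure. -/
theorem pure_of_comm_turn_three (hN : NoRoot O) (hι : Fintype.card ι = 3) {a : ι → F}
    (ha : f1 a a ≠ 0) {g : MV ≃ₗ[F] MV} (hg : g ∈ G)
    (hc : turn O.h1 ha * g = g * turn O.h1 ha) : Pure g :=
  pure_of_block_three O hN hι ha ha hg fun x => ⟨_, eq_of_turn O ha (by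
    have := LinearEquiv.congr_fun hc (vecMulVec a x)
    rwa [LinearEquiv.mul_apply, LinearEquiv.mul_apply, turn_self] at this)⟩

end CfsgLib.MaxSub.TensorOO
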