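/-
Two copies of a three dimensional orthogonal space: enough half turns and an element exchanging the
factors lie in the derived group.
-/
import Cfsg.Agent.Lib.MaxSub.TensorOO.ThreeSpace
import Cfsg.Agent.Lib.MaxSub.TensorOO.Turn

set_option autoImplicit false
set_option maxHeartbeats 1000000
set_option linter.unusedSectionVars false

namespace CfsgLib.MaxSub.TensorOO

open Matrix Module
open CfsgLib.MaxSub.TensorSympOrth (SForm ext_pure vmv_smul vmv_sub sub_vmv vmv_neg neg_vmv vmv_ne_zero)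
open CfsgLib.WittExtension (quadIso)
open CfsgLib.SpinorNorm (refl refl_apply refl_conj refl_mul_self)

variable {F : Type*} [Field F] {ι : Type*} [Fintype ι] [DecidableEq ι]

local notation "MV" => Matrix ι ι F

variable {f1 : (ι → F) → (ι → F) → F}

/-- Exchanging the factors, after a map on the first. -/
def swp (L : (ι → F) ≃ₗ[F] (ι → F)) : Matrix ι ι F ≃ₗ[F] Matrix ι ι F :=
  (te L (LinearEquiv.refl F _)).trans (Matrix.transposeLinearEquiv ι ι F F)

theorem swp_pure (L : (ι → F) ≃ₗ[F] (ι → F)) (c x : ι → F) :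
    swp L (vecMulVec c x) = vecMulVec x (L c) := by
  show (te L (LinearEquiv.refl F _) (vecMulVec c x))ᵀ = _
  rw [te_pure, Matrix.transpose_vecMulVec]
  rfl

/-- The reflection as an automorphism. -/
def reflE (H : SForm f1) {w : ι → F} (hw : f1 w w ≠ 0) : (ι → F) ≃ₗ[F] (ι → F) :=
  LinearEquiv.ofInvolutive (H.refl w) (H.refl_refl hw)

theorem reflE_apply (H : SForm f1) {w : ι → F} (hw : f1 w w ≠ 0) (c : ι → F) :
    reflE H hw c = H.refl w c := rfl

variable {f : Matrix ι ι F → Matrix ι ι F → F} (H1 : SForm f1)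
  (hι : Fintype.card ι = 3)

include H1 hι

/-- An anisotropic vector has a perpendicular vector of the same value. -/
theorem exists_perp_value [Finite F] {c : ι → F} (hc : f1 c c ≠ 0) :
    ∃ e, f1 c e = 0 ∧ f1 e e = f1 c c := by
  obtain ⟨P, hP, hdim⟩ := H1.finrank_perp_le ![c]
  have hPc : ∀ x ∈ P, f1 x c = 0 := fun x hx => (hP x).1 hx 0
  have hR := H1.restrict (P := P) fun x hx hy => H1.nondeg x fun y => by
    have hm : y - (f1 y c / f1 c c) • c ∈ P := (hP _).2 fun i => by
      fin_cases i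
      show f1 _ c = 0
      rw [H1.sub_left, H1.smul_left, div_mul_cancel₀ _ hc, sub_self]
    have := hy _ hm
    rwa [H1.sub_right, H1.smul_right, hPc x hx, mul_zero, sub_zero] at this
  rw [Module.finrank_fintype_fun_eq_card, hι] at hdim
  obtain ⟨e, he⟩ := CfsgLib.MaxSub.Orth.exists_value hR.quad (quad_polar_nondeg hR) (by omega) hc
  exact ⟨e, H1.symm0 (hPc e e.2), by rwa [hR.quad_apply] at he⟩

variable (H : SForm f) (hfp : ∀ c d v w, f (vecMulVec c v) (vecMulVec d w) = f1 c d * f1 v w)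

include hfp

theorem refl_vmv {w b : ι → F} (hv : H.quad (vecMulVec w b) ≠ 0) (c x : ι → F) :
    (refl H.quad hv).1 (vecMulVec c x) =
      vecMulVec c x - (2 / (f1 w w * f1 b b) * (f1 c w * f1 x b)) • vecMulVec w b := by
  rw [refl_apply, H.quad_polar, H.quad_apply, hfp, hfp, H1.symm c w, H1.symm x b, sub_eq_add_neg,
    ← neg_smul]
  congr 2
  rw [inv_eq_one_div]
  ring

omit H1 hι hfp in
theorem comp_ext {a b d : ι → F}
    (hdec : ∀ x, x = (f1 x a / f1 a a) • a + (f1 x b / f1 b b) • b + (f1 x d / f1 d d) • d)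
    {A B : MV →ₗ[F] MV} (h : ∀ u ∈ ({a, b, d} : Set (ι → F)), ∀ v ∈ ({a, b, d} : Set (ι → F)),
      A (vecMulVec u v) = B (vecMulVec u v)) : A = B := by
  refine LinearMap.ext fun X => ext_pure (fun c x => ?_) X
  have h' : ∀ u ∈ ({a, b, d} : Set (ι → F)), A (vecMulVec u x) = B (vecMulVec u x) := fun u hu => by
    rw [hdec x]
    simp only [vecMulVec_add, vmv_smul, map_add, map_smul]
    rw [h u hu a (by simp), h u hu b (by simp), h u hu d (by simp)]
  rw [hdec c]
  simp only [add_vecMulVec, smul_vecMulVec, map_add, map_smul]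
  rw [h' a (by simp), h' b (by simp), h' d (by simp)]

/-- The product of the reflections on a vector tensor an orthogonal basis. -/
theorem refl_row {a b d w : ι → F} (ha : f1 a a ≠ 0) (hb : f1 b b ≠ 0) (hd : f1 d d ≠ 0)
    (hab : f1 a b = 0) (hda : f1 d a = 0) (hdb : f1 d b = 0)
    (hdec : ∀ x, x = (f1 x a / f1 a a) • a + (f1 x b / f1 b b) • b + (f1 x d / f1 d d) • d)
    (hw : f1 w w ≠ 0) :
    ∃ (h₁ : H.quad (vecMulVec w a) ≠ 0) (h₂ : H.quad (vecMulVec w b) ≠ 0)
      (h₃ : H.quad (vecMulVec w d) ≠ 0),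
      (refl H.quad h₁ * refl H.quad h₂ * refl H.quad h₃).1 = te (reflE H1 hw) (LinearEquiv.refl F _) := by
  have hq : ∀ {z : ι → F}, f1 z z ≠ 0 → H.quad (vecMulVec w z) ≠ 0 := fun hz => by
    rw [H.quad_apply, hfp]
    exact mul_ne_zero hw hz
  refine ⟨hq ha, hq hb, hq hd, LinearEquiv.toLinearMap_injective (comp_ext hdec ?_)⟩
  have hsame : ∀ {z : ι → F} (hz : f1 z z ≠ 0) (c : ι → F),
      (refl H.quad (hq hz)).1 (vecMulVec c z) = vecMulVec (H1.refl w c) z := fun hz c => by
    rw [refl_vmv H1 hι H hfp, H1.refl_apply, sub_vmv, smul_vecMulVec]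
    congr 2
    field_simp
  have hperp : ∀ {z y : ι → F} (hz : f1 z z ≠ 0), f1 y z = 0 → ∀ c : ι → F,
      (refl H.quad (hq hz)).1 (vecMulVec c y) = vecMulVec c y := fun hz h c => by
    rw [refl_vmv H1 hι H hfp, h, mul_zero, mul_zero, zero_smul, sub_zero]
  intro u _ v hv
  show (refl H.quad (hq ha)).1 ((refl H.quad (hq hb)).1 ((refl H.quad (hq hd)).1 (vecMulVec u v))) =
    te (reflE H1 hw) (LinearEquiv.refl F _) (vecMulVec u v)
  rw [te_pure, reflE_apply]
  rcases hv with rfl | rfl | rfl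
  · rw [hperp hd (H1.symm0 hda), hperp hb hab, hsame ha]
    rfl
  · rw [hperp hd (H1.symm0 hdb), hsame hb, hperp ha (H1.symm0 hab)]
    rfl
  · rw [hsame hd, hperp hb hdb, hperp ha hda]
    rfl

/-- A half turn about a vector perpendicular to two perpendicular vectors of equal value. -/
theorem turn_mem [Finite F] {a b c : ι → F} (ha : f1 a a ≠ 0) (hc : f1 c c ≠ 0) (hbc : f1 c b = 0)
    (hb : f1 b b = f1 c c) (hac : f1 a c = 0) (hab : f1 a b = 0) :
    ∃ x : quadIso H.quad, x ∈ commutator (quadIso H.quad) ∧ x.1 = turn H1 ha := by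
  have hb0 : f1 b b ≠ 0 := by rw [hb]; exact hc
  obtain ⟨d, hd, hdc, hdb, hdec⟩ := third H1 hι hc hb0 hbc
  obtain ⟨p₁, p₂, p₃, hp⟩ := refl_row H1 hι H hfp hc hb0 hd hbc hdc hdb hdec (w := c) hc
  obtain ⟨q₁, q₂, q₃, hq⟩ := refl_row H1 hι H hfp hc hb0 hd hbc hdc hdb hdec (w := b) hb0
  refine ⟨refl H.quad p₁ * refl H.quad p₂ * refl H.quad p₃ *
    (refl H.quad q₁ * refl H.quad q₂ * refl H.quad q₃), ?_, ?_⟩
  · rw [← Abelianization.ker_of, MonoidHom.mem_ker]
    set π : quadIso H.quad →* Abelianization (quadIso H.quad) := Abelianization.of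
    have heq : ∀ {u v : MV} (hu : H.quad u ≠ 0) (hv : H.quad v ≠ 0), H.quad v = H.quad u →
        π (refl H.quad hu) = π (refl H.quad hv) := fun hu hv h => by
      obtain ⟨g, hg⟩ := refl_conj H.quad (quad_polar_nondeg H) hu hv (s := 1) (by rw [h]; ring)
      rw [← hg, map_mul, map_mul, map_inv, mul_comm (π g), mul_inv_cancel_right]
    have hsq : ∀ {u : MV} (hu : H.quad u ≠ 0), π (refl H.quad hu) * π (refl H.quad hu) = 1 := fun hu => by
      rw [← map_mul, refl_mul_self, map_one]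
    have hv : ∀ z, H.quad (vecMulVec b z) = H.quad (vecMulVec c z) := fun z => by
      rw [H.quad_apply, H.quad_apply, hfp, hfp, hb]
    rw [map_mul, map_mul, map_mul, map_mul, map_mul, ← heq p₁ q₁ (hv _), ← heq p₂ q₂ (hv _),
      ← heq p₃ q₃ (hv _)]
    rw [mul_mul_mul_comm, mul_mul_mul_comm (π (refl H.quad p₁)), hsq, hsq, hsq, one_mul, one_mul]
  · refine LinearEquiv.ext fun X => ?_
    show (refl H.quad p₁ * refl H.quad p₂ * refl H.quad p₃).1
      ((refl H.quad q₁ * refl H.quad q₂ * refl H.quad q₃).1 X) = _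
    rw [hp, hq]
    refine ext_pure (A := (te (reflE H1 hc) (LinearEquiv.refl F _)).toLinearMap ∘ₗ
      (te (reflE H1 hb0) (LinearEquiv.refl F _)).toLinearMap) (B := (turn H1 ha).toLinearMap)
      (fun u y => ?_) X
    show te (reflE H1 hc) _ (te (reflE H1 hb0) _ (vecMulVec u y)) = turn H1 ha (vecMulVec u y)
    rw [te_pure, te_pure, turn_pure, reflE_apply, reflE_apply]
    congr 1
    obtain ⟨d', hd', hd'c, hd'b, hdec'⟩ := third H1 hι hc hb0 hbc
    refine LinearMap.congr_fun (ext_third H1 hι hdec'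
      (A := H1.refl c ∘ₗ H1.refl b) (B := halfTurn H1 a) ?_ ?_ ?_) u <;> rw [LinearMap.comp_apply]
    · rw [H1.refl_perp hbc, H1.refl_self hc, halfTurn_perp H1 (H1.symm0 hac)]
    · rw [H1.refl_self hb0, map_neg, H1.refl_perp (H1.symm0 hbc), halfTurn_perp H1 (H1.symm0 hab)]
    · rw [H1.refl_perp hd'b, H1.refl_perp hd'c]
      -- the vector lies on the axis
      have e := hdec' a
      rw [hac, hab, zero_div, zero_div, zero_smul, zero_smul, zero_add, zero_add] at e
      have hs : f1 a d' / f1 d' d' ≠ 0 := fun h0 => by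
        rw [h0, zero_smul] at e
        exact H1.ne_zero ha e
      rw [e, halfTurn_smul H1 hs, halfTurn_self H1 hd']

/-- An element exchanging the factors. -/
theorem swap_mem [Finite F] {a b c : ι → F} (ha : f1 a a ≠ 0) (hc : f1 c c ≠ 0) (hbc : f1 c b = 0)
    (hb : f1 b b = f1 c c) (hac : f1 a c = 0) (hab : f1 a b = 0) :
    ∃ (w : ι → F) (hw : f1 w w ≠ 0) (x : quadIso H.quad),
      x ∈ commutator (quadIso H.quad) ∧ x.1 = swp (reflE H1 hw) := by
  have hb0 : f1 b b ≠ 0 := by rw [hb]; exact hc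
  obtain ⟨d, hd, hdc, hdb, hdec⟩ := third H1 hι hc hb0 hbc
  obtain ⟨w, hw⟩ := CfsgLib.MaxSub.Orth.exists_value H1.quad (quad_polar_nondeg H1)
    (by rw [Module.finrank_fintype_fun_eq_card, hι]; norm_num) (c := 2 * f1 d d) (mul_ne_zero H1.two hd)
  rw [H1.quad_apply] at hw
  have hw0 : f1 w w ≠ 0 := by rw [hw]; exact mul_ne_zero H1.two hd
  obtain ⟨p₁, p₂, p₃, hp⟩ := refl_row H1 hι H hfp hc hb0 hd hbc hdc hdb hdec (w := w) hw0
  -- the transpositions of the basis tensors
  have hQv : ∀ {x y : ι → F}, f1 x y = 0 →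
      H.quad (vecMulVec x y - vecMulVec y x) = 2 * (f1 x x * f1 y y) := fun {x y} h => by
    rw [H.quad_apply]
    simp only [H.sub_left, H.sub_right, hfp, h, H1.symm0 h]
    ring
  have hne : ∀ {x y : ι → F}, f1 x x ≠ 0 → f1 y y ≠ 0 → f1 x y = 0 →
      H.quad (vecMulVec x y - vecMulVec y x) ≠ 0 := fun hx hy h => by
    rw [hQv h]
    exact mul_ne_zero H1.two (mul_ne_zero hx hy)
  have n₁ := hne hc hb0 hbc
  have n₂ := hne hc hd (H1.symm0 hdc)
  have n₃ := hne hb0 hd (H1.symm0 hdb)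
  refine ⟨w, hw0, refl H.quad n₁ * refl H.quad n₂ * refl H.quad n₃ *
    (refl H.quad p₁ * refl H.quad p₂ * refl H.quad p₃), ?_, ?_⟩
  · rw [← Abelianization.ker_of, MonoidHom.mem_ker]
    set π : quadIso H.quad →* Abelianization (quadIso H.quad) := Abelianization.of
    have heq : ∀ {u v : MV} (hu : H.quad u ≠ 0) (hv : H.quad v ≠ 0) {s : F},
        H.quad v = s * s * H.quad u → π (refl H.quad hu) = π (refl H.quad hv) := fun hu hv s h => by
      obtain ⟨g, hg⟩ := refl_conj H.quad (quad_polar_nondeg H) hu hv h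
      rw [← hg, map_mul, map_mul, map_inv, mul_comm (π g), mul_inv_cancel_right]
    have hsq : ∀ {u : MV} (hu : H.quad u ≠ 0), π (refl H.quad hu) * π (refl H.quad hu) = 1 := fun hu => by
      rw [← map_mul, refl_mul_self, map_one]
    have hQw : ∀ z, H.quad (vecMulVec w z) = 2 * f1 d d * f1 z z := fun z => by
      rw [H.quad_apply, hfp, hw]
    rw [map_mul, map_mul, map_mul, map_mul, map_mul,
      ← heq n₂ n₃ (s := 1) (by rw [hQv (H1.symm0 hdb), hQv (H1.symm0 hdc), hb]; ring),
      ← heq n₂ p₁ (s := 1) (by rw [hQv (H1.symm0 hdc), hQw]; ring),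
      ← heq n₂ p₂ (s := 1) (by rw [hQv (H1.symm0 hdc), hQw, hb]; ring),
      ← heq n₁ p₃ (s := f1 d d / f1 c c) (by
        rw [hQv hbc, hQw, hb]
        field_simp)]
    simp only [mul_assoc]
    rw [← mul_assoc (π (refl H.quad n₂)), hsq, one_mul, ← mul_assoc (π (refl H.quad n₂)), hsq, one_mul,
      hsq]
  · refine LinearEquiv.ext fun X => ?_
    show (refl H.quad n₁ * refl H.quad n₂ * refl H.quad n₃).1
      ((refl H.quad p₁ * refl H.quad p₂ * refl H.quad p₃).1 X) = _
    rw [hp]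
    have key : ((refl H.quad n₁ * refl H.quad n₂ * refl H.quad n₃).1).toLinearMap =
        (Matrix.transposeLinearEquiv ι ι F F).toLinearMap := by
      refine comp_ext hdec fun u hu v hv => ?_
      show (refl H.quad n₁).1 ((refl H.quad n₂).1 ((refl H.quad n₃).1 (vecMulVec u v))) =
        (vecMulVec u v)ᵀ
      rw [Matrix.transpose_vecMulVec]
      have hkey : ∀ {x y : ι → F} (hxy : H.quad (vecMulVec x y - vecMulVec y x) ≠ 0) (u v : ι → F),
          f1 x y = 0 → (refl H.quad hxy).1 (vecMulVec u v) = vecMulVec u v -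
            ((f1 x u * f1 y v - f1 y u * f1 x v) / (f1 x x * f1 y y)) •
              (vecMulVec x y - vecMulVec y x) := fun {x y} hxy u v h => by
        rw [refl_apply, H.quad_polar, hQv h, sub_eq_add_neg _ (_ • _), ← neg_smul]
        simp only [H.sub_left, hfp]
        congr 2
        have := H1.two
        field_simp
      rcases hu with rfl | rfl | rfl <;> rcases hv with rfl | rfl | rfl <;>
      · (simp [hkey n₃ _ _ (H1.symm0 hdb), hkey n₂ _ _ (H1.symm0 hdc), hkey n₁ _ _ hbc, map_sub,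
          hbc, H1.symm0 hbc, hdc, H1.symm0 hdc, hdb, H1.symm0 hdb, hc, hb0, hd]) <;>
          match_scalars <;> field_simp <;> ring
    have := LinearMap.congr_fun key (te (reflE H1 hw0) (LinearEquiv.refl F _) X)
    exact this

end CfsgLib.MaxSub.TensorOO
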