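/-
Two three dimensional factors: the involutions respecting the decomposition, and the elements exchanging
the factors.
-/
import Cfsg.Agent.Lib.MaxSub.TensorOO.ThreeFixer
import Cfsg.Agent.Lib.MaxSub.TensorOO.ThreeTurn

set_option autoImplicit false
set_option maxHeartbeats 1000000
set_option linter.unusedSectionVars false

namespace CfsgLib.MaxSub.TensorOO

open Matrix Module
open CfsgLib.MaxSub.TensorSympOrth (SForm ext_pure vmv_smul vmv_sub sub_vmv vmv_neg neg_vmv vmv_ne_zero)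
open CfsgLib.MaxSub.TensorLin (Col colMap colMap_apply mem_col vmv_eq_zero vmv_zero vm exists_dot_one
  colMap_injective finrank_col)

variable {F : Type*} [Field F] {ι : Type*} [Fintype ι] [DecidableEq ι]

local notation "MV" => Matrix ι ι F

variable {f1 : (ι → F) → (ι → F) → F}
  {f : Matrix ι ι F → Matrix ι ι F → F} {G : Subgroup (Matrix ι ι F ≃ₗ[F] Matrix ι ι F)}

/-- The half turn of the second factor. -/
def turnR (H : SForm f1) {a : ι → F} (ha : f1 a a ≠ 0) : Matrix ι ι F ≃ₗ[F] Matrix ι ι F :=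
  te (LinearEquiv.refl F _) (LinearEquiv.ofInvolutive (halfTurn H a) (halfTurn_twice H ha))

theorem turnR_pure (H : SForm f1) {a : ι → F} (ha : f1 a a ≠ 0) (c x : ι → F) :
    turnR H ha (vecMulVec c x) = vecMulVec c (halfTurn H a x) := te_pure _ _ c x

/-- A map respecting the decomposition or exchanging the factors. -/
def Semi (g : Matrix ι ι F ≃ₗ[F] Matrix ι ι F) : Prop :=
  Pure g ∨ ∃ P R : (ι → F) →ₗ[F] (ι → F), ∀ c x, g (vecMulVec c x) = vecMulVec (P x) (R c)

theorem Semi.mul {g g' : MV ≃ₗ[F] MV} (h : Semi g) (h' : Semi g') : Semi (g * g') := by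
  rcases h with ⟨L, M, hg⟩ | ⟨P, R, hg⟩ <;> rcases h' with ⟨L', M', hg'⟩ | ⟨P', R', hg'⟩
  · exact Or.inl ⟨L ∘ₗ L', M ∘ₗ M', fun c x => by rw [LinearEquiv.mul_apply, hg', hg]; rfl⟩
  · exact Or.inr ⟨L ∘ₗ P', M ∘ₗ R', fun c x => by rw [LinearEquiv.mul_apply, hg', hg]; rfl⟩
  · exact Or.inr ⟨P ∘ₗ M', R ∘ₗ L', fun c x => by rw [LinearEquiv.mul_apply, hg', hg]; rfl⟩
  · exact Or.inl ⟨P ∘ₗ R', R ∘ₗ P', fun c x => by rw [LinearEquiv.mul_apply, hg', hg]; rfl⟩

theorem Semi.inv [Nonempty ι] {g : MV ≃ₗ[F] MV} (h : Semi g) : Semi g⁻¹ := by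
  rcases h with hp | ⟨P, R, hg⟩
  · exact Or.inl hp.inv
  have h2 : Pure (g * g) := ⟨P ∘ₗ R, R ∘ₗ P, fun c x => by rw [LinearEquiv.mul_apply, hg, hg]; rfl⟩
  rw [show g⁻¹ = g * (g * g)⁻¹ by group]
  exact Semi.mul (Or.inr ⟨P, R, hg⟩) (Or.inl h2.inv)

/-- Two involutions are conjugate, or an involution commutes with both and its products with them are
conjugates of them. -/
theorem inv_both {M : Type*} [Group M] [Finite M] {a b : M} (ha : a * a = 1) (hb : b * b = 1) :
    (∃ x ∈ Subgroup.closure ({a, b} : Set M), x * a * x⁻¹ = b) ∨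
      ∃ z ∈ Subgroup.closure ({a, b} : Set M), z ≠ 1 ∧ z * z = 1 ∧ a * z = z * a ∧ b * z = z * b ∧
        (∃ x ∈ Subgroup.closure ({a, b} : Set M), a * z = x * a * x⁻¹ ∨ a * z = x * b * x⁻¹) ∧
        ∃ x ∈ Subgroup.closure ({a, b} : Set M), b * z = x * b * x⁻¹ ∨ b * z = x * a * x⁻¹ := by
  have hP : a * b ∈ Subgroup.closure ({a, b} : Set M) :=
    mul_mem (Subgroup.subset_closure (Set.mem_insert _ _))
      (Subgroup.subset_closure (Set.mem_insert_of_mem _ rfl))
  rcases Nat.even_or_odd (orderOf (a * b)) with ⟨j, hj⟩ | ⟨j, hj⟩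
  · have hjp : 0 < j := by
      have := orderOf_pos (a * b)
      omega
    have half : ∀ {a b : M}, a * a = 1 → b * b = 1 →
        a * b ∈ Subgroup.closure ({a, b} : Set M) →
        ∃ x ∈ Subgroup.closure ({a, b} : Set M),
          a * (a * b) ^ j = x * a * x⁻¹ ∨ a * (a * b) ^ j = x * b * x⁻¹ := by
      intro a b ha hb hP
      have hbab : b = a * (a * b) := by rw [← mul_assoc, ha, one_mul]
      have h2 : ∀ i, ((a * b) ^ i)⁻¹ * a = a * (a * b) ^ i := fun i => by
        rw [inv_mul_eq_iff_eq_mul, ← mul_assoc, inv_word ha hb, mul_assoc, inv_mul_cancel, mul_one]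
      rcases Nat.even_or_odd j with ⟨i, hi⟩ | ⟨i, hi⟩
      · refine ⟨((a * b) ^ i)⁻¹, inv_mem (pow_mem hP i), Or.inl ?_⟩
        rw [inv_inv, h2, mul_assoc, ← pow_add, hi]
      · refine ⟨((a * b) ^ i)⁻¹, inv_mem (pow_mem hP i), Or.inr ?_⟩
        rw [inv_inv, show ((a * b) ^ i)⁻¹ * b = ((a * b) ^ i)⁻¹ * a * (a * b) by
          rw [mul_assoc, ← hbab], h2, mul_assoc, mul_assoc, ← pow_succ', ← pow_add, hi]
        congr 2
        omega
    set z := (a * b) ^ j with hz
    have hz2 : z * z = 1 := by rw [hz, ← pow_add, ← hj, pow_orderOf_eq_one]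
    have hzi : z⁻¹ = z := inv_eq_of_mul_eq_one_right hz2
    have haz : a * z = z * a := by rw [inv_word ha hb, hzi]
    have hbab : b = a * (a * b) := by rw [← mul_assoc, ha, one_mul]
    have hbz : b * z = z * b := by
      rw [hbab, mul_assoc, (Commute.self_pow (a * b) j).eq, ← mul_assoc, haz, mul_assoc]
    have hswap : (b * a) ^ j = z := by
      rw [show b * a = (a * b)⁻¹ by
        rw [_root_.mul_inv_rev, inv_eq_of_mul_eq_one_right ha, inv_eq_of_mul_eq_one_right hb],
        inv_pow, ← hz, hzi]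
    refine Or.inr ⟨z, pow_mem hP j, fun h1 => ?_, hz2, haz, hbz, half ha hb hP, ?_⟩
    · have := orderOf_dvd_of_pow_eq_one (show (a * b) ^ j = 1 from h1)
      have := Nat.le_of_dvd hjp this
      omega
    obtain ⟨x, hx, h⟩ := half hb ha (mul_mem (Subgroup.subset_closure (Set.mem_insert _ _))
      (Subgroup.subset_closure (Set.mem_insert_of_mem _ rfl)))
    rw [hswap] at h
    exact ⟨x, by rw [Set.pair_comm]; exact hx, h⟩
  · refine Or.inl ⟨(a * b) ^ j, pow_mem hP j, ?_⟩
    rw [inv_word ha hb, mul_assoc, ← _root_.mul_inv_rev, ← pow_add]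
    have h1 : (a * b) ^ (j + j) * (a * b) = 1 := by
      rw [← pow_succ, show j + j + 1 = orderOf (a * b) by omega, pow_orderOf_eq_one]
    rw [inv_eq_of_mul_eq_one_right h1, ← mul_assoc, ha, one_mul]

/-- The fixed vectors of an exchange of the factors. -/
theorem fix_transpose (hι : Fintype.card ι = 3) :
    6 ≤ finrank F (LinearMap.ker
      ((Matrix.transposeLinearEquiv ι ι F F).toLinearMap - LinearMap.id : MV →ₗ[F] MV)) := by
  let e : ι ≃ Fin 3 := Fintype.equivFinOfCardEq hι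
  let Ψ : (Fin 6 → F) →ₗ[F] MV :=
    { toFun := fun v => Matrix.of fun i j =>
        ![![v 0, v 1, v 2], ![v 1, v 3, v 4], ![v 2, v 4, v 5]] (e i) (e j)
      map_add' := fun v w => by
        ext i j
        simp only [Matrix.of_apply, Matrix.add_apply]
        generalize e i = a
        generalize e j = b
        fin_cases a <;> fin_cases b <;> simp
      map_smul' := fun t v => by
        ext i j
        simp only [Matrix.of_apply, Matrix.smul_apply, RingHom.id_apply]
        generalize e i = a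
        generalize e j = b
        fin_cases a <;> fin_cases b <;> simp }
  have hinj : Function.Injective Ψ := (injective_iff_map_eq_zero Ψ).2 fun v hv => by
    have h : ∀ a b, ![![v 0, v 1, v 2], ![v 1, v 3, v 4], ![v 2, v 4, v 5]] a b = 0 := fun a b => by
      have := congrFun (congrFun hv (e.symm a)) (e.symm b)
      simpa [Ψ] using this
    funext k
    fin_cases k
    · simpa using h 0 0
    · simpa using h 0 1
    · simpa using h 0 2
    · simpa using h 1 1
    · simpa using h 1 2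
    · simpa using h 2 2
  have hle : LinearMap.range Ψ ≤ LinearMap.ker
      ((Matrix.transposeLinearEquiv ι ι F F).toLinearMap - LinearMap.id : MV →ₗ[F] MV) := by
    rintro _ ⟨v, rfl⟩
    rw [LinearMap.mem_ker, LinearMap.sub_apply, LinearMap.id_apply, sub_eq_zero]
    ext i j
    show ![![v 0, v 1, v 2], ![v 1, v 3, v 4], ![v 2, v 4, v 5]] (e j) (e i) =
      ![![v 0, v 1, v 2], ![v 1, v 3, v 4], ![v 2, v 4, v 5]] (e i) (e j)
    generalize e i = a
    generalize e j = b
    fin_cases a <;> fin_cases b <;> simp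
  have := Submodule.finrank_mono hle
  rwa [LinearMap.finrank_range_of_inj hinj, Module.finrank_fintype_fun_eq_card, Fintype.card_fin] at this

variable (O : OO f1 f1 f G) (hι : Fintype.card ι = 3)
include O hι

omit hι in
theorem turnR_sq {a : ι → F} (ha : f1 a a ≠ 0) :
    (turnR O.h1 ha : MV ≃ₗ[F] MV) * turnR O.h1 ha = 1 :=
  right_equiv_ext O (M := LinearMap.id) (fun c x => by
    rw [LinearEquiv.mul_apply, turnR_pure, turnR_pure, halfTurn_twice O.h1 ha]; rfl) fun c x => rfl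

omit hι in
theorem turn_turnR {a b : ι → F} (ha : f1 a a ≠ 0) (hb : f1 b b ≠ 0) :
    (turn O.h1 ha : MV ≃ₗ[F] MV) * turnR O.h1 hb = turnR O.h1 hb * turn O.h1 ha :=
  LinearEquiv.ext fun X => ext_pure (A := (turn O.h1 ha * turnR O.h1 hb).toLinearMap)
    (B := (turnR O.h1 hb * turn O.h1 ha).toLinearMap) (fun c x => by
      show turn O.h1 ha (turnR O.h1 hb (vecMulVec c x)) = turnR O.h1 hb (turn O.h1 ha (vecMulVec c x))
      rw [turnR_pure, turn_pure, turn_pure, turnR_pure]) X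

omit hι in
theorem left_ext {A A' : (ι → F) →ₗ[F] (ι → F)}
    (h : ∀ c x : ι → F, vecMulVec (A c) x = vecMulVec (A' c) x) :
    A = A' := LinearMap.ext fun c => by
  haveI := nonempty_ι O
  obtain ⟨η, hη0⟩ := exists_ne (0 : ι → F)
  obtain ⟨ν, hν⟩ := exists_dot_one hη0
  simpa only [vm, hν, one_smul] using congrArg (fun X : MV => X *ᵥ ν) (h c η)

omit hι in
theorem left_equiv_ext {v w : MV ≃ₗ[F] MV} {L : (ι → F) →ₗ[F] (ι → F)}
    (hv : ∀ c x, v (vecMulVec c x) = vecMulVec (L c) x)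
    (hw : ∀ c x, w (vecMulVec c x) = vecMulVec (L c) x) : v = w :=
  LinearEquiv.ext fun X =>
    ext_pure (A := v.toLinearMap) (B := w.toLinearMap) (fun c x => (hv c x).trans (hw c x).symm) X

/-- Products of perpendicular half turns of the first factor. -/
theorem turn_mul {a b : ι → F} (ha : f1 a a ≠ 0) (hb : f1 b b ≠ 0) (hab : f1 a b = 0) :
    ∃ (d : ι → F) (hd : f1 d d ≠ 0), f1 d a = 0 ∧ f1 d b = 0 ∧
      (turn O.h1 ha : MV ≃ₗ[F] MV) * turn O.h1 hb = turn O.h1 hd := by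
  obtain ⟨d, hd, h1, h2, he⟩ := halfTurn_mul O.h1 hι ha hb hab
  exact ⟨d, hd, h1, h2, left_equiv_ext O (fun c x => by
    rw [LinearEquiv.mul_apply, turn_pure, turn_pure, ← LinearMap.comp_apply, he])
    fun c x => turn_pure O.h1 hd c x⟩

/-- Involutive products of two half turns of the first factor. -/
theorem turn_pair {a b : ι → F} (ha : f1 a a ≠ 0) (hb : f1 b b ≠ 0)
    (h : ((turn O.h1 ha : MV ≃ₗ[F] MV) * turn O.h1 hb) * (turn O.h1 ha * turn O.h1 hb) = 1) :
    (turn O.h1 ha : MV ≃ₗ[F] MV) * turn O.h1 hb = 1 ∨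
      ∃ (d : ι → F) (hd : f1 d d ≠ 0), f1 d a = 0 ∧
        (turn O.h1 ha : MV ≃ₗ[F] MV) * turn O.h1 hb = turn O.h1 hd := by
  have h' : (halfTurn O.h1 a ∘ₗ halfTurn O.h1 b) ∘ₗ (halfTurn O.h1 a ∘ₗ halfTurn O.h1 b) =
      LinearMap.id := left_ext O fun c x => by
    have := LinearEquiv.congr_fun h (vecMulVec c x)
    simp only [LinearEquiv.mul_apply, turn_pure] at this
    exact this
  rcases halfTurn_pair O.h1 hι ha hb (fun x => LinearMap.congr_fun h' x) with e | ⟨d, hd, hda, e⟩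
  · exact Or.inl (left_equiv_ext O (L := LinearMap.id) (fun c x => by
      rw [LinearEquiv.mul_apply, turn_pure, turn_pure, ← LinearMap.comp_apply, e]) fun c x => rfl)
  · exact Or.inr ⟨d, hd, hda, left_equiv_ext O (fun c x => by
      rw [LinearEquiv.mul_apply, turn_pure, turn_pure, ← LinearMap.comp_apply, e])
      fun c x => turn_pure O.h1 hd c x⟩

/-- Involutive products of two half turns of the second factor. -/
theorem turnR_pair [Finite F] {a b : ι → F} (ha : f1 a a ≠ 0) (hb : f1 b b ≠ 0)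
    (h : ((turnR O.h1 ha : MV ≃ₗ[F] MV) * turnR O.h1 hb) * (turnR O.h1 ha * turnR O.h1 hb) = 1) :
    (turnR O.h1 ha : MV ≃ₗ[F] MV) * turnR O.h1 hb = 1 ∨
      ∃ (d : ι → F) (hd : f1 d d ≠ 0),
        (turnR O.h1 ha : MV ≃ₗ[F] MV) * turnR O.h1 hb = turnR O.h1 hd := by
  have h' : (halfTurn O.h1 a ∘ₗ halfTurn O.h1 b) ∘ₗ (halfTurn O.h1 a ∘ₗ halfTurn O.h1 b) =
      LinearMap.id := right_ext O ha fun x => by
    have := LinearEquiv.congr_fun h (vecMulVec a x)
    simp only [LinearEquiv.mul_apply, turnR_pure] at this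
    exact this
  rcases halfTurn_pair O.h1 hι ha hb (fun x => LinearMap.congr_fun h' x) with e | ⟨d, hd, -, e⟩
  · exact Or.inl (right_equiv_ext O (M := LinearMap.id) (fun c x => by
      rw [LinearEquiv.mul_apply, turnR_pure, turnR_pure, ← LinearMap.comp_apply, e]) fun c x => rfl)
  · exact Or.inr ⟨d, hd, right_equiv_ext O (fun c x => by
      rw [LinearEquiv.mul_apply, turnR_pure, turnR_pure, ← LinearMap.comp_apply, e])
      fun c x => turnR_pure O.h1 hd c x⟩

variable [Finite F]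

omit [Finite F] in
theorem finrank_MV : finrank F MV = 9 := by
  rw [Module.finrank_matrix, finrank_self, mul_one, hι]

omit [Finite F] in
theorem fix_turn_three {a : ι → F} (ha : f1 a a ≠ 0) :
    finrank F (LinearMap.ker ((turn O.h1 ha : MV ≃ₗ[F] MV).toLinearMap - LinearMap.id)) = 3 := by
  rw [finrank_fix_turn O ha, hι]

omit [Finite F] in
theorem fix_turnR_three {a : ι → F} (ha : f1 a a ≠ 0) :
    finrank F (LinearMap.ker ((turnR O.h1 ha : MV ≃ₗ[F] MV).toLinearMap - LinearMap.id)) = 3 := by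
  set τ : MV ≃ₗ[F] MV := Matrix.transposeLinearEquiv ι ι F F
  have e : (turnR O.h1 ha : MV ≃ₗ[F] MV) = τ * turn O.h1 ha * τ⁻¹ :=
    right_equiv_ext O (fun c x => turnR_pure O.h1 ha c x) fun c x => by
      show τ (turn O.h1 ha (τ.symm (vecMulVec c x))) = _
      have h1 : τ.symm (vecMulVec c x) = vecMulVec x c := Matrix.transpose_vecMulVec c x
      rw [h1, turn_pure]
      exact Matrix.transpose_vecMulVec (halfTurn O.h1 a x) c
  rw [e, fixed_conj O, LinearEquiv.finrank_map_eq, fix_turn_three O hι ha]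

omit [Finite F] in
/-- Two blocks of pure tensors with independent second factors. -/
theorem two_blocks (A₁ A₂ W₁ W₂ : Submodule F (ι → F)) (hW : W₁ ⊓ W₂ = ⊥) (V : Submodule F MV)
    (h1 : ∀ c ∈ A₁, ∀ x ∈ W₁, vecMulVec c x ∈ V) (h2 : ∀ c ∈ A₂, ∀ x ∈ W₂, vecMulVec c x ∈ V) :
    finrank F A₁ * finrank F W₁ + finrank F A₂ * finrank F W₂ ≤ finrank F V := by
  obtain ⟨S₁, hS₁d, hS₁W, hS₁P⟩ := exists_block A₁ W₁
  obtain ⟨S₂, hS₂d, hS₂W, hS₂P⟩ := exists_block A₂ W₂
  have hinf : S₁ ⊓ S₂ = ⊥ := (Submodule.eq_bot_iff _).2 fun X hX => Matrix.ext fun i j => by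
    have hm : X i ∈ W₁ ⊓ W₂ := ⟨hS₁W X hX.1 i, hS₂W X hX.2 i⟩
    rw [hW, Submodule.mem_bot] at hm
    exact congrFun hm j
  have h3 := Submodule.finrank_sup_add_finrank_inf_eq S₁ S₂
  rw [hinf, finrank_bot, hS₁d, hS₂d] at h3
  have h4 := Submodule.finrank_mono (sup_le (hS₁P V h1) (hS₂P V h2))
  omega

omit [Finite F] in
theorem fix_mixed {a b : ι → F} (ha : f1 a a ≠ 0) (hb : f1 b b ≠ 0) :
    finrank F (LinearMap.ker ((turn O.h1 ha * turnR O.h1 hb : MV ≃ₗ[F] MV).toLinearMap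
      - LinearMap.id)) = 5 := by
  set w : MV ≃ₗ[F] MV := turn O.h1 ha * turnR O.h1 hb
  have hwX : ∀ c x, w (vecMulVec c x) = vecMulVec (halfTurn O.h1 a c) (halfTurn O.h1 b x) :=
    fun c x => by rw [LinearEquiv.mul_apply, turnR_pure, turn_pure]
  have h1 := finrank_fix_halfTurn O.h1 hι ha
  have h1' := finrank_fix_halfTurn O.h1 hι hb
  have h2 := finrank_invol O.h.two (halfTurn O.h1 a) (halfTurn_twice O.h1 ha)
  have h2' := finrank_invol O.h.two (halfTurn O.h1 b) (halfTurn_twice O.h1 hb)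
  rw [h1, Module.finrank_fintype_fun_eq_card, hι] at h2
  rw [h1', Module.finrank_fintype_fun_eq_card, hι] at h2'
  have hp : ∀ {u x : ι → F}, x ∈ LinearMap.ker (halfTurn O.h1 u - LinearMap.id) → halfTurn O.h1 u x = x :=
    fun h => sub_eq_zero.1 h
  have hm : ∀ {u x : ι → F}, x ∈ LinearMap.ker (halfTurn O.h1 u + LinearMap.id) →
      halfTurn O.h1 u x = -x := fun h => eq_neg_of_add_eq_zero_left h
  have hdis : LinearMap.ker (halfTurn O.h1 b - LinearMap.id) ⊓
      LinearMap.ker (halfTurn O.h1 b + LinearMap.id) = ⊥ := (Submodule.eq_bot_iff _).2 fun x hx =>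
    eq_zero_of_eq_neg' O.h.two ((hp hx.1).symm.trans (hm hx.2))
  have hplus := two_blocks O hι (LinearMap.ker (halfTurn O.h1 a - LinearMap.id))
    (LinearMap.ker (halfTurn O.h1 a + LinearMap.id)) _ _ hdis
    (LinearMap.ker (w.toLinearMap - LinearMap.id))
    (fun c hc x hx => by
      rw [LinearMap.mem_ker, LinearMap.sub_apply, LinearMap.id_apply, LinearEquiv.coe_coe, hwX,
        hp hc, hp hx, sub_self])
    (fun c hc x hx => by
      rw [LinearMap.mem_ker, LinearMap.sub_apply, LinearMap.id_apply, LinearEquiv.coe_coe, hwX,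
        hm hc, hm hx, vmv_neg, neg_vmv, neg_neg, sub_self])
  have hminus := two_blocks O hι (LinearMap.ker (halfTurn O.h1 a + LinearMap.id))
    (LinearMap.ker (halfTurn O.h1 a - LinearMap.id)) _ _ hdis
    (LinearMap.ker (w.toLinearMap + LinearMap.id))
    (fun c hc x hx => by
      rw [LinearMap.mem_ker, LinearMap.add_apply, LinearMap.id_apply, LinearEquiv.coe_coe, hwX,
        hm hc, hp hx, neg_vmv, neg_add_cancel])
    (fun c hc x hx => by
      rw [LinearMap.mem_ker, LinearMap.add_apply, LinearMap.id_apply, LinearEquiv.coe_coe, hwX,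
        hp hc, hm hx, vmv_neg, neg_add_cancel])
  have hVV := finrank_invol O.h.two w.toLinearMap fun X => by
    refine ext_pure (A := w.toLinearMap ∘ₗ w.toLinearMap) (B := LinearMap.id) (fun c x => ?_) X
    show w (w (vecMulVec c x)) = vecMulVec c x
    rw [hwX, hwX, halfTurn_twice O.h1 ha, halfTurn_twice O.h1 hb]
  rw [finrank_MV O hι] at hVV
  rw [h1, h1', show finrank F (LinearMap.ker (halfTurn O.h1 a + LinearMap.id)) = 2 by omega,
    show finrank F (LinearMap.ker (halfTurn O.h1 b + LinearMap.id)) = 2 by omega] at hplus hminus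
  omega

/-- The pure involutive isometries. -/
theorem pure_invol {w : MV ≃ₗ[F] MV} (hwi : ∀ X Y, f (w X) (w Y) = f X Y) (hw : Pure w)
    (hw2 : w * w = 1) :
    ∃ ε : F, ε * ε = 1 ∧
      ((∀ X, w X = ε • X) ∨ (∃ (a : ι → F) (ha : f1 a a ≠ 0), ∀ X, w X = ε • turn O.h1 ha X) ∨
        (∃ (b : ι → F) (hb : f1 b b ≠ 0), ∀ X, w X = ε • turnR O.h1 hb X) ∨
        ∃ (a : ι → F) (ha : f1 a a ≠ 0) (b : ι → F) (hb : f1 b b ≠ 0),
          ∀ X, w X = ε • (turn O.h1 ha * turnR O.h1 hb : MV ≃ₗ[F] MV) X) := by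
  obtain ⟨L, M, hLM⟩ := hw
  obtain ⟨c₀, hc₀, -⟩ := O.h1.exists_iso (hda O)
  obtain ⟨ν, hν⟩ := exists_dot_one hc₀
  set r := M (M c₀) ⬝ᵥ ν with hr
  have hsq : ∀ c x, vecMulVec (L (L c)) (M (M x)) = vecMulVec c x := fun c x => by
    rw [← hLM, ← hLM, ← LinearEquiv.mul_apply, hw2]
    rfl
  have hLL : ∀ c, r • L (L c) = c := fun c => by
    have := congrArg (fun X : MV => X *ᵥ ν) (hsq c c₀)
    simpa only [vm, hν, one_smul] using this
  have hr0 : r ≠ 0 := fun e0 => hc₀ (by rw [← hLL c₀, e0, zero_smul])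
  have hLL' : ∀ c, L (L c) = r⁻¹ • c := fun c => by
    conv_rhs => rw [← hLL c, smul_smul, inv_mul_cancel₀ hr0, one_smul]
  have hMM : ∀ x, M (M x) = r • x := fun x => by
    have := hsq c₀ x
    rw [hLL', smul_vecMulVec, ← vmv_smul] at this
    have h1 := congrArg (fun X : MV => ν ᵥ* X) this
    simp only [vecMul_vecMulVec, dotProduct_comm ν c₀, hν, one_smul] at h1
    conv_rhs => rw [← h1]
    rw [smul_smul, mul_inv_cancel₀ hr0, one_smul]
  obtain ⟨s, hs⟩ : ∃ s, s * s = r := by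
    have hd := det_sq L r⁻¹ hLL'
    rw [hι] at hd
    refine ⟨(LinearMap.det L * r)⁻¹ * 1, ?_⟩
    have hd0 : LinearMap.det L ≠ 0 := fun e0 => by
      rw [e0, mul_zero] at hd
      exact pow_ne_zero 3 (inv_ne_zero hr0) hd.symm
    field_simp at hd ⊢
    linear_combination -hd
  have hs0 : s ≠ 0 := fun e0 => hr0 (by rw [← hs, e0, zero_mul])
  set α : (ι → F) →ₗ[F] (ι → F) := s • L with hα
  set β : (ι → F) →ₗ[F] (ι → F) := s⁻¹ • M with hβ
  have hwX : ∀ c x, w (vecMulVec c x) = vecMulVec (α c) (β x) := fun c x => by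
    rw [hα, hβ, LinearMap.smul_apply, LinearMap.smul_apply, smul_vecMulVec, vmv_smul, smul_smul,
      mul_inv_cancel₀ hs0, one_smul, hLM]
  have hα2 : ∀ c, α (α c) = c := fun c => by
    rw [hα, LinearMap.smul_apply, LinearMap.smul_apply, map_smul, smul_smul, hs, hLL]
  have hβ2 : ∀ x, β (β x) = x := fun x => by
    rw [hβ, LinearMap.smul_apply, LinearMap.smul_apply, map_smul, smul_smul, hMM, smul_smul,
      ← mul_inv, hs, inv_mul_cancel₀ hr0, one_smul]
  have hiso : ∀ c d x y, f1 (α c) (α d) * f1 (β x) (β y) = f1 c d * f1 x y := fun c d x y => by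
    rw [← O.f_pure, ← O.f_pure, ← hwX, ← hwX, hwi]
  obtain ⟨x₁, hx₁⟩ := O.h2.exists_left hc₀
  set m := f1 (β x₁) (β c₀) with hm
  have hαm : ∀ c d, f1 (α c) (α d) * m = f1 c d := fun c d => by rw [hm, hiso, hx₁, mul_one]
  have hmm : m * m = 1 := by
    have h1 := hαm (α x₁) (α c₀)
    have h2 := hαm x₁ c₀
    rw [hα2, hα2, hx₁] at h1
    rw [hx₁] at h2
    linear_combination m * h1 + h2
  have hm1 : m = 1 := by
    rcases mul_self_eq_one_iff.1 hmm with h | h
    · exact h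
    · exfalso
      have := even_of_anti O.h1 hα2 fun x y => by
        have := hαm x y
        rw [h] at this
        linear_combination -this
      rw [finrank_ι O, hι] at this
      exact absurd this (by decide)
  have hαi : ∀ c d, f1 (α c) (α d) = f1 c d := fun c d => by rw [← hαm c d, hm1, mul_one]
  have hβi : ∀ x y, f1 (β x) (β y) = f1 x y := fun x y => by
    have := hiso x₁ c₀ x y
    rwa [hαi, hx₁, one_mul, one_mul] at this
  obtain ⟨ε₁, h1, hA⟩ := invol_cases O.h1 hι hα2 hαi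
  obtain ⟨ε₂, h2, hB⟩ := invol_cases O.h1 hι hβ2 hβi
  refine ⟨ε₁ * ε₂, by linear_combination (ε₂ * ε₂) * h1 + h2, ?_⟩
  have key : ∀ v : MV ≃ₗ[F] MV, (∀ c x, w (vecMulVec c x) = (ε₁ * ε₂) • v (vecMulVec c x)) →
      ∀ X, w X = (ε₁ * ε₂) • v X := fun v hv X =>
    ext_pure (A := w.toLinearMap) (B := (ε₁ * ε₂) • v.toLinearMap) hv X
  rcases hA with eA | ⟨a, ha, eA⟩ <;> rcases hB with eB | ⟨b, hb, eB⟩
  · refine Or.inl (key 1 fun c x => ?_)
    rw [hwX, eA, eB, LinearMap.smul_apply, LinearMap.smul_apply, vmv_smul, smul_vecMulVec, smul_smul,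
      mul_comm ε₂]
    rfl
  · refine Or.inr (Or.inr (Or.inl ⟨b, hb, key _ fun c x => ?_⟩))
    rw [hwX, eA, eB, LinearMap.smul_apply, LinearMap.smul_apply, vmv_smul, smul_vecMulVec, smul_smul,
      mul_comm ε₂, turnR_pure]
    rfl
  · refine Or.inr (Or.inl ⟨a, ha, key _ fun c x => ?_⟩)
    rw [hwX, eA, eB, LinearMap.smul_apply, LinearMap.smul_apply, vmv_smul, smul_vecMulVec, smul_smul,
      mul_comm ε₂, turn_pure]
    rfl
  · refine Or.inr (Or.inr (Or.inr ⟨a, ha, b, hb, key _ fun c x => ?_⟩))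
    rw [hwX, eA, eB, LinearMap.smul_apply, LinearMap.smul_apply, vmv_smul, smul_vecMulVec, smul_smul,
      mul_comm ε₂, LinearEquiv.mul_apply, turnR_pure, turn_pure]

omit [Finite F] in
/-- A sign changes the fixed space to the other eigenspace. -/
theorem fix_sign {v w : MV ≃ₗ[F] MV} (hv : v * v = 1) {ε : F} (hε : ε * ε = 1)
    (h : ∀ X, w X = ε • v X) :
    (w = v) ∨ finrank F (LinearMap.ker (w.toLinearMap - LinearMap.id)) +
      finrank F (LinearMap.ker (v.toLinearMap - LinearMap.id)) = 9 := by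
  rcases mul_self_eq_one_iff.1 hε with rfl | rfl
  · exact Or.inl (LinearEquiv.ext fun X => by rw [h, one_smul])
  · right
    have hVV := finrank_invol O.h.two v.toLinearMap fun X => by
      show v (v X) = X
      rw [← LinearEquiv.mul_apply, hv]
      rfl
    rw [show LinearMap.ker (v.toLinearMap + LinearMap.id) =
      LinearMap.ker (w.toLinearMap - LinearMap.id) from by
        ext X
        simp only [LinearMap.mem_ker, LinearMap.add_apply, LinearMap.sub_apply, LinearMap.id_apply,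
          LinearEquiv.coe_coe, h, neg_one_smul]
        rw [← neg_eq_zero, neg_add, ← sub_eq_add_neg], finrank_MV O hι] at hVV
    omega

omit [Finite F] in
theorem fix_one : finrank F (LinearMap.ker ((1 : MV ≃ₗ[F] MV).toLinearMap - LinearMap.id)) = 9 := by
  rw [show (1 : MV ≃ₗ[F] MV).toLinearMap - LinearMap.id = 0 from sub_self _, LinearMap.ker_zero,
    finrank_top, finrank_MV O hι]

/-- A pure involution with three dimensional fixed space is a half turn of a factor. -/
theorem pure_fix_three {w : MV ≃ₗ[F] MV} (hwi : ∀ X Y, f (w X) (w Y) = f X Y) (hw : Pure w)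
    (hw2 : w * w = 1) (hfix : finrank F (LinearMap.ker (w.toLinearMap - LinearMap.id)) = 3) :
    (∃ (a : ι → F) (ha : f1 a a ≠ 0), w = turn O.h1 ha) ∨
      ∃ (b : ι → F) (hb : f1 b b ≠ 0), w = turnR O.h1 hb := by
  obtain ⟨ε, hε, h | ⟨a, ha, h⟩ | ⟨b, hb, h⟩ | ⟨a, ha, b, hb, h⟩⟩ := pure_invol O hι hwi hw hw2
  · rcases fix_sign O hι (v := 1) (one_mul 1) hε h with e | e
    · rw [e, fix_one O hι] at hfix
      omega
    · rw [hfix, fix_one O hι] at e
      omega
  · rcases fix_sign O hι (turn_sq O.h1 ha) hε h with e | e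
    · exact Or.inl ⟨a, ha, e⟩
    · rw [hfix, fix_turn_three O hι ha] at e
      omega
  · rcases fix_sign O hι (turnR_sq O hb) hε h with e | e
    · exact Or.inr ⟨b, hb, e⟩
    · rw [hfix, fix_turnR_three O hι hb] at e
      omega
  · rcases fix_sign O hι (v := turn O.h1 ha * turnR O.h1 hb) (by
      rw [mul_assoc, ← mul_assoc (turnR O.h1 hb), ← turn_turnR O ha hb, mul_assoc, turnR_sq O hb, mul_one,
        turn_sq O.h1 ha]) hε h with e | e
    · rw [e, fix_mixed O hι ha hb] at hfix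
      omega
    · rw [hfix, fix_mixed O hι ha hb] at e
      omega

/-- A pure involution with five dimensional fixed space is a product of half turns of both factors. -/
theorem pure_fix_five {w : MV ≃ₗ[F] MV} (hwi : ∀ X Y, f (w X) (w Y) = f X Y) (hw : Pure w)
    (hw2 : w * w = 1) (hfix : finrank F (LinearMap.ker (w.toLinearMap - LinearMap.id)) = 5) :
    ∃ (a : ι → F) (ha : f1 a a ≠ 0) (b : ι → F) (hb : f1 b b ≠ 0),
      w = turn O.h1 ha * turnR O.h1 hb := by
  obtain ⟨ε, hε, h | ⟨a, ha, h⟩ | ⟨b, hb, h⟩ | ⟨a, ha, b, hb, h⟩⟩ := pure_invol O hι hwi hw hw2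
  · rcases fix_sign O hι (v := 1) (one_mul 1) hε h with e | e
    · rw [e, fix_one O hι] at hfix
      omega
    · rw [hfix, fix_one O hι] at e
      omega
  · rcases fix_sign O hι (turn_sq O.h1 ha) hε h with e | e
    · rw [e, fix_turn_three O hι ha] at hfix
      omega
    · rw [hfix, fix_turn_three O hι ha] at e
      omega
  · rcases fix_sign O hι (turnR_sq O hb) hε h with e | e
    · rw [e, fix_turnR_three O hι hb] at hfix
      omega
    · rw [hfix, fix_turnR_three O hι hb] at e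
      omega
  · rcases fix_sign O hι (v := turn O.h1 ha * turnR O.h1 hb) (by
      rw [mul_assoc, ← mul_assoc (turnR O.h1 hb), ← turn_turnR O ha hb, mul_assoc, turnR_sq O hb, mul_one,
        turn_sq O.h1 ha]) hε h with e | e
    · exact ⟨a, ha, b, hb, e⟩
    · rw [hfix, fix_mixed O hι ha hb] at e
      omega

omit [Finite F] in
/-- The shape of an involution exchanging the factors. -/
theorem swap_shape {S : MV ≃ₗ[F] MV} (hSi : ∀ X Y, f (S X) (S Y) = f X Y) (hS2 : S * S = 1)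
    {P R : (ι → F) →ₗ[F] (ι → F)} (hS : ∀ c x, S (vecMulVec c x) = vecMulVec (P x) (R c)) :
    ∃ (t lam : F) (Re : (ι → F) ≃ₗ[F] (ι → F)), t * t = 1 ∧ lam ≠ 0 ∧ (∀ c, Re c = R c) ∧
      (∀ x, P x = t • Re.symm x) ∧ ∀ c d, f1 (R c) (R d) = lam * f1 c d := by
  haveI := nonempty_ι O
  obtain ⟨c₀, hc₀⟩ := exists_ne (0 : ι → F)
  have hRi : Function.Injective R := (injective_iff_map_eq_zero R).2 fun c hc => by
    have := hS c c₀
    rw [hc, vmv_zero, S.map_eq_zero_iff, vmv_eq_zero] at this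
    exact this.resolve_right hc₀
  let Re := LinearEquiv.ofInjectiveEndo R hRi
  have hRe : ∀ c, Re c = R c := fun _ => rfl
  obtain ⟨ν, hν⟩ := exists_dot_one hc₀
  set s := R (P c₀) ⬝ᵥ ν with hs
  have hsq : ∀ c x, vecMulVec (P (R c)) (R (P x)) = vecMulVec c x := fun c x => by
    rw [← hS, ← hS, ← LinearEquiv.mul_apply, hS2]
    rfl
  have hPR : ∀ c, s • P (R c) = c := fun c => by
    have := congrArg (fun X : MV => X *ᵥ ν) (hsq c c₀)
    simpa only [vm, hν, one_smul] using this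
  have hs0 : s ≠ 0 := fun e0 => hc₀ (by rw [← hPR c₀, e0, zero_smul])
  have hP : ∀ x, P x = s⁻¹ • Re.symm x := fun x => by
    obtain ⟨c, rfl⟩ := Re.surjective x
    rw [Re.symm_apply_apply, hRe]
    conv_rhs => rw [← hPR c, smul_smul, inv_mul_cancel₀ hs0, one_smul]
  have hss : s⁻¹ * s⁻¹ = 1 := by
    have h := hsq c₀ c₀
    have hRR : R (Re.symm c₀) = c₀ := by rw [← hRe, Re.apply_symm_apply]
    rw [hP, hP, ← hRe c₀, Re.symm_apply_apply, map_smul, hRR, smul_vecMulVec, vmv_smul, smul_smul] at h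
    have h' : (s⁻¹ * s⁻¹ - 1) • vecMulVec c₀ c₀ = (0 : MV) := by rw [sub_smul, h, one_smul, sub_self]
    exact sub_eq_zero.1 ((smul_eq_zero.1 h').resolve_right (vmv_ne_zero hc₀ hc₀))
  obtain ⟨y, hy⟩ := O.h2.exists_left hc₀
  set μ := f1 (P y) (P c₀) with hμ
  have hRμ : ∀ c d, μ * f1 (R c) (R d) = f1 c d := fun c d => by
    rw [hμ, ← O.f_pure, ← hS, ← hS, hSi, O.f_pure, hy, mul_one]
  have hμ0 : μ ≠ 0 := fun e0 => one_ne_zero (α := F) (by rw [← hy, ← hRμ, e0, zero_mul])
  exact ⟨s⁻¹, μ⁻¹, Re, hss, inv_ne_zero hμ0, hRe, hP, fun c d => by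
    rw [← hRμ c d, inv_mul_cancel_left₀ hμ0]⟩

/-- An involution exchanging the factors has no five dimensional fixed space. -/
theorem swap_fix {S : MV ≃ₗ[F] MV} (hSi : ∀ X Y, f (S X) (S Y) = f X Y) (hS2 : S * S = 1)
    {P R : (ι → F) →ₗ[F] (ι → F)} (hS : ∀ c x, S (vecMulVec c x) = vecMulVec (P x) (R c)) :
    finrank F (LinearMap.ker (S.toLinearMap - LinearMap.id)) ≠ 5 := by
  obtain ⟨t, lam, Re, ht, -, hRe, hP, -⟩ := swap_shape O hι hSi hS2 hS
  set τ : MV ≃ₗ[F] MV := Matrix.transposeLinearEquiv ι ι F F with hτ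
  set Φ : MV ≃ₗ[F] MV := te (LinearEquiv.refl F _) Re
  have hτ2 : τ * τ = 1 := LinearEquiv.ext fun X => Matrix.transpose_transpose X
  have h : ∀ X, (Φ⁻¹ * S * Φ) X = t • τ X := by
    refine fun X => ext_pure (A := (Φ⁻¹ * S * Φ).toLinearMap) (B := t • τ.toLinearMap) (fun c x => ?_) X
    show Φ.symm (S (Φ (vecMulVec c x))) = t • τ (vecMulVec c x)
    rw [Φ.symm_apply_eq, map_smul,
      show τ (vecMulVec c x) = vecMulVec x c from Matrix.transpose_vecMulVec c x, te_pure, te_pure, hS,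
      hP, smul_vecMulVec, Re.symm_apply_apply, ← hRe]
    rfl
  have h6 := fix_transpose (F := F) hι
  rw [← hτ] at h6
  intro h5
  have e : finrank F (LinearMap.ker ((Φ⁻¹ * S * Φ).toLinearMap - LinearMap.id)) = 5 := by
    rw [show Φ⁻¹ * S * Φ = Φ⁻¹ * S * Φ⁻¹⁻¹ by rw [inv_inv], fixed_conj O, LinearEquiv.finrank_map_eq, h5]
  rcases fix_sign O hι hτ2 ht h with he | he
  · rw [he] at e
    omega
  · omega

end CfsgLib.MaxSub.TensorOO
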