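/-
Two three dimensional factors: without elements of rank two the overgroup respects the decomposition up
to an exchange of the factors.
-/
import Cfsg.Agent.Lib.MaxSub.TensorOO.ThreeInvol

set_option autoImplicit false
set_option maxHeartbeats 1000000
set_option linter.unusedSectionVars false

namespace CfsgLib.MaxSub.TensorOO

open Matrix Module
open CfsgLib.MaxSub.TensorSympOrth (SForm ext_pure vmv_smul vmv_sub sub_vmv vmv_neg neg_vmv vmv_ne_zero)
open CfsgLib.MaxSub.TensorLin (Col colMap colMap_apply mem_col vmv_eq_zero vmv_zero vm exists_dot_one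
  colMap_injective finrank_col)

variable {F : Type*} [Field F] {ι : Type*} [Fintype ι] [DecidableEq ι]

local notation "MV" => Matrix ι ι F

variable {f1 : (ι → F) → (ι → F) → F}
  {f : Matrix ι ι F → Matrix ι ι F → F} {G : Subgroup (Matrix ι ι F ≃ₗ[F] Matrix ι ι F)}

/-- The data used for two three dimensional factors. -/
structure Sq (O : OO f1 f1 f G) : Prop where
  noRoot : NoRoot O
  dim : Fintype.card ι = 3
  good : ∀ c, f1 c c ≠ 0 → ∃ (e : ι → F) (he : f1 e e ≠ 0), f1 e c = 0 ∧ turn O.h1 he ∈ G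
  sw : ∃ (w : ι → F) (hw : f1 w w ≠ 0), swp (reflE O.h1 hw) ∈ G

theorem mul_sq_one {H : Type*} [Group H] {p q : H} (h : p * q = q * p) (hp : p * p = 1)
    (hq : q * q = 1) : p * q * (p * q) = 1 := by
  rw [mul_assoc p q (p * q), ← mul_assoc q p q, ← h, mul_assoc p q q, hq, mul_one, hp]

variable {O : OO f1 f1 f G} (S : Sq O)
include S

theorem refl_symm {w : ι → F} (hw : f1 w w ≠ 0) (x y : ι → F) :
    f1 (O.h1.refl w x) y = f1 x (O.h1.refl w y) := by
  conv_lhs => rw [← O.h1.refl_refl hw y]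
  rw [O.h1.refl_isom hw]

theorem swp_symm_pure {w : ι → F} (hw : f1 w w ≠ 0) (u v : ι → F) :
    (swp (reflE O.h1 hw)).symm (vecMulVec u v) = vecMulVec (O.h1.refl w v) u := by
  rw [LinearEquiv.symm_apply_eq, swp_pure, reflE_apply, O.h1.refl_refl hw]

theorem turn_perp {a b : ι → F} (ha : f1 a a ≠ 0) (hb : f1 b b ≠ 0) (hab : f1 a b = 0) :
    (turn O.h1 ha : MV ≃ₗ[F] MV) * turn O.h1 hb = turn O.h1 hb * turn O.h1 ha :=
  left_equiv_ext O (L := halfTurn O.h1 a ∘ₗ halfTurn O.h1 b)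
    (fun c x => by rw [LinearEquiv.mul_apply, turn_pure, turn_pure]; rfl) fun c x => by
      rw [LinearEquiv.mul_apply, turn_pure, turn_pure]
      congr 1
      simp only [LinearMap.comp_apply, halfTurn_apply, O.h1.sub_left, O.h1.smul_left, hab,
        O.h1.symm0 hab]
      match_scalars <;> ring

variable [Finite F]

theorem goodR {d : ι → F} (hd : f1 d d ≠ 0) :
    ∃ (e : ι → F) (he : f1 e e ≠ 0), f1 e d = 0 ∧ turnR O.h1 he ∈ G := by
  obtain ⟨w, hw, hσ⟩ := S.sw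
  obtain ⟨e, he, hed, heG⟩ := S.good (O.h1.refl w d) (by rwa [O.h1.refl_isom hw])
  have he' : f1 (O.h1.refl w e) (O.h1.refl w e) ≠ 0 := by rwa [O.h1.refl_isom hw]
  refine ⟨O.h1.refl w e, he', by rw [refl_symm S hw]; exact hed, ?_⟩
  have e1 : (turnR O.h1 he' : MV ≃ₗ[F] MV) =
      swp (reflE O.h1 hw) * turn O.h1 he * (swp (reflE O.h1 hw))⁻¹ :=
    right_equiv_ext O (fun c x => turnR_pure O.h1 he' c x) fun c x => by
      show swp (reflE O.h1 hw) (turn O.h1 he ((swp (reflE O.h1 hw)).symm (vecMulVec c x))) = _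
      rw [swp_symm_pure S hw, turn_pure, swp_pure, reflE_apply]
      congr 1
      rw [halfTurn_apply, halfTurn_apply, map_sub, map_smul, O.h1.refl_refl hw, O.h1.refl_isom hw,
        refl_symm S hw x e]
  rw [e1]
  exact mul_mem (mul_mem hσ heG) (inv_mem hσ)

/-- Conjugation by the exchange moves half turns of the second factor to the first. -/
theorem swp_turnR {w : ι → F} (hw : f1 w w ≠ 0) {d : ι → F} (hd : f1 d d ≠ 0) :
    swp (reflE O.h1 hw) * turnR O.h1 hd * (swp (reflE O.h1 hw))⁻¹ = (turn O.h1 hd : MV ≃ₗ[F] MV) :=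
  left_equiv_ext O (L := halfTurn O.h1 d) (fun c x => by
    show swp (reflE O.h1 hw) (turnR O.h1 hd ((swp (reflE O.h1 hw)).symm (vecMulVec c x))) = _
    rw [swp_symm_pure S hw, turnR_pure, swp_pure, reflE_apply, O.h1.refl_refl hw])
    fun c x => turn_pure O.h1 hd c x

theorem pure_of_comm_turnR {d : ι → F} (hd : f1 d d ≠ 0) {g : MV ≃ₗ[F] MV} (hg : g ∈ G)
    (hc : turnR O.h1 hd * g = g * turnR O.h1 hd) : Pure g := by
  obtain ⟨w, hw, hσ⟩ := S.sw
  obtain ⟨L, M, hLM⟩ : Pure (swp (reflE O.h1 hw) * g * (swp (reflE O.h1 hw))⁻¹) :=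
    pure_of_comm_turn_three O S.noRoot S.dim hd (mul_mem (mul_mem hσ hg) (inv_mem hσ)) (by
      rw [← swp_turnR S hw hd, conj_mul, conj_mul, hc])
  refine ⟨O.h1.refl w ∘ₗ M ∘ₗ O.h1.refl w, L, fun c x => ?_⟩
  have e : g = (swp (reflE O.h1 hw))⁻¹ * (swp (reflE O.h1 hw) * g * (swp (reflE O.h1 hw))⁻¹) *
      swp (reflE O.h1 hw) := by group
  rw [e]
  show (swp (reflE O.h1 hw)).symm ((swp (reflE O.h1 hw) * g * (swp (reflE O.h1 hw))⁻¹)
    (swp (reflE O.h1 hw) (vecMulVec c x))) = _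
  rw [swp_pure, hLM, swp_symm_pure S hw, reflE_apply]
  rfl

/-- An element commuting with a half turn of either factor is pure. -/
theorem pure_of_comm_side {y : MV ≃ₗ[F] MV}
    (hy : (∃ (a : ι → F) (ha : f1 a a ≠ 0), y = turn O.h1 ha) ∨
      ∃ (b : ι → F) (hb : f1 b b ≠ 0), y = turnR O.h1 hb)
    {g : MV ≃ₗ[F] MV} (hg : g ∈ G) (hc : y * g = g * y) : Pure g := by
  rcases hy with ⟨a, ha, rfl⟩ | ⟨b, hb, rfl⟩
  · exact pure_of_comm_turn_three O S.noRoot S.dim ha hg hc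
  · exact pure_of_comm_turnR S hb hg hc

theorem semi_inv {g : MV ≃ₗ[F] MV} (h : Semi g) : Semi g⁻¹ := by
  haveI := nonempty_ι O
  exact h.inv

/-- An element mapping a half turn to one of either factor respects or exchanges the factors. -/
theorem semi_of_turns {a : ι → F} (ha : f1 a a ≠ 0) {g : MV ≃ₗ[F] MV} (hg : g ∈ G)
    (h : (∃ (c : ι → F) (hc : f1 c c ≠ 0), g * turn O.h1 ha * g⁻¹ = turn O.h1 hc) ∨
      ∃ (d : ι → F) (hd : f1 d d ≠ 0), g * turn O.h1 ha * g⁻¹ = turnR O.h1 hd) : Semi g := by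
  have hblk : ∀ {h : MV ≃ₗ[F] MV} {c : ι → F} (hc : f1 c c ≠ 0), h ∈ G →
      h * turn O.h1 ha * h⁻¹ = turn O.h1 hc → Pure h := fun {h c} hc hh e =>
    pure_of_block_three O S.noRoot S.dim ha hc hh fun x => ⟨_, eq_of_turn O hc (by
      rw [← e]
      show h (turn O.h1 ha (h.symm (h (vecMulVec a x)))) = _
      rw [h.symm_apply_apply, turn_self])⟩
  rcases h with ⟨c, hc, e⟩ | ⟨d, hd, e⟩
  · exact Or.inl (hblk hc hg e)
  obtain ⟨w, hw, hσ⟩ := S.sw
  have h1 := hblk hd (mul_mem hσ hg) (by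
    rw [← swp_turnR S hw hd, ← e]
    group)
  have h2 : Semi (swp (reflE O.h1 hw) : MV ≃ₗ[F] MV) :=
    Or.inr ⟨LinearMap.id, O.h1.refl w, fun c x => by rw [swp_pure, reflE_apply]; rfl⟩
  have := (semi_inv S h2).mul (Or.inl h1)
  rwa [inv_mul_cancel_left] at this

theorem fix_conj_eq (x t : MV ≃ₗ[F] MV) :
    finrank F (LinearMap.ker ((x * t * x⁻¹).toLinearMap - LinearMap.id)) =
      finrank F (LinearMap.ker (t.toLinearMap - LinearMap.id)) := by
  rw [fixed_conj O, LinearEquiv.finrank_map_eq]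

theorem pu_tm {α β : (ι → F) ≃ₗ[F] (ι → F)} (hα : ∀ c d, f1 (α c) (α d) = f1 c d)
    (hβ : ∀ c d, f1 (β c) (β d) = f1 c d)
    (nα : IsNilpotent ((α.toLinearMap : Module.End F (ι → F)) - 1))
    (nβ : IsNilpotent ((β.toLinearMap : Module.End F (ι → F)) - 1)) : te α β ∈ G := by
  refine pu_te O hα hβ ?_
  have a1 := IsNilpotent.map nα (tmL (κ := ι))
  have b1 := IsNilpotent.map nβ (tmR (ι := ι))
  rw [map_sub, map_one] at a1 b1
  set A : Module.End F MV := tmL α.toLinearMap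
  set B : Module.End F MV := tmR β.toLinearMap
  have hAB : Commute A B := LinearMap.ext fun X => by
    show tm α.toLinearMap LinearMap.id (tm LinearMap.id β.toLinearMap X) =
      tm LinearMap.id β.toLinearMap (tm α.toLinearMap LinearMap.id X)
    rw [tm_tm, tm_tm]
    rfl
  have e : (tm α.toLinearMap β.toLinearMap : Module.End F MV) = A * B := LinearMap.ext fun X => by
    show _ = tm α.toLinearMap LinearMap.id (tm LinearMap.id β.toLinearMap X)
    rw [tm_tm]
    rfl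
  rw [e, show A * B - 1 = (A - 1) * B + (B - 1) by rw [sub_mul, one_mul]; abel]
  have c0 : Commute (A - 1) B := hAB.sub_left (Commute.one_left B)
  refine Commute.isNilpotent_add ?_ (Commute.isNilpotent_mul_right c0 a1) b1
  exact (((hAB.sub_left (Commute.one_left B)).sub_right (Commute.one_right _)).mul_left
    ((Commute.refl B).sub_right (Commute.one_right B)))

/-- A half turn is not conjugate to an element exchanging the factors. -/
theorem semi_of_conj_semi {a : ι → F} (ha : f1 a a ≠ 0) (haG : turn O.h1 ha ∈ G) {g : MV ≃ₗ[F] MV}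
    (hg : g ∈ G) (h : Semi (g * turn O.h1 ha * g⁻¹)) : Semi g := by
  set T : MV ≃ₗ[F] MV := turn O.h1 ha
  set S₀ := g * T * g⁻¹ with hS₀
  have hS₀G : S₀ ∈ G := mul_mem (mul_mem hg haG) (inv_mem hg)
  have hS₀2 : S₀ * S₀ = 1 := by rw [hS₀, conj_mul, turn_sq, mul_one, mul_inv_cancel]
  rcases h with hp | ⟨P, R, hS⟩
  · have hfix : finrank F (LinearMap.ker (S₀.toLinearMap - LinearMap.id)) = 3 := by
      rw [hS₀, fix_conj_eq S, fix_turn_three O S.dim ha]
    exact semi_of_turns S ha hg (pure_fix_three O S.dim (O.isom _ hS₀G) hp hS₀2 hfix)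
  exfalso
  obtain ⟨t, lam, Re, -, hlam, hRe, hP, hRl⟩ := swap_shape O S.dim (O.isom _ hS₀G) hS₀2 hS
  obtain ⟨b, hb0, hb⟩ := O.h1.exists_iso (hda O)
  obtain ⟨b', hb', hbb⟩ := exists_pair O.h1 hb0 hb
  obtain ⟨k, hk, hkk⟩ := exists_aniso_pairPerp O.h1 (hda O) hb hb' hbb
  obtain ⟨hkb, hkb'⟩ := (mem_pairPerp O.h1).1 hk
  have hbk := O.h1.symm0 hkb
  have hb'k := O.h1.symm0 hkb'
  -- the diagonal elements
  have hdiag : ∀ {η : ι → F}, f1 η η = 0 → f1 η k = 0 → ∃ (α : (ι → F) ≃ₗ[F] (ι → F)) (x : MV ≃ₗ[F] MV),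
      (∀ c, α c = eich O.h1 η k c) ∧ x ∈ G ∧ Unip x ∧ x * S₀ = S₀ * x ∧
      (∀ c u, x (vecMulVec c u) = vecMulVec (α c) (R (α (Re.symm u)))) := by
    intro η hη hηk
    have hn : f1 η (-k) = 0 := by rw [O.h1.neg_right, hηk, neg_zero]
    let α : (ι → F) ≃ₗ[F] (ι → F) := LinearEquiv.ofLinearMap (eich O.h1 η k) (eich O.h1 η (-k))
      (LinearMap.ext fun x => by
        show eich O.h1 η k (eich O.h1 η (-k) x) = x
        rw [eich_mul O.h1 hη hηk hn, add_neg_cancel, eich_zero])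
      (LinearMap.ext (eich_inv O.h1 hη hηk))
    let β : (ι → F) ≃ₗ[F] (ι → F) := Re.symm.trans (α.trans Re)
    have hαi : ∀ c d, f1 (α c) (α d) = f1 c d := eich_isom O.h1 hη hηk
    have hβi : ∀ c d, f1 (β c) (β d) = f1 c d := fun c d => by
      show f1 (Re (α (Re.symm c))) (Re (α (Re.symm d))) = _
      rw [hRe, hRe, hRl, hαi, ← hRl, ← hRe, ← hRe, Re.apply_symm_apply, Re.apply_symm_apply]
    have nα : IsNilpotent ((α.toLinearMap : Module.End F (ι → F)) - 1) := ⟨3, eich_cube O.h1 hη hηk⟩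
    have nβ : IsNilpotent ((β.toLinearMap : Module.End F (ι → F)) - 1) := by
      obtain ⟨n, hn⟩ := nα
      refine ⟨n, LinearMap.ext fun u => ?_⟩
      have : ∀ j, ((((β.toLinearMap : Module.End F (ι → F)) - 1) ^ j : Module.End F (ι → F))) u =
          Re (((((α.toLinearMap : Module.End F (ι → F)) - 1) ^ j : Module.End F (ι → F))) (Re.symm u)) := fun j => by
        induction j with
        | zero => simp
        | succ j ih =>
          rw [pow_succ', pow_succ', Module.End.mul_apply, Module.End.mul_apply, ih, LinearMap.sub_apply,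
            LinearMap.sub_apply, Module.End.one_apply, Module.End.one_apply, map_sub]
          congr 1
          show Re (α (Re.symm (Re _))) = _
          rw [Re.symm_apply_apply]
          rfl
      rw [this, hn, LinearMap.zero_apply, map_zero, LinearMap.zero_apply]
    set x : MV ≃ₗ[F] MV := te α β
    have hxX : ∀ c u, x (vecMulVec c u) = vecMulVec (α c) (R (α (Re.symm u))) := fun c u => by
      rw [te_pure, ← hRe]
      rfl
    have hxG : x ∈ G := pu_tm S hαi hβi nα nβ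
    refine ⟨α, x, fun c => rfl, hxG, ?_, LinearEquiv.ext fun X => ext_pure
      (A := (x * S₀).toLinearMap) (B := (S₀ * x).toLinearMap) (fun c u => ?_) X, hxX⟩
    · obtain ⟨p, hp'⟩ := CharP.exists F
      haveI : Fact p.Prime := ⟨CharP.char_is_prime F p⟩
      have a1 := IsNilpotent.map nα (tmL (κ := ι))
      have b1 := IsNilpotent.map nβ (tmR (ι := ι))
      rw [map_sub, map_one] at a1 b1
      haveI := nonempty_ι O
      obtain ⟨c₁, hc₁⟩ := exists_ne (0 : ι → F)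
      haveI : Nontrivial MV := ⟨⟨vecMulVec c₁ c₁, 0, vmv_ne_zero hc₁ hc₁⟩⟩
      obtain ⟨i, hi⟩ := pow_eq_one_of_nil p a1
      obtain ⟨j, hj⟩ := pow_eq_one_of_nil p b1
      refine nil_of_pow_eq_one p (k := i + j) ?_
      have e : (x.toLinearMap : Module.End F MV) = tmL α.toLinearMap * tmR β.toLinearMap :=
        LinearMap.ext fun X => by
          show tm α.toLinearMap β.toLinearMap X = tm α.toLinearMap LinearMap.id (tm LinearMap.id β.toLinearMap X)
          rw [tm_tm]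
          rfl
      have hAB : Commute (tmL (κ := ι) α.toLinearMap) (tmR (ι := ι) β.toLinearMap : Module.End F MV) :=
        LinearMap.ext fun X => by
          show tm α.toLinearMap LinearMap.id (tm LinearMap.id β.toLinearMap X) =
            tm LinearMap.id β.toLinearMap (tm α.toLinearMap LinearMap.id X)
          rw [tm_tm, tm_tm]
          rfl
      rw [e, hAB.mul_pow, pow_add, pow_mul, hi, one_pow, one_mul, mul_comm (p ^ i), pow_mul, hj, one_pow]
    · show x (S₀ (vecMulVec c u)) = S₀ (x (vecMulVec c u))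
      rw [hS, hxX, hxX, hS, hP, hP, map_smul, smul_vecMulVec, smul_vecMulVec]
      simp only [← hRe, Re.symm_apply_apply]
  obtain ⟨α₁, x₁, hα₁, hx₁G, hx₁u, hx₁S, hx₁⟩ := hdiag hb hbk
  obtain ⟨α₂, x₂, hα₂, hx₂G, hx₂u, hx₂S, hx₂⟩ := hdiag hb' hb'k
  -- their images act on the second factor
  have himg : ∀ {x : MV ≃ₗ[F] MV}, x ∈ G → Unip x → x * S₀ = S₀ * x →
      ∃ M : (ι → F) →ₗ[F] (ι → F), (∀ u v, f1 (M u) (M v) = f1 u v) ∧
        IsNilpotent ((M : Module.End F (ι → F)) - 1) ∧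
        ∀ c u, (g⁻¹ * x * g) (vecMulVec c u) = vecMulVec c (M u) := by
    intro x hx hxu hxS
    have hyG : g⁻¹ * x * g ∈ G := mul_mem (mul_mem (inv_mem hg) hx) hg
    have hyT : T * (g⁻¹ * x * g) = (g⁻¹ * x * g) * T := by
      rw [show T = g⁻¹ * S₀ * g by rw [hS₀]; group]
      calc g⁻¹ * S₀ * g * (g⁻¹ * x * g) = g⁻¹ * (S₀ * x) * g := by group
        _ = g⁻¹ * (x * S₀) * g := by rw [hxS]
        _ = _ := by group
    have hyu : Unip (g⁻¹ * x * g) := by
      have := hxu.conj g⁻¹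
      rwa [inv_inv] at this
    exact pure_unip_block O S.dim (O.isom _ hyG) (pure_of_comm_turn_three O S.noRoot S.dim ha hyG hyT) hyu
      ha fun u => ⟨_, eq_of_turn O ha (by
        have := LinearEquiv.congr_fun hyT (vecMulVec a u)
        change T ((g⁻¹ * x * g) (vecMulVec a u)) = (g⁻¹ * x * g) (T (vecMulVec a u)) at this
        rwa [show T (vecMulVec a u) = vecMulVec a u from turn_self O.h1 ha u] at this)⟩
  obtain ⟨M₁, hM₁i, hM₁n, hM₁⟩ := himg hx₁G hx₁u hx₁S
  obtain ⟨M₂, hM₂i, hM₂n, hM₂⟩ := himg hx₂G hx₂u hx₂S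
  -- a common fixed vector
  let φ : MV →ₗ[F] F :=
    { toFun := fun X => ∑ i, f1 (Pi.single i 1) (Re.symm (X i))
      map_add' := fun X Y => by
        rw [← Finset.sum_add_distrib]
        exact Finset.sum_congr rfl fun i _ => by
          rw [show (X + Y) i = X i + Y i from rfl, map_add, O.h1.add_right]
      map_smul' := fun r X => by
        rw [RingHom.id_apply, smul_eq_mul, Finset.mul_sum]
        exact Finset.sum_congr rfl fun i _ => by
          rw [show (r • X) i = r • X i from rfl, map_smul, O.h1.smul_right] }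
  have hφ : ∀ c u, φ (vecMulVec c u) = f1 c (Re.symm u) := fun c u => by
    show ∑ i, f1 (Pi.single i 1) (Re.symm (vecMulVec c u i)) = _
    conv_rhs => rw [pi_eq_sum_univ' c, O.h1.sum_left]
    refine Finset.sum_congr rfl fun i _ => ?_
    rw [show vecMulVec c u i = c i • u from rfl, map_smul, O.h1.smul_right, O.h1.smul_left]
  obtain ⟨v₀, hv₀⟩ := O.h.exists_repr φ
  have hfixv : ∀ {α : (ι → F) ≃ₗ[F] (ι → F)} {x : MV ≃ₗ[F] MV}, x ∈ G →
      (∀ c d, f1 (α c) (α d) = f1 c d) →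
      (∀ c u, x (vecMulVec c u) = vecMulVec (α c) (R (α (Re.symm u)))) → x v₀ = v₀ := by
    intro α x hx hαi hxX
    refine O.h.ext_left fun Y => ?_
    obtain ⟨Z, rfl⟩ := x.surjective Y
    rw [O.isom x hx, O.h.symm Z v₀, O.h.symm (x Z) v₀, ← hv₀, ← hv₀]
    refine ext_pure (A := φ) (B := φ ∘ₗ x.toLinearMap) (fun c u => ?_) Z
    show φ (vecMulVec c u) = φ (x (vecMulVec c u))
    rw [hφ, hxX, hφ, ← hRe, Re.symm_apply_apply, hαi]
  have hv₀0 : v₀ ≠ 0 := fun e0 => by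
    haveI := nonempty_ι O
    obtain ⟨c₁, hc₁⟩ := exists_ne (0 : ι → F)
    obtain ⟨y, hy⟩ := O.h1.exists_left hc₁
    have := hv₀ (vecMulVec y (Re c₁))
    rw [hφ, Re.symm_apply_apply, hy, e0, O.h.zero_right] at this
    exact one_ne_zero this
  set v := g.symm v₀ with hv
  have hv0 : v ≠ 0 := fun e0 => hv₀0 (by rw [← g.apply_symm_apply v₀, ← hv, e0, map_zero])
  obtain ⟨c₁, hc₁⟩ : ∃ c, cw O c v ≠ 0 := by
    by_contra hcon
    push Not at hcon
    exact hv0 (O.h.nondeg v fun Y => ext_pure (A := O.h.lin v) (B := 0) (fun c u => by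
      rw [SForm.lin_apply, O.h.symm, f_cw O, hcon, O.h1.zero_left, LinearMap.zero_apply]) Y |>
        fun e => O.h.symm0 e)
  set r := cw O c₁ v
  have hrfix : ∀ {α : (ι → F) ≃ₗ[F] (ι → F)} {x : MV ≃ₗ[F] MV} {M : (ι → F) →ₗ[F] (ι → F)}, x ∈ G →
      (∀ c d, f1 (α c) (α d) = f1 c d) →
      (∀ c u, x (vecMulVec c u) = vecMulVec (α c) (R (α (Re.symm u)))) →
      (∀ c u, (g⁻¹ * x * g) (vecMulVec c u) = vecMulVec c (M u)) → M r = r := by
    intro α x M hx hαi hxX hM
    have e1 : (g⁻¹ * x * g) v = v := by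
      show g.symm (x (g (g.symm v₀))) = g.symm v₀
      rw [g.apply_symm_apply, hfixv hx hαi hxX]
    have e2 : ∀ X, cw O c₁ ((g⁻¹ * x * g) X) = M (cw O c₁ X) :=
      ext_pure (A := cw O c₁ ∘ₗ (g⁻¹ * x * g).toLinearMap) (B := M ∘ₗ cw O c₁) (fun c u => by
        show cw O c₁ ((g⁻¹ * x * g) (vecMulVec c u)) = M (cw O c₁ (vecMulVec c u))
        rw [hM, cw_pure, cw_pure, map_smul])
    have := e2 v
    rwa [e1, eq_comm] at this
  have h₁i : ∀ c d, f1 (α₁ c) (α₁ d) = f1 c d := fun c d => by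
    rw [hα₁, hα₁]; exact eich_isom O.h1 hb hbk c d
  have h₂i : ∀ c d, f1 (α₂ c) (α₂ d) = f1 c d := fun c d => by
    rw [hα₂, hα₂]; exact eich_isom O.h1 hb' hb'k c d
  have hr₁ := hrfix hx₁G h₁i hx₁ hM₁
  have hr₂ := hrfix hx₂G h₂i hx₂ hM₂
  have hMM : ∀ u, M₁ (M₂ u) = M₂ (M₁ u) := by
    by_cases e₁ : M₁ = LinearMap.id
    · intro u; rw [e₁]; rfl
    by_cases e₂ : M₂ = LinearMap.id
    · intro u; rw [e₂]; rfl
    obtain ⟨η₁, k₁, hη₁0, hη₁, hηk₁, hkk₁, hE₁⟩ := unip_eq_eich O.h1 S.dim hM₁i hM₁n e₁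
    obtain ⟨η₂, k₂, hη₂0, hη₂, hηk₂, hkk₂, hE₂⟩ := unip_eq_eich O.h1 S.dim hM₂i hM₂n e₂
    have m₁ := eich_fixed_mem O.h1 S.dim hη₁0 hη₁ hηk₁ hkk₁ (x := r) (by rw [← hE₁]; exact hr₁)
    have m₂ := eich_fixed_mem O.h1 S.dim hη₂0 hη₂ hηk₂ hkk₂ (x := r) (by rw [← hE₂]; exact hr₂)
    obtain ⟨s₁, hs₁⟩ := Submodule.mem_span_singleton.1 m₁
    obtain ⟨s₂, hs₂⟩ := Submodule.mem_span_singleton.1 m₂
    have hs₂0 : s₂ ≠ 0 := fun e0 => hc₁ (by rw [← hs₂, e0, zero_smul])
    set q := s₂⁻¹ * s₁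
    have hη : η₂ = q • η₁ := by
      rw [← smul_smul, hs₁, ← hs₂, smul_smul, inv_mul_cancel₀ hs₂0, one_smul]
    have hk₂' : f1 η₁ k₂ = 0 := by
      have h := hηk₂
      rw [hη, O.h1.smul_left] at h
      refine (mul_eq_zero.1 h).resolve_left fun h0 => hη₂0 ?_
      rw [hη, h0, zero_smul]
    have hq : f1 η₁ (q • k₂) = 0 := by rw [O.h1.smul_right, hk₂', mul_zero]
    have hE₂' : M₂ = eich O.h1 η₁ (q • k₂) := LinearMap.ext fun u => by
      rw [hE₂, hη, eich_apply, eich_apply, O.h1.smul_right, O.h1.smul_right, O.h1.smul_right,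
        O.h1.smul_left]
      match_scalars <;> ring
    intro u
    rw [hE₁, hE₂', eich_mul O.h1 hη₁ hηk₁ hq, eich_mul O.h1 hη₁ hq hηk₁, add_comm]
  have hxx : x₁ * x₂ = x₂ * x₁ := by
    have e : (g⁻¹ * x₁ * g) * (g⁻¹ * x₂ * g) = (g⁻¹ * x₂ * g) * (g⁻¹ * x₁ * g) :=
      right_equiv_ext O (M := M₁ ∘ₗ M₂) (fun c u => by rw [LinearEquiv.mul_apply, hM₂, hM₁]; rfl)
        fun c u => by rw [LinearEquiv.mul_apply, hM₁, hM₂, LinearMap.comp_apply, hMM]
    calc x₁ * x₂ = g * ((g⁻¹ * x₁ * g) * (g⁻¹ * x₂ * g)) * g⁻¹ := by group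
      _ = _ := by rw [e]; group
  -- the preimages do not commute
  obtain ⟨u₀, hu₀⟩ : ∃ u, R (α₁ (Re.symm (R (α₂ (Re.symm u))))) ≠ 0 := ⟨Re b, fun h0 => by
    rw [← hRe, Re.map_eq_zero_iff, α₁.map_eq_zero_iff, Re.map_eq_zero_iff.symm] at h0
    rw [Re.apply_symm_apply, ← hRe, Re.map_eq_zero_iff, α₂.map_eq_zero_iff, Re.symm_apply_apply] at h0
    exact hb0 h0⟩
  obtain ⟨ν, hν⟩ := exists_dot_one hu₀
  have e := LinearEquiv.congr_fun hxx (vecMulVec b u₀)
  rw [LinearEquiv.mul_apply, LinearEquiv.mul_apply, hx₂, hx₁, hx₁, hx₂] at e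
  have e' := congrArg (fun X : MV => X *ᵥ ν) e
  simp only [vm, hν, one_smul] at e'
  set s := R (α₂ (Re.symm (R (α₁ (Re.symm u₀))))) ⬝ᵥ ν
  have hfb : α₁ b = b := by rw [hα₁]; exact eich_fix O.h1 hb hbk
  rw [hfb] at e'
  have hμ : f1 (α₂ b) b ≠ 0 := by
    rw [hα₂, eich_apply, O.h1.add_left, O.h1.sub_left, O.h1.sub_left, O.h1.smul_left, O.h1.smul_left,
      O.h1.smul_left, hb, hkb, O.h1.symm b b', hbb, hbk]
    simpa using div_ne_zero hkk O.h1.two
  have hinv : f1 (α₁ (α₂ b)) b = f1 (α₂ b) b := by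
    conv_lhs => arg 2; rw [← hfb]
    exact h₁i _ _
  have hs1 : s = 1 := by
    have h := congrArg (f1 · b) e'
    simp only [O.h1.smul_left] at h
    rw [hinv] at h
    exact mul_right_cancel₀ hμ (by linear_combination -h)
  rw [hs1, one_smul] at e'
  rw [hα₁] at e'
  exact hμ (eich_fixed O.h1 hb0 hb hbk hkk e').1

theorem turnR_perp {a b : ι → F} (ha : f1 a a ≠ 0) (hb : f1 b b ≠ 0) (hab : f1 a b = 0) :
    (turnR O.h1 ha : MV ≃ₗ[F] MV) * turnR O.h1 hb = turnR O.h1 hb * turnR O.h1 ha :=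
  right_equiv_ext O (M := halfTurn O.h1 a ∘ₗ halfTurn O.h1 b)
    (fun c x => by rw [LinearEquiv.mul_apply, turnR_pure, turnR_pure]; rfl) fun c x => by
      rw [LinearEquiv.mul_apply, turnR_pure, turnR_pure]
      congr 1
      simp only [LinearMap.comp_apply, halfTurn_apply, O.h1.sub_left, O.h1.smul_left, hab,
        O.h1.symm0 hab]
      match_scalars <;> ring

theorem turnR_mul {a b : ι → F} (ha : f1 a a ≠ 0) (hb : f1 b b ≠ 0) (hab : f1 a b = 0) :
    ∃ (d : ι → F) (hd : f1 d d ≠ 0),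
      (turnR O.h1 ha : MV ≃ₗ[F] MV) * turnR O.h1 hb = turnR O.h1 hd := by
  obtain ⟨d, hd, -, -, he⟩ := halfTurn_mul O.h1 S.dim ha hb hab
  exact ⟨d, hd, right_equiv_ext O (fun c x => by
    rw [LinearEquiv.mul_apply, turnR_pure, turnR_pure, ← LinearMap.comp_apply, he])
    fun c x => turnR_pure O.h1 hd c x⟩

theorem mixed_mul {a b c d : ι → F} (ha : f1 a a ≠ 0) (hb : f1 b b ≠ 0) (hc : f1 c c ≠ 0)
    (hd : f1 d d ≠ 0) :
    ((turn O.h1 ha : MV ≃ₗ[F] MV) * turnR O.h1 hb) * (turn O.h1 hc * turnR O.h1 hd) =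
      (turn O.h1 ha * turn O.h1 hc) * (turnR O.h1 hb * turnR O.h1 hd) := by
  rw [mul_assoc, ← mul_assoc (turnR O.h1 hb), ← turn_turnR O hc hb, mul_assoc, mul_assoc]

theorem mixed_sq {a b : ι → F} (ha : f1 a a ≠ 0) (hb : f1 b b ≠ 0) :
    ((turn O.h1 ha : MV ≃ₗ[F] MV) * turnR O.h1 hb) * (turn O.h1 ha * turnR O.h1 hb) = 1 := by
  rw [mixed_mul S, turn_sq, turnR_sq O hb, one_mul]

/-- Commuting products of half turns commute factor by factor. -/
theorem mixed_comm {a b c d : ι → F} (ha : f1 a a ≠ 0) (hb : f1 b b ≠ 0) (hc : f1 c c ≠ 0)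
    (hd : f1 d d ≠ 0)
    (h : ((turn O.h1 ha : MV ≃ₗ[F] MV) * turnR O.h1 hb) * (turn O.h1 hc * turnR O.h1 hd) =
      (turn O.h1 hc * turnR O.h1 hd) * (turn O.h1 ha * turnR O.h1 hb)) :
    (turn O.h1 ha : MV ≃ₗ[F] MV) * turn O.h1 hc = turn O.h1 hc * turn O.h1 ha ∧
      (turnR O.h1 hb : MV ≃ₗ[F] MV) * turnR O.h1 hd = turnR O.h1 hd * turnR O.h1 hb := by
  rw [mixed_mul S, mixed_mul S] at h
  have hX : ∀ x u, vecMulVec (halfTurn O.h1 a (halfTurn O.h1 c x)) (halfTurn O.h1 b (halfTurn O.h1 d u)) =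
      vecMulVec (halfTurn O.h1 c (halfTurn O.h1 a x)) (halfTurn O.h1 d (halfTurn O.h1 b u)) := fun x u => by
    have := LinearEquiv.congr_fun h (vecMulVec x u)
    simpa only [LinearEquiv.mul_apply, turn_pure, turnR_pure] using this
  have hBne : halfTurn O.h1 b (halfTurn O.h1 d d) ≠ 0 := fun e0 => O.h1.ne_zero hd (by
    have := congrArg (fun y => halfTurn O.h1 d (halfTurn O.h1 b y)) e0
    simpa only [halfTurn_twice O.h1 hb, halfTurn_twice O.h1 hd, map_zero] using this)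
  obtain ⟨ν, hν⟩ := exists_dot_one hBne
  set s := halfTurn O.h1 d (halfTurn O.h1 b d) ⬝ᵥ ν
  have hA : ∀ x, halfTurn O.h1 a (halfTurn O.h1 c x) = s • halfTurn O.h1 c (halfTurn O.h1 a x) := fun x => by
    simpa only [vm, hν, one_smul] using congrArg (fun X : MV => X *ᵥ ν) (hX x d)
  have hs2 : s * s = 1 := by
    have h1 := halfTurn_isom O.h1 ha (halfTurn O.h1 c a) (halfTurn O.h1 c a)
    rw [halfTurn_isom O.h1 hc, hA, O.h1.smul_left, O.h1.smul_right, halfTurn_isom O.h1 hc,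
      halfTurn_self O.h1 ha] at h1
    exact mul_right_cancel₀ ha (by linear_combination h1)
  have hs : s = 1 := (mul_self_eq_one_iff.1 hs2).resolve_right fun hs => by
    set v := halfTurn O.h1 a c with hv
    have hT : ∀ x, halfTurn O.h1 a (halfTurn O.h1 c (halfTurn O.h1 a x)) = -halfTurn O.h1 c x := fun x => by
      rw [hA, hs, halfTurn_twice O.h1 ha, neg_one_smul]
    have hv0 : f1 v v ≠ 0 := by rwa [hv, halfTurn_isom O.h1 ha]
    have h1 : f1 c v = 0 := by
      have h := hT v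
      rw [hv, halfTurn_twice O.h1 ha, halfTurn_self O.h1 hc, ← hv, halfTurn_apply O.h1 c v, neg_sub,
        eq_sub_iff_add_eq, add_eq_left, smul_eq_zero, or_iff_left (O.h1.ne_zero hc)] at h
      exact O.h1.symm0 ((mul_eq_zero.1 h).resolve_left (div_ne_zero O.h1.two hc))
    obtain ⟨u₁, hu₁, hu₁v, -⟩ := O.h1.exists_aniso_perp (hda O) hv0 hc (O.h1.symm0 h1)
    have h2 : halfTurn O.h1 c u₁ = u₁ := by
      have h := hT u₁
      have hperp : f1 (halfTurn O.h1 a u₁) c = 0 := by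
        rw [← halfTurn_twice O.h1 ha c, halfTurn_isom O.h1 ha]
        exact hu₁v
      rw [halfTurn_perp O.h1 hperp, map_neg, halfTurn_twice O.h1 ha, neg_inj] at h
      exact h.symm
    obtain ⟨u₂, hu₂, hu₂v, hu₂u⟩ := O.h1.exists_aniso_perp (hda O) hv0 hu₁ (O.h1.symm0 hu₁v)
    have h3 : halfTurn O.h1 c u₂ = u₂ := by
      have h := hT u₂
      have hperp : f1 (halfTurn O.h1 a u₂) c = 0 := by
        rw [← halfTurn_twice O.h1 ha c, halfTurn_isom O.h1 ha]
        exact hu₂v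
      rw [halfTurn_perp O.h1 hperp, map_neg, halfTurn_twice O.h1 ha, neg_inj] at h
      exact h.symm
    have hmem : ∀ {u : ι → F}, halfTurn O.h1 c u = u → ∃ r : F, u = r • c := fun {u} hu => by
      refine ⟨1 / f1 c c * f1 u c, smul_right_injective (ι → F) O.h1.two ?_⟩
      show (2 : F) • u = (2 : F) • _
      rw [halfTurn_apply] at hu
      rw [smul_smul, two_smul F u]
      linear_combination (norm := module) -hu
    obtain ⟨r₁, hr₁⟩ := hmem h2
    obtain ⟨r₂, hr₂⟩ := hmem h3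
    rw [hr₁, hr₂, O.h1.smul_left, O.h1.smul_right] at hu₂u
    rcases mul_eq_zero.1 hu₂u with h0 | h0
    · exact hu₂ (by rw [hr₂, h0, zero_smul, O.h1.zero_left])
    · exact hu₁ (by rw [hr₁, (mul_eq_zero.1 h0).resolve_right hc, zero_smul, O.h1.zero_left])
  have hAA : (turn O.h1 ha : MV ≃ₗ[F] MV) * turn O.h1 hc = turn O.h1 hc * turn O.h1 ha :=
    left_equiv_ext O (L := halfTurn O.h1 a ∘ₗ halfTurn O.h1 c)
      (fun x u => by rw [LinearEquiv.mul_apply, turn_pure, turn_pure]; rfl) fun x u => by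
        rw [LinearEquiv.mul_apply, turn_pure, turn_pure, LinearMap.comp_apply, hA, hs, one_smul]
  rw [hAA] at h
  exact ⟨hAA, mul_left_cancel h⟩

/-- A semi-pure involution with five dimensional fixed space is a product of half turns. -/
theorem semi_fix_five {w : MV ≃ₗ[F] MV} (hwG : w ∈ G) (hw : Semi w) (hw2 : w * w = 1)
    (hfix : finrank F (LinearMap.ker (w.toLinearMap - LinearMap.id)) = 5) :
    ∃ (a : ι → F) (ha : f1 a a ≠ 0) (b : ι → F) (hb : f1 b b ≠ 0),
      w = turn O.h1 ha * turnR O.h1 hb := by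
  rcases hw with hp | ⟨P, R, hS⟩
  · exact pure_fix_five O S.dim (O.isom w hwG) hp hw2 hfix
  · exact absurd hfix (swap_fix O S.dim (O.isom w hwG) hw2 hS)

/-- The centraliser of a product of half turns, the first one in the group. -/
theorem semi_of_comm_good {c d : ι → F} (hc : f1 c c ≠ 0) (hd : f1 d d ≠ 0) (hcG : turn O.h1 hc ∈ G)
    (hzG : turn O.h1 hc * turnR O.h1 hd ∈ G) {g : MV ≃ₗ[F] MV} (hg : g ∈ G)
    (hgz : g * (turn O.h1 hc * turnR O.h1 hd) = turn O.h1 hc * turnR O.h1 hd * g) : Semi g := by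
  haveI : Finite (MV ≃ₗ[F] MV) :=
    Finite.of_injective (fun g : MV ≃ₗ[F] MV => (g : MV → MV)) DFunLike.coe_injective
  set t : MV ≃ₗ[F] MV := turn O.h1 hc with ht
  set z : MV ≃ₗ[F] MV := t * turnR O.h1 hd with hz
  obtain ⟨c₂, hc₂, hc₂c, huG⟩ := S.good c hc
  set u : MV ≃ₗ[F] MV := turn O.h1 hc₂ with hu
  have ht2 : t * t = 1 := turn_sq O.h1 hc
  have htz : t * z = z * t := by
    rw [hz, mul_assoc t (turnR O.h1 hd) t, ← turn_turnR O hc hd]
  have huz : u * z = z * u := by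
    rw [hz, ← mul_assoc, turn_perp S hc₂ hc hc₂c, mul_assoc, turn_turnR O hc₂ hd, ← mul_assoc]
  have hz2 : z * z = 1 := mixed_sq S hc hd
  obtain ⟨c₃, hc₃, -, -, huc⟩ := turn_mul O S.dim hc₂ hc hc₂c
  have fuz : finrank F (LinearMap.ker ((u * z).toLinearMap - LinearMap.id)) = 5 := by
    rw [hz, ← mul_assoc, huc, fix_mixed O S.dim]
  have ftz : finrank F (LinearMap.ker ((t * z).toLinearMap - LinearMap.id)) = 3 := by
    rw [hz, ← mul_assoc, ht2, one_mul, fix_turnR_three O S.dim]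
  set a := g * t * g⁻¹ with ha
  have haG : a ∈ G := mul_mem (mul_mem hg hcG) (inv_mem hg)
  have ha2 : a * a = 1 := by rw [ha, conj_mul, ht2, mul_one, mul_inv_cancel]
  have hgz' : g * z * g⁻¹ = z := by rw [hgz, mul_inv_cancel_right]
  have haz : a * z = z * a := by
    rw [ha, ← hgz', conj_mul, conj_mul, htz]
  have hclz : ∀ x ∈ Subgroup.closure ({a, u} : Set (MV ≃ₗ[F] MV)), x * z = z * x := fun x hx => by
    have hle : Subgroup.closure ({a, u} : Set (MV ≃ₗ[F] MV)) ≤ Subgroup.centralizer {z} := by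
      rw [Subgroup.closure_le]
      rintro _ (rfl | rfl)
      exacts [Subgroup.mem_centralizer_singleton_iff.2 haz, Subgroup.mem_centralizer_singleton_iff.2 huz]
    exact Subgroup.mem_centralizer_singleton_iff.1 (hle hx)
  have hclG : Subgroup.closure ({a, u} : Set (MV ≃ₗ[F] MV)) ≤ G := by
    rw [Subgroup.closure_le]
    rintro _ (rfl | rfl)
    exacts [haG, huG]
  have fa : finrank F (LinearMap.ker (a.toLinearMap - LinearMap.id)) = 3 := by
    rw [ha, fix_conj_eq S, fix_turn_three O S.dim hc]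
  have fu : finrank F (LinearMap.ker (u.toLinearMap - LinearMap.id)) = 3 := fix_turn_three O S.dim hc₂
  rcases inv_both ha2 (turn_sq O.h1 hc₂ : u * u = 1) with
    ⟨x, hx, hxa⟩ | ⟨y, hy, hy1, hy2, hay, huy, ⟨x, -, hxa⟩, x', -, hxu⟩
  · exfalso
    have e : (x * g) * (t * z) * (x * g)⁻¹ = u * z := by
      rw [← conj_mul (a := t) (b := x * g) (c := z),
        show x * g * t * (x * g)⁻¹ = u from
          (show _ = x * (g * t * g⁻¹) * x⁻¹ by group).trans hxa,
        show x * g * z * (x * g)⁻¹ = x * (g * z * g⁻¹) * x⁻¹ by group, hgz', hclz x hx,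
        mul_inv_cancel_right]
    have := congrArg (fun q : MV ≃ₗ[F] MV => finrank F (LinearMap.ker (q.toLinearMap - LinearMap.id))) e
    simp only [fix_conj_eq S, fuz, ftz] at this
    omega
  have fay : finrank F (LinearMap.ker ((a * y).toLinearMap - LinearMap.id)) = 3 := by
    rcases hxa with e | e <;> rw [e, fix_conj_eq S]
    exacts [fa, fu]
  have fuy : finrank F (LinearMap.ker ((u * y).toLinearMap - LinearMap.id)) = 3 := by
    rcases hxu with e | e <;> rw [e, fix_conj_eq S]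
    exacts [fu, fa]
  have hyz : y ≠ z := fun e => by
    rw [e, fuz] at fuy
    omega
  set y' := g⁻¹ * y * g with hy'
  have hy'G : y' ∈ G := mul_mem (mul_mem (inv_mem hg) (hclG hy)) hg
  have hy'2 : y' * y' = 1 := by
    rw [hy', show g⁻¹ * y * g * (g⁻¹ * y * g) = g⁻¹ * (y * y) * g by group, hy2, mul_one, inv_mul_cancel]
  have hy't : t * y' = y' * t := by
    rw [hy', show t = g⁻¹ * a * g by rw [ha]; group,
      show g⁻¹ * a * g * (g⁻¹ * y * g) = g⁻¹ * (a * y) * g by group, hay]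
    group
  have hy'z : z * y' = y' * z := by
    have h1 : g⁻¹ * z * g = z := by rw [mul_assoc, ← hgz, inv_mul_cancel_left]
    rw [hy', ← h1, show g⁻¹ * z * g * (g⁻¹ * y * g) = g⁻¹ * (z * y) * g by group, ← hclz y hy]
    group
  have hy'1 : y' ≠ 1 := fun e => hy1 (by
    rw [show y = g * y' * g⁻¹ by rw [hy']; group, e, mul_one, mul_inv_cancel])
  have hy'ne : y' ≠ z := fun e => hyz (by
    rw [show y = g * y' * g⁻¹ by rw [hy']; group, e, hgz'])
  have hy'p : Pure y' := pure_of_comm_turn_three O S.noRoot S.dim hc hy'G hy't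
  set w := t * y' with hw
  have hwf : finrank F (LinearMap.ker (w.toLinearMap - LinearMap.id)) = 3 := by
    rw [show w = g⁻¹ * (a * y) * g⁻¹⁻¹ by rw [hw, hy', ha]; group, fix_conj_eq S, fay]
  have hwp : Pure w := Pure.mul ⟨_, LinearMap.id, fun c' x => turn_pure O.h1 hc c' x⟩ hy'p
  have hw2 : w * w = 1 := by
    rw [hw, mul_assoc, ← mul_assoc y', ← hy't, mul_assoc, hy'2, mul_one, ht2]
  have hyw : y' = t * w := by rw [hw, ← mul_assoc, ht2, one_mul]
  have hside : ∃ v : MV ≃ₗ[F] MV, ((∃ (a : ι → F) (ha : f1 a a ≠ 0), v = turn O.h1 ha) ∨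
      ∃ (b : ι → F) (hb : f1 b b ≠ 0), v = turnR O.h1 hb) ∧ (v = y' ∨ v = z * y') := by
    rcases pure_fix_three O S.dim (O.isom w (mul_mem hcG hy'G)) hwp hw2 hwf with
      ⟨c', hc', e⟩ | ⟨d', hd', e⟩
    · rw [e] at hyw
      rcases turn_pair O S.dim hc hc' (by rw [← hyw, hy'2]) with h1 | ⟨q, hq, -, hqe⟩
      · exact absurd (hyw.trans h1) hy'1
      · exact ⟨y', Or.inl ⟨q, hq, hyw.trans hqe⟩, Or.inl rfl⟩
    · rw [e] at hyw
      have hzy : z * y' = turnR O.h1 hd * turnR O.h1 hd' := by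
        rw [hz, hyw, mixed_mul S, ht2, one_mul]
      rcases turnR_pair O S.dim hd hd' (by
          rw [← hzy]; exact mul_sq_one hy'z hz2 hy'2) with
        h1 | ⟨q, hq, hqe⟩
      · exact absurd ((inv_eq_of_mul_eq_one_right (hzy.trans h1)).symm.trans
          (inv_eq_of_mul_eq_one_right hz2)) hy'ne
      · exact ⟨z * y', Or.inr ⟨q, hq, hzy.trans hqe⟩, Or.inr rfl⟩
  obtain ⟨v, hv, hvy⟩ := hside
  set s' := g⁻¹ * u * g with hs'
  have hs'G : s' ∈ G := mul_mem (mul_mem (inv_mem hg) huG) hg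
  have hs'y : y' * s' = s' * y' := by
    rw [hs', hy', show g⁻¹ * y * g * (g⁻¹ * u * g) = g⁻¹ * (y * u) * g by group, show y * u = u * y from huy.symm]
    group
  have hs'z : z * s' = s' * z := by
    have h1 : g⁻¹ * z * g = z := by rw [mul_assoc, ← hgz, inv_mul_cancel_left]
    rw [hs', ← h1, show g⁻¹ * z * g * (g⁻¹ * u * g) = g⁻¹ * (z * u) * g by group, show z * u = u * z from huz.symm]
    group
  have hs'p : Pure s' := pure_of_comm_side S hv hs'G (by
    rcases hvy with rfl | rfl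
    · exact hs'y
    · rw [mul_assoc, hs'y, ← mul_assoc, hs'z, mul_assoc])
  have := semi_of_turns S hc₂ (inv_mem hg) (by
    rw [inv_inv]
    refine pure_fix_three O S.dim (O.isom s' hs'G) hs'p ?_ ?_
    · show g⁻¹ * u * g * (g⁻¹ * u * g) = 1
      rw [show g⁻¹ * u * g * (g⁻¹ * u * g) = g⁻¹ * (u * u) * g by group,
        show u * u = 1 from turn_sq O.h1 hc₂, mul_one, inv_mul_cancel]
    · show finrank F (LinearMap.ker ((g⁻¹ * u * g).toLinearMap - LinearMap.id)) = 3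
      rw [show g⁻¹ * u * g = g⁻¹ * u * g⁻¹⁻¹ by rw [inv_inv], fix_conj_eq S, fu])
  have h2 := semi_inv S this
  rwa [inv_inv] at h2

/-- An element moving such a product to a semi-pure element respects or exchanges the factors. -/
theorem semi_of_conj_mixed {c d : ι → F} (hc : f1 c c ≠ 0) (hd : f1 d d ≠ 0) (hcG : turn O.h1 hc ∈ G)
    (hzG : turn O.h1 hc * turnR O.h1 hd ∈ G) {g : MV ≃ₗ[F] MV} (hg : g ∈ G)
    (h : Semi (g * (turn O.h1 hc * turnR O.h1 hd) * g⁻¹)) : Semi g := by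
  set z : MV ≃ₗ[F] MV := turn O.h1 hc * turnR O.h1 hd with hz
  set s := g * z * g⁻¹ with hs
  obtain ⟨c', hc', d', hd', hse⟩ := semi_fix_five S (mul_mem (mul_mem hg hzG) (inv_mem hg)) h
    (by rw [conj_mul, hz, mixed_sq S, mul_one, mul_inv_cancel])
    (by rw [fix_conj_eq S, hz, fix_mixed O S.dim])
  obtain ⟨e, he, hec, heG⟩ := S.good c' hc'
  have hes : turn O.h1 he * s = s * turn O.h1 he := by
    rw [show s = turn O.h1 hc' * turnR O.h1 hd' from hse, ← mul_assoc, turn_perp S he hc' hec, mul_assoc, turn_turnR O he hd', ← mul_assoc]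
  set T' := g⁻¹ * turn O.h1 he * g with hT'
  have hT'z : T' * z = z * T' := by
    have h1 : z = g⁻¹ * s * g := by rw [hs]; group
    rw [hT', h1, show g⁻¹ * turn O.h1 he * g * (g⁻¹ * s * g) = g⁻¹ * (turn O.h1 he * s) * g by group, hes]
    group
  have h1 : Semi T' := semi_of_comm_good S hc hd hcG hzG (mul_mem (mul_mem (inv_mem hg) heG) hg) hT'z
  have h2 := semi_of_conj_semi S he heG (inv_mem hg) (by rwa [inv_inv])
  have := semi_inv S h2
  rwa [inv_inv] at this

/-- The involutions occurring besides a half turn. -/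
theorem y_cases {e : ι → F} (he : f1 e e ≠ 0) (heG : turn O.h1 he ∈ G) {y : MV ≃ₗ[F] MV} (hy : y ∈ G)
    (hy1 : y ≠ 1) (hy2 : y * y = 1) (hTy : turn O.h1 he * y = y * turn O.h1 he)
    (hfix : finrank F (LinearMap.ker ((turn O.h1 he * y).toLinearMap - LinearMap.id)) = 3 ∨
      finrank F (LinearMap.ker ((turn O.h1 he * y).toLinearMap - LinearMap.id)) = 5) :
    ((∃ (a : ι → F) (ha : f1 a a ≠ 0), y = turn O.h1 ha) ∨
      ∃ (b : ι → F) (hb : f1 b b ≠ 0), y = turnR O.h1 hb) ∨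
    (∃ (b : ι → F) (hb : f1 b b ≠ 0), y = turn O.h1 he * turnR O.h1 hb) ∨
    ∃ (c : ι → F) (hc : f1 c c ≠ 0) (b : ι → F) (hb : f1 b b ≠ 0),
      f1 c e = 0 ∧ y = turn O.h1 hc * turnR O.h1 hb := by
  set T : MV ≃ₗ[F] MV := turn O.h1 he with hT
  have hT2 : T * T = 1 := turn_sq O.h1 he
  have hwp : Pure (T * y) := Pure.mul ⟨_, LinearMap.id, fun c x => turn_pure O.h1 he c x⟩
    (pure_of_comm_turn_three O S.noRoot S.dim he hy hTy)
  have hw2 : (T * y) * (T * y) = 1 := by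
    rw [mul_assoc, ← mul_assoc y, ← hTy, mul_assoc, hy2, mul_one, hT2]
  have hwi := O.isom _ (mul_mem heG hy)
  have hyw : y = T * (T * y) := by rw [← mul_assoc, hT2, one_mul]
  rcases hfix with h3 | h5
  · rcases pure_fix_three O S.dim hwi hwp hw2 h3 with ⟨a, ha, e'⟩ | ⟨b, hb, e'⟩
    · rw [e'] at hyw
      rcases turn_pair O S.dim he ha (by rw [← hyw, hy2]) with h1 | ⟨q, hq, -, hqe⟩
      · exact absurd (hyw.trans h1) hy1
      · exact Or.inl (Or.inl ⟨q, hq, hyw.trans hqe⟩)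
    · rw [e'] at hyw
      exact Or.inr (Or.inl ⟨b, hb, hyw⟩)
  · obtain ⟨a, ha, b, hb, e'⟩ := pure_fix_five O S.dim hwi hwp hw2 h5
    rw [e', ← mul_assoc] at hyw
    have hc1 : turnR O.h1 hb * (T * turn O.h1 ha) = (T * turn O.h1 ha) * turnR O.h1 hb := by
      rw [← mul_assoc, hT, ← turn_turnR O he hb, mul_assoc, ← turn_turnR O ha hb, ← mul_assoc]
    have hsq : (T * turn O.h1 ha) * (T * turn O.h1 ha) = 1 := by
      have h := hy2
      rw [hyw, mul_assoc (T * turn O.h1 ha) (turnR O.h1 hb), ← mul_assoc (turnR O.h1 hb) (T * turn O.h1 ha), hc1,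
        mul_assoc (T * turn O.h1 ha) (turnR O.h1 hb) (turnR O.h1 hb), turnR_sq O hb, mul_one] at h
      exact h
    rcases turn_pair O S.dim he ha hsq with h1 | ⟨q, hq, hqe, hq'⟩
    · rw [h1, one_mul] at hyw
      exact Or.inl (Or.inr ⟨b, hb, hyw⟩)
    · rw [hq'] at hyw
      exact Or.inr (Or.inr ⟨q, hq, b, hb, hqe, hyw⟩)

/-- The centraliser of any product of half turns in the group. -/
theorem semi_of_comm_mixed {c d : ι → F} (hc : f1 c c ≠ 0) (hd : f1 d d ≠ 0)
    (hzG : turn O.h1 hc * turnR O.h1 hd ∈ G) {g : MV ≃ₗ[F] MV} (hg : g ∈ G)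
    (hgz : g * (turn O.h1 hc * turnR O.h1 hd) = turn O.h1 hc * turnR O.h1 hd * g) : Semi g := by
  haveI : Finite (MV ≃ₗ[F] MV) :=
    Finite.of_injective (fun g : MV ≃ₗ[F] MV => (g : MV → MV)) DFunLike.coe_injective
  set z : MV ≃ₗ[F] MV := turn O.h1 hc * turnR O.h1 hd with hz
  obtain ⟨e, he, hec, heG⟩ := S.good c hc
  obtain ⟨d₂, hd₂, hdd, hd₂G⟩ := goodR S hd
  set T : MV ≃ₗ[F] MV := turn O.h1 he with hT
  set w : MV ≃ₗ[F] MV := T * turnR O.h1 hd₂ with hw
  have hwG : w ∈ G := mul_mem heG hd₂G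
  have hTz : T * z = z * T := by
    rw [hz, ← mul_assoc, turn_perp S he hc hec, mul_assoc, turn_turnR O he hd, ← mul_assoc]
  have hwz : w * z = z * w := by
    rw [hw, hz, mixed_mul S, mixed_mul S, turn_perp S he hc hec, turnR_perp S hd₂ hd hdd]
  obtain ⟨c₃, hc₃, hc₃e, hc₃c, hTc⟩ := turn_mul O S.dim he hc hec
  obtain ⟨d₃, hd₃, hdd₃⟩ := turnR_mul S hd₂ hd hdd
  have fTz : finrank F (LinearMap.ker ((T * z).toLinearMap - LinearMap.id)) = 5 := by
    rw [hz, ← mul_assoc, hTc, fix_mixed O S.dim]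
  have fwz : finrank F (LinearMap.ker ((w * z).toLinearMap - LinearMap.id)) = 5 := by
    rw [hw, hz, mixed_mul S, hTc, hdd₃, fix_mixed O S.dim]
  set s := g * w * g⁻¹ with hs
  have hsG : s ∈ G := mul_mem (mul_mem hg hwG) (inv_mem hg)
  have hs2 : s * s = 1 := by rw [hs, conj_mul, hw, mixed_sq S, mul_one, mul_inv_cancel]
  have hgz' : g * z * g⁻¹ = z := by rw [hgz, mul_inv_cancel_right]
  have hsz : s * z = z * s := by rw [hs, ← hgz', conj_mul, conj_mul, hwz]
  have fs : finrank F (LinearMap.ker (s.toLinearMap - LinearMap.id)) = 5 := by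
    rw [hs, fix_conj_eq S, hw, fix_mixed O S.dim]
  have fT : finrank F (LinearMap.ker (T.toLinearMap - LinearMap.id)) = 3 := fix_turn_three O S.dim he
  have hclz : ∀ x ∈ Subgroup.closure ({T, s} : Set (MV ≃ₗ[F] MV)), x * z = z * x := fun x hx => by
    have hle : Subgroup.closure ({T, s} : Set (MV ≃ₗ[F] MV)) ≤ Subgroup.centralizer {z} := by
      rw [Subgroup.closure_le]
      rintro _ (rfl | rfl)
      exacts [Subgroup.mem_centralizer_singleton_iff.2 hTz, Subgroup.mem_centralizer_singleton_iff.2 hsz]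
    exact Subgroup.mem_centralizer_singleton_iff.1 (hle hx)
  have hclG : Subgroup.closure ({T, s} : Set (MV ≃ₗ[F] MV)) ≤ G := by
    rw [Subgroup.closure_le]
    rintro _ (rfl | rfl)
    exacts [heG, hsG]
  refine semi_of_conj_mixed S he hd₂ heG hwG hg ?_
  rcases inv_both (turn_sq O.h1 he : T * T = 1) hs2 with
    ⟨x, -, hxa⟩ | ⟨y, hy, hy1, hy2, hTy, hsy, ⟨x, hx, hxT⟩, -⟩
  · exfalso
    have := fix_conj_eq S x T
    rw [hxa, fs, fT] at this
    omega
  have hyz : y ≠ z := fun e0 => by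
    rw [e0] at hxT
    rcases hxT with e1 | e1
    · rw [e1, fix_conj_eq S, fT] at fTz
      omega
    · have e2 : (x * g) * (w * z) * (x * g)⁻¹ = T := by
        rw [← conj_mul (a := w) (b := x * g) (c := z),
          show x * g * w * (x * g)⁻¹ = x * s * x⁻¹ by rw [hs]; group, ← e1,
          show x * g * z * (x * g)⁻¹ = x * (g * z * g⁻¹) * x⁻¹ by group, hgz', hclz x hx,
          mul_inv_cancel_right, mul_assoc, mixed_sq S, mul_one]
      have := fix_conj_eq S (x * g) (w * z)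
      rw [e2, fwz, fT] at this
      omega
  have hfix : finrank F (LinearMap.ker ((T * y).toLinearMap - LinearMap.id)) = 3 ∨
      finrank F (LinearMap.ker ((T * y).toLinearMap - LinearMap.id)) = 5 := by
    rcases hxT with e1 | e1 <;> rw [e1, fix_conj_eq S]
    exacts [Or.inl fT, Or.inr fs]
  rcases y_cases S he heG (hclG hy) hy1 hy2 hTy hfix with
    hside | ⟨b, hb, hye⟩ | ⟨c', hc', b, hb, hc'e, hye⟩
  · exact Or.inl (pure_of_comm_side S hside hsG hsy.symm)
  · exact semi_of_comm_good S he hb heG (hye ▸ hclG hy) hsG (hye ▸ hsy)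
  have hys : (y * z) * s = s * (y * z) := by
    rw [mul_assoc, ← hsz, ← mul_assoc, ← hsy, mul_assoc]
  have hyzX : y * z = (turn O.h1 hc' * turn O.h1 hc) * (turnR O.h1 hb * turnR O.h1 hd) := by
    rw [hye, hz, mixed_mul S]
  obtain ⟨hAA, hBB⟩ := mixed_comm S hc' hb hc hd (by rw [← hye, ← hz]; exact hclz y hy)
  have hcomm : ∀ x, halfTurn O.h1 c' (halfTurn O.h1 c x) = halfTurn O.h1 c (halfTurn O.h1 c' x) := by
    have h := left_ext O (A := halfTurn O.h1 c' ∘ₗ halfTurn O.h1 c)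
      (A' := halfTurn O.h1 c ∘ₗ halfTurn O.h1 c') (fun x u => by
        have := LinearEquiv.congr_fun hAA (vecMulVec x u)
        simpa only [LinearEquiv.mul_apply, turn_pure, LinearMap.comp_apply] using this)
    exact fun x => LinearMap.congr_fun h x
  have hBsq : (turnR O.h1 hb * turnR O.h1 hd) * (turnR O.h1 hb * turnR O.h1 hd) =
      (1 : MV ≃ₗ[F] MV) := by
    rw [mul_assoc, ← mul_assoc (turnR O.h1 hd), ← hBB, mul_assoc, turnR_sq O hd, mul_one, turnR_sq O hb]
  rcases halfTurn_comm O.h1 hc' hc hcomm with ⟨r, hr, hcr⟩ | hcc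
  · have hcc' : (turn O.h1 hc : MV ≃ₗ[F] MV) = turn O.h1 hc' :=
      left_equiv_ext O (fun x u => turn_pure O.h1 hc x u) fun x u => by
        rw [turn_pure]
        congr 1
        exact (LinearMap.congr_fun (hcr ▸ halfTurn_smul O.h1 hr :
          halfTurn O.h1 c = halfTurn O.h1 c') x).symm
    rw [hcc', turn_sq, one_mul] at hyzX
    rcases turnR_pair O S.dim hb hd hBsq with h1 | ⟨q, hq, hqe⟩
    · refine absurd ?_ hyz
      rw [show y = (y * z) * z by rw [mul_assoc, mixed_sq S, mul_one], hyzX, h1, one_mul]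
    · exact Or.inl (pure_of_comm_side S (Or.inr ⟨q, hq, hyzX.trans hqe⟩) hsG hys)
  · obtain ⟨q, hq, hqc', hqc, hq'⟩ := turn_mul O S.dim hc' hc (O.h1.symm0 hcc)
    -- the third vector is the first one
    have hqe : (turn O.h1 hq : MV ≃ₗ[F] MV) = T := by
      obtain ⟨q₀, hq₀, hq₀c', hq₀c, hdec⟩ := third O.h1 S.dim hc' hc (O.h1.symm0 hcc)
      have hline : ∀ v, f1 v c' = 0 → f1 v c = 0 → v = (f1 v q₀ / f1 q₀ q₀) • q₀ := fun v h1 h2 => by
        have h := hdec v
        rwa [h1, h2, zero_div, zero_div, zero_smul, zero_smul, zero_add, zero_add] at h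
      have e1 := hline q hqc' hqc
      have e2 := hline e (O.h1.symm0 hc'e) hec
      have hh : ∀ {v : ι → F} {r : F}, f1 v v ≠ 0 → v = r • q₀ → halfTurn O.h1 v = halfTurn O.h1 q₀ :=
        fun {v r} hv e => by
          rw [e, halfTurn_smul O.h1 fun h0 => hv (by rw [e, h0, zero_smul, O.h1.zero_left])]
      exact left_equiv_ext O (fun x u => turn_pure O.h1 hq x u) fun x u => by
        rw [turn_pure, hh hq e1, hh he e2]
    rw [hq', hqe] at hyzX
    rcases turnR_pair O S.dim hb hd hBsq with h1 | ⟨p, hp, hpe⟩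
    · rw [h1, mul_one] at hyzX
      exact Or.inl (pure_of_comm_side S (Or.inl ⟨e, he, hyzX⟩) hsG hys)
    · rw [hpe] at hyzX
      exact semi_of_comm_good S he hp heG (hyzX ▸ mul_mem (hclG hy) hzG) hsG (hyzX ▸ hys).symm

/-- Without elements of rank two every element respects or exchanges the factors. -/
theorem semi_all {g : MV ≃ₗ[F] MV} (hg : g ∈ G) : Semi g := by
  haveI : Finite (MV ≃ₗ[F] MV) :=
    Finite.of_injective (fun g : MV ≃ₗ[F] MV => (g : MV → MV)) DFunLike.coe_injective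
  obtain ⟨η, hη0, -⟩ := O.h1.exists_iso (hda O)
  obtain ⟨c₀, hc₀⟩ := O.h1.exists_aniso hη0
  obtain ⟨e, he, -, heG⟩ := S.good c₀ hc₀
  obtain ⟨d, hd, -, hdG⟩ := goodR S hc₀
  set T : MV ≃ₗ[F] MV := turn O.h1 he with hT
  set z : MV ≃ₗ[F] MV := T * turnR O.h1 hd with hz
  have hzG : z ∈ G := mul_mem heG hdG
  refine semi_of_conj_mixed S he hd heG hzG hg ?_
  set s := g * z * g⁻¹ with hs
  have hsG : s ∈ G := mul_mem (mul_mem hg hzG) (inv_mem hg)
  have hs2 : s * s = 1 := by rw [hs, conj_mul, hz, mixed_sq S, mul_one, mul_inv_cancel]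
  have fs : finrank F (LinearMap.ker (s.toLinearMap - LinearMap.id)) = 5 := by
    rw [hs, fix_conj_eq S, hz, fix_mixed O S.dim]
  have fT : finrank F (LinearMap.ker (T.toLinearMap - LinearMap.id)) = 3 := fix_turn_three O S.dim he
  rcases inv_both (turn_sq O.h1 he : T * T = 1) hs2 with
    ⟨x, -, hxa⟩ | ⟨y, hy, hy1, hy2, hTy, hsy, ⟨x, -, hxT⟩, -⟩
  · exfalso
    have := fix_conj_eq S x T
    rw [hxa, fs, fT] at this
    omega
  have hyG : y ∈ G := by
    refine (Subgroup.closure_le G).2 ?_ hy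
    rintro _ (rfl | rfl)
    exacts [heG, hsG]
  have hfix : finrank F (LinearMap.ker ((T * y).toLinearMap - LinearMap.id)) = 3 ∨
      finrank F (LinearMap.ker ((T * y).toLinearMap - LinearMap.id)) = 5 := by
    rcases hxT with e1 | e1 <;> rw [e1, fix_conj_eq S]
    exacts [Or.inl fT, Or.inr fs]
  rcases y_cases S he heG hyG hy1 hy2 hTy hfix with
    hside | ⟨b, hb, hye⟩ | ⟨c', hc', b, hb, -, hye⟩
  · exact Or.inl (pure_of_comm_side S hside hsG hsy.symm)
  · exact semi_of_comm_good S he hb heG (hye ▸ hyG) hsG (hye ▸ hsy)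
  · exact semi_of_comm_mixed S hc' hb (hye ▸ hyG) hsG (hye ▸ hsy)

end CfsgLib.MaxSub.TensorOO
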