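/-
The stabiliser of the tensor square of a three dimensional orthogonal space is maximal in `Ω`.
-/
import Cfsg.Agent.Lib.MaxSub.TensorOO.Main
import Cfsg.Agent.Lib.MaxSub.TensorOO.ThreeTurn
import Cfsg.Agent.Lib.MaxSub.TensorOO.ThreeFinal

set_option autoImplicit false
set_option maxHeartbeats 1000000
set_option linter.unusedSectionVars false

namespace CfsgLib.MaxSub.TensorOO

open Matrix Module
open CfsgLib.MaxSub.TensorSympOrth (SForm ext_pure vmv_smul vmv_sub sub_vmv vmv_neg neg_vmv vmv_ne_zero)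
open CfsgLib.MaxSub.TensorLin (Col colMap colMap_apply mem_col vmv_eq_zero vmv_zero vm exists_dot_one
  colMap_injective finrank_col flat mmap mmap_apply mmap_kron mmap_injective)
open CfsgLib.WittExtension (quadIso)
open CfsgLib.Eichler (IsEich exists_eich Sieg)
open CfsgLib.MaxSub.Orth (toMat toMat_mulVec)
open scoped Kronecker

variable {F : Type*} [Field F]

/-- Pairs as maps from two points. -/
def pairEquiv : (Fin 2 → Fin 3) ≃ Fin 3 × Fin 3 := finTwoArrowEquiv (Fin 3)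

/-- A matrix on pairs, read on maps from two points. -/
noncomputable def powGL : GL (Fin 3 × Fin 3) F ≃* GL (Fin 2 → Fin 3) F :=
  Cfsg.Geo.glReindex pairEquiv.symm

theorem powGL_val (M : GL (Fin 3 × Fin 3) F) :
    ((powGL M : GL (Fin 2 → Fin 3) F) : Matrix (Fin 2 → Fin 3) (Fin 2 → Fin 3) F) =
      (M : Matrix (Fin 3 × Fin 3) (Fin 3 × Fin 3) F).submatrix pairEquiv pairEquiv := rfl

/-- The exchange of the factors as a matrix. -/
def swapGL : GL (Fin 3 × Fin 3) F where
  val := (1 : Matrix (Fin 3 × Fin 3) (Fin 3 × Fin 3) F).submatrix Prod.swap id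
  inv := (1 : Matrix (Fin 3 × Fin 3) (Fin 3 × Fin 3) F).submatrix Prod.swap id
  val_inv := by
    ext p q
    rw [Matrix.mul_apply, Finset.sum_eq_single p.swap]
    · simp [Matrix.one_apply]
    · intro b _ hb
      simp [Matrix.one_apply, Ne.symm hb]
    · simp
  inv_val := by
    ext p q
    rw [Matrix.mul_apply, Finset.sum_eq_single p.swap]
    · simp [Matrix.one_apply]
    · intro b _ hb
      simp [Matrix.one_apply, Ne.symm hb]
    · simp

theorem mmap_swap (c x : Fin 3 → F) : mmap swapGL (vecMulVec c x) = vecMulVec x c := by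
  rw [mmap_apply]
  refine Matrix.ext fun i j => ?_
  show (((1 : Matrix (Fin 3 × Fin 3) (Fin 3 × Fin 3) F).submatrix Prod.swap id) *ᵥ
    flat (vecMulVec c x)) (i, j) = x i * c j
  simp only [Matrix.mulVec, dotProduct, Matrix.submatrix_apply, Matrix.one_apply, id, Prod.swap_prod_mk,
    ite_mul, one_mul, zero_mul, Finset.sum_ite_eq, Finset.mem_univ, if_true]
  exact mul_comm (c j) (x i)

theorem pure_mem_standard {M : GL (Fin 3 × Fin 3) F} (h : Pure (mmap M)) :
    Cfsg.Geo.IsPureTensor 3 2 (powGL M) := by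
  obtain ⟨A, B, hAB⟩ := kron_of_pure (a := 3) (b := 3) (by norm_num) (by norm_num) h
  refine ⟨![A, B], fun x y => ?_⟩
  rw [powGL_val, Matrix.submatrix_apply, hAB, Fin.prod_univ_two]
  rfl

theorem swapGL_mem_standard : Cfsg.Geo.IsFactorPermutation 3 2 (powGL (swapGL : GL (Fin 3 × Fin 3) F)) := by
  refine ⟨Equiv.swap 0 1, fun x y => ?_⟩
  show (1 : Matrix (Fin 3 × Fin 3) (Fin 3 × Fin 3) F) (x 1, x 0) (y 0, y 1) = _
  rw [Matrix.one_apply]
  refine if_congr ⟨fun h => ?_, fun h => ?_⟩ rfl rfl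
  · obtain ⟨h1, h2⟩ := Prod.mk.inj h
    exact funext fun i => by fin_cases i <;> simp [h1, h2]
  · rw [h]
    simp

theorem semi_mem_standard {M : GL (Fin 3 × Fin 3) F} (h : Semi (mmap M)) :
    powGL M ∈ Cfsg.Geo.tensorWreathStandard 3 2 F := by
  rcases h with hp | ⟨P, R, hPR⟩
  · exact Subgroup.subset_closure (Or.inl (pure_mem_standard hp))
  have hp : Pure (mmap (M * swapGL)) := ⟨P, R, fun c x => by
    rw [map_mul, LinearEquiv.mul_apply, mmap_swap, hPR]⟩
  have hs : powGL (swapGL : GL (Fin 3 × Fin 3) F) ∈ Cfsg.Geo.tensorWreathStandard 3 2 F :=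
    Subgroup.subset_closure (Or.inr swapGL_mem_standard)
  have h1 : powGL (M * swapGL) ∈ Cfsg.Geo.tensorWreathStandard 3 2 F :=
    Subgroup.subset_closure (Or.inl (pure_mem_standard hp))
  rw [map_mul] at h1
  exact (Subgroup.mul_mem_cancel_right _ hs).1 h1

theorem semi_of_mem_standard {g : GL (Fin 2 → Fin 3) F} (hg : g ∈ Cfsg.Geo.tensorWreathStandard 3 2 F) :
    Semi (mmap (powGL.symm g)) := by
  induction hg using Subgroup.closure_induction with
  | mem g hg =>
    obtain ⟨M, rfl⟩ := powGL.surjective g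
    rw [MulEquiv.symm_apply_apply]
    rcases hg with ⟨gs, hgs⟩ | ⟨σ, hσ⟩
    · have hM : (M : Matrix (Fin 3 × Fin 3) (Fin 3 × Fin 3) F) =
          (gs 0 : Matrix (Fin 3) (Fin 3) F) ⊗ₖ (gs 1 : Matrix (Fin 3) (Fin 3) F) := by
        ext ⟨i, j⟩ ⟨k, l⟩
        have h := hgs ![i, j] ![k, l]
        rw [powGL_val, Fin.prod_univ_two] at h
        exact h
      exact Or.inl ⟨(gs 0 : Matrix (Fin 3) (Fin 3) F).mulVecLin, (gs 1 : Matrix (Fin 3) (Fin 3) F).mulVecLin,
        fun c x => by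
          rw [mmap_kron hM, mul_vecMulVec, vecMulVec_mul, vecMul_transpose]
          rfl⟩
    · rcases (show ∀ τ : Equiv.Perm (Fin 2), τ = 1 ∨ τ = Equiv.swap 0 1 by decide) σ with rfl | rfl
      · have hM : M = 1 := Units.ext (Matrix.ext fun ⟨i, j⟩ ⟨k, l⟩ => by
          have h := hσ ![i, j] ![k, l]
          refine h.trans ?_
          rw [Units.val_one, Matrix.one_apply]
          refine if_congr ⟨fun h => ?_, fun h => ?_⟩ rfl rfl
          · simpa [eq_comm] using And.intro (congrFun h 0) (congrFun h 1)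
          · obtain ⟨rfl, rfl⟩ := Prod.mk.inj h
            rfl)
        rw [hM, map_one]
        exact Or.inl ⟨LinearMap.id, LinearMap.id, fun c x => rfl⟩
      · have hM : M = swapGL := Units.ext (Matrix.ext fun ⟨i, j⟩ ⟨k, l⟩ => by
          have h := hσ ![i, j] ![k, l]
          refine h.trans ?_
          show _ = (1 : Matrix (Fin 3 × Fin 3) (Fin 3 × Fin 3) F) (j, i) (k, l)
          rw [Matrix.one_apply]
          refine if_congr ⟨fun h => ?_, fun h => ?_⟩ rfl rfl
          · have e0 := congrFun h 0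
            have e1 := congrFun h 1
            simp at e0 e1
            simp [e0, e1]
          · obtain ⟨rfl, rfl⟩ := Prod.mk.inj h
            funext r
            fin_cases r <;> rfl)
        rw [hM]
        exact Or.inr ⟨LinearMap.id, LinearMap.id, fun c x => mmap_swap c x⟩
  | one =>
    rw [map_one, map_one]
    exact Or.inl ⟨LinearMap.id, LinearMap.id, fun c x => rfl⟩
  | mul g g' _ _ h h' =>
    rw [map_mul, map_mul]
    exact h.mul h'
  | inv g _ h =>
    rw [map_inv, map_inv]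
    exact h.inv

/-- The stabiliser of the tensor square of a three dimensional orthogonal space is maximal in `Ω`. -/
theorem orth_tensor_square_maximal [Fintype F] {ι : Type} [Fintype ι] [DecidableEq ι]
    (hq : Odd (Fintype.card F)) (hq5 : 5 ≤ Fintype.card F) {Q : (ι → F) → F}
    (hQ : Cfsg.Geo.IsNondegenerateQuadraticForm Q) (e : ι ≃ (Fin 2 → Fin 3)) (P : GL ι F)
    (f₁ : (Fin 3 → F) → (Fin 3 → F) → F) (hf₁ : Cfsg.Geo.IsSymmetricForm f₁)
    (hT : Cfsg.Geo.IsTensorPowerFormStructure id (QuadraticMap.polar Q) f₁ e P) :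
    Cfsg.Geo.IsMaximalIn (Cfsg.Geo.omegaGL Q)
      (Cfsg.Geo.tensorWreathSubgroup 3 2 e P ⊓ Cfsg.Geo.omegaGL Q) := by
  have h2 : (2 : F) ≠ 0 := fun h => by
    haveI : CharP F 2 := CharTwo.of_one_ne_zero_of_two_eq_zero one_ne_zero h
    have := FiniteField.even_card_of_char_two (F := F) (ringChar.eq F 2)
    rw [Nat.odd_iff] at hq
    omega
  obtain ⟨R, rfl, hR⟩ := Orth.exists_form hQ
  set e' : ι ≃ Fin 3 × Fin 3 := e.trans pairEquiv with he'
  have hcard : Fintype.card ι = 9 := by simpa using Fintype.card_congr e'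
  have hn5 : 5 ≤ Fintype.card ι := by omega
  have hfin : finrank F (ι → F) = Fintype.card ι := Module.finrank_fintype_fun_eq_card F
  have H1 := sform_of h2 hf₁
  obtain ⟨c, hc0, hcT⟩ := hT
  let Φ : Matrix (Fin 3) (Fin 3) F →ₗ[F] (ι → F) :=
    (Matrix.toLin' (P : Matrix ι ι F)).comp ((LinearMap.funLeft F F e').comp flat.toLinearMap)
  have hΦ : ∀ X, Φ X = (P : Matrix ι ι F) *ᵥ (flat X ∘ e') := fun X => rfl
  let f : Matrix (Fin 3) (Fin 3) F → Matrix (Fin 3) (Fin 3) F → F :=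
    fun X Y => c⁻¹ * QuadraticMap.polar R (Φ X) (Φ Y)
  have hcf : ∀ X Y, QuadraticMap.polar R (Φ X) (Φ Y) = c * f X Y := fun X Y => by
    show _ = c * (c⁻¹ * _)
    rw [mul_inv_cancel_left₀ hc0]
  have hg : ∀ u v, f₁ u v = ∑ i, ∑ j, u i * Cfsg.Geo.gramMatrix f₁ i j * v j := fun u v => by
    conv_lhs => rw [pi_eq_sum_univ' u, pi_eq_sum_univ' v, H1.sum_left]
    refine Finset.sum_congr rfl fun i _ => ?_
    rw [H1.smul_left, H1.sum_right, Finset.mul_sum]
    refine Finset.sum_congr rfl fun j _ => ?_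
    rw [H1.smul_right, mul_comm (v j), ← mul_assoc]
    rfl
  have hfp : ∀ c' d v w, f (vecMulVec c' v) (vecMulVec d w) = f₁ c' d * f₁ v w := fun c' d v w => by
    have h := hcT (flat (vecMulVec c' v) ∘ pairEquiv) (flat (vecMulVec d w) ∘ pairEquiv)
    show c⁻¹ * _ = _
    rw [hΦ, hΦ]
    change QuadraticMap.polar R ((P : Matrix ι ι F) *ᵥ (flat (vecMulVec c' v) ∘ e'))
      ((P : Matrix ι ι F) *ᵥ (flat (vecMulVec d w) ∘ e')) = _ at h
    rw [h, inv_mul_cancel_left₀ hc0, hg, hg, ← pairEquiv.symm.sum_comp, Fintype.sum_prod_type,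
      Finset.sum_mul_sum]
    refine Finset.sum_congr rfl fun i _ => Finset.sum_congr rfl fun k _ => ?_
    rw [← pairEquiv.symm.sum_comp, Fintype.sum_prod_type, Finset.sum_mul_sum]
    refine Finset.sum_congr rfl fun j _ => Finset.sum_congr rfl fun l _ => ?_
    rw [Fin.prod_univ_two]
    show c' i * v k * (Cfsg.Geo.gramMatrix f₁ i j * Cfsg.Geo.gramMatrix f₁ k l) * (d j * w l) = _
    ring
  have hΦsurj : Function.Surjective Φ := fun u =>
    ⟨flat.symm ((((P⁻¹ : GL ι F) : Matrix ι ι F) *ᵥ u) ∘ e'.symm), by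
      rw [hΦ, LinearEquiv.apply_symm_apply, Function.comp_assoc, Equiv.symm_comp_self,
        Function.comp_id, mulVec_mulVec, Units.mul_inv, one_mulVec]⟩
  have hΦinj : ∀ X, Φ X = 0 → X = 0 := fun X hX => by
    have h1 := congrArg (((P⁻¹ : GL ι F) : Matrix ι ι F) *ᵥ ·) hX
    simp only [hΦ, mulVec_mulVec, Units.inv_mul, one_mulVec, mulVec_zero] at h1
    refine flat.map_eq_zero_iff.1 (funext fun p => ?_)
    simpa using congrFun h1 (e'.symm p)
  have HF : SForm f :=
    { add_left := fun X Y Z => by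
        show c⁻¹ * _ = c⁻¹ * _ + c⁻¹ * _
        rw [map_add, QuadraticMap.polar_add_left, mul_add]
      smul_left := fun t X Z => by
        show c⁻¹ * _ = t * (c⁻¹ * _)
        rw [map_smul, QuadraticMap.polar_smul_left, smul_eq_mul]
        ring
      symm := fun X Y => by
        show c⁻¹ * _ = c⁻¹ * _
        rw [QuadraticMap.polar_comm]
      nondeg := fun X hX => hΦinj X (hR.1 _ fun u => by
        obtain ⟨Y, rfl⟩ := hΦsurj u
        show QuadraticMap.polar R (Φ X) (Φ Y) = 0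
        rw [hcf, hX, mul_zero])
      two := h2 }
  have hQf : ∀ X, R (Φ X) = c / 2 * f X X := fun X => by
    have h := hcf X X
    rw [QuadraticMap.polar_self, two_nsmul] at h
    field_simp
    linear_combination h
  have hact : ∀ (M : GL (Fin 3 × Fin 3) F) X,
      ((CfsgLib.Aschbacher.frU e' P M : GL ι F) : Matrix ι ι F) *ᵥ Φ X = Φ (mmap M X) := fun M X => by
    rw [CfsgLib.Aschbacher.frU_val, CfsgLib.Aschbacher.frAlg_apply, hΦ, hΦ]
    rw [mulVec_mulVec, mul_assoc, Units.inv_mul, mul_one, ← mulVec_mulVec, submatrix_mulVec_equiv,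
      Function.comp_assoc, Equiv.self_comp_symm, Function.comp_id, mmap_apply,
      LinearEquiv.apply_symm_apply]
  let Φe : Matrix (Fin 3) (Fin 3) F ≃ₗ[F] (ι → F) :=
    LinearEquiv.ofBijective Φ ⟨(injective_iff_map_eq_zero Φ).2 hΦinj, hΦsurj⟩
  have hΦe : ∀ X, Φe X = Φ X := fun X => rfl
  have hsurjM : ∀ g : Matrix (Fin 3) (Fin 3) F ≃ₗ[F] Matrix (Fin 3) (Fin 3) F, ∃ M, mmap M = g := by
    intro g
    let L : (Fin 3 × Fin 3 → F) ≃ₗ[F] (Fin 3 × Fin 3 → F) := flat.symm.trans (g.trans flat)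
    refine ⟨Matrix.GeneralLinearGroup.toLin.symm (LinearMap.GeneralLinearGroup.ofLinearEquiv L),
      LinearEquiv.ext fun X => ?_⟩
    rw [mmap_apply]
    show flat.symm (LinearMap.toMatrix' L.toLinearMap *ᵥ flat X) = g X
    rw [LinearMap.toMatrix'_mulVec]
    simp [L]
  let Ψ : quadIso R →* quadIso HF.quad :=
    { toFun := fun x => ⟨Φe.trans (x.1.trans Φe.symm), fun X => by
        have h := x.2 (Φ X)
        obtain ⟨Y, hY⟩ := hΦsurj (x.1 (Φ X))
        show f _ _ = f X X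
        have e1 : (Φe.trans (x.1.trans Φe.symm)) X = Y := by
          show Φe.symm (x.1 (Φ X)) = Y
          rw [Φe.symm_apply_eq, hΦe, hY]
        rw [e1]
        rw [← hY, hQf, hQf] at h
        exact mul_left_cancel₀ (div_ne_zero hc0 h2) h⟩
      map_one' := Subtype.ext (LinearEquiv.ext fun X => Φe.symm_apply_apply X)
      map_mul' := fun x y => Subtype.ext (LinearEquiv.ext fun X => by
        show Φe.symm (x.1 (y.1 (Φ X))) = Φe.symm (x.1 (Φ (Φe.symm (y.1 (Φ X)))))
        rw [← hΦe (Φe.symm _), Φe.apply_symm_apply]) }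
  -- elements of odd order
  obtain ⟨p, hp⟩ := CharP.exists F
  haveI : Fact p.Prime := ⟨CharP.char_is_prime F p⟩
  have hp2 : p ≠ 2 := fun e0 => h2 (by
    subst e0
    exact_mod_cast CharP.cast_eq_zero F 2)
  have hΩ : Cfsg.Geo.omegaGL ⇑R = (commutator (quadIso R)).map (toMat R) := by
    rw [Orth.omegaGL_eq hR hn5, OmegaSimple.commutator_eq R hR (by omega)]
  have hΩiso : ∀ M, CfsgLib.Aschbacher.frU e' P M ∈ Cfsg.Geo.omegaGL ⇑R →
      ∀ X Y, f (mmap M X) (mmap M Y) = f X Y := by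
    intro M hM X Y
    rw [hΩ] at hM
    obtain ⟨x, -, hx⟩ := hM
    show c⁻¹ * _ = c⁻¹ * _
    rw [← hact, ← hact, ← hx, toMat_mulVec, toMat_mulVec, OrthOrder.polar_map x.2]
  have hunip : ∀ g : Matrix (Fin 3) (Fin 3) F ≃ₗ[F] Matrix (Fin 3) (Fin 3) F,
      (∀ X Y, f (g X) (g Y) = f X Y) → Unip g →
      ∃ M, mmap M = g ∧ CfsgLib.Aschbacher.frU e' P M ∈ Cfsg.Geo.omegaGL ⇑R := by
    intro g hgi hu
    obtain ⟨M, rfl⟩ := hsurjM g
    refine ⟨M, rfl, ?_⟩
    haveI : Nonempty (Fin 3) := ⟨⟨0, by omega⟩⟩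
    haveI : Nonempty (Fin 3) := ⟨⟨0, by omega⟩⟩
    obtain ⟨k, hk⟩ := pow_eq_one_of_nil p hu
    let x : quadIso R := ⟨Φe.symm.trans ((mmap M).trans Φe), fun v => by
      obtain ⟨X, rfl⟩ := hΦsurj v
      show R (Φ (mmap M (Φe.symm (Φ X)))) = R (Φ X)
      rw [show Φe.symm (Φ X) = X from Φe.symm_apply_apply X, hQf, hQf, hgi]⟩
    have hxX : ∀ X, x.1 (Φ X) = Φ (mmap M X) := fun X => by
      show Φ (mmap M (Φe.symm (Φ X))) = _
      rw [show Φe.symm (Φ X) = X from Φe.symm_apply_apply X]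
    have hpow : ∀ n X, (x ^ n).1 (Φ X) =
        Φ ((((mmap M).toLinearMap : Module.End F (Matrix (Fin 3) (Fin 3) F)) ^ n) X) := by
      intro n
      induction n with
      | zero => intro X; rfl
      | succ n ih =>
        intro X
        rw [pow_succ, pow_succ, Module.End.mul_apply]
        show (x ^ n).1 (x.1 (Φ X)) = _
        rw [hxX, ih]
        rfl
    have hxN : x ^ p ^ k = 1 := Subtype.ext (LinearEquiv.ext fun v => by
      obtain ⟨X, rfl⟩ := hΦsurj v
      rw [hpow, hk]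
      rfl)
    have hxc := mem_commutator_of_odd hR (by omega) (((Fact.out : p.Prime).odd_of_ne_two hp2).pow) hxN
    rw [hΩ]
    refine ⟨x, hxc, Units.ext (Matrix.toLin'.injective (LinearMap.ext fun v => ?_))⟩
    obtain ⟨X, rfl⟩ := hΦsurj v
    rw [Matrix.toLin'_apply, Matrix.toLin'_apply, toMat_mulVec, hxX, hact]
  let Θ : quadIso HF.quad →* quadIso R :=
    { toFun := fun y => ⟨Φe.symm.trans (y.1.trans Φe), fun v => by
        obtain ⟨X, rfl⟩ := hΦsurj v
        show R (Φ (y.1 (Φe.symm (Φ X)))) = R (Φ X)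
        rw [show Φe.symm (Φ X) = X from Φe.symm_apply_apply X, hQf, hQf]
        exact congrArg (c / 2 * ·) (y.2 X)⟩
      map_one' := Subtype.ext (LinearEquiv.ext fun v => Φe.apply_symm_apply v)
      map_mul' := fun x y => Subtype.ext (LinearEquiv.ext fun v => by
        show Φ (x.1 (y.1 (Φe.symm v))) = Φ (x.1 (Φe.symm (Φe (y.1 (Φe.symm v)))))
        rw [Φe.symm_apply_apply]) }
  have hframe : ∀ M, CfsgLib.Aschbacher.frU e P (powGL M) = CfsgLib.Aschbacher.frU e' P M := fun M =>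
    Units.ext (by
      rw [CfsgLib.Aschbacher.frU_val, CfsgLib.Aschbacher.frU_val, CfsgLib.Aschbacher.frAlg_apply,
        CfsgLib.Aschbacher.frAlg_apply, powGL_val, Matrix.submatrix_submatrix]
      rfl)
  have hW : ∀ M, CfsgLib.Aschbacher.frU e' P M ∈ Cfsg.Geo.tensorWreathSubgroup 3 2 e P ↔ Semi (mmap M) := by
    intro M
    rw [Cfsg.Geo.tensorWreathSubgroup, CfsgLib.Aschbacher.map_glReindex_conj, ← hframe]
    constructor
    · rintro ⟨g, hg, hgM⟩
      obtain rfl := (CfsgLib.Aschbacher.frU e P).injective hgM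
      have h := semi_of_mem_standard hg
      rwa [MulEquiv.symm_apply_apply] at h
    · exact fun h => ⟨powGL M, semi_mem_standard h, rfl⟩
  have hderived : ∀ y ∈ commutator (quadIso HF.quad), ∀ M, mmap M = y.1 →
      CfsgLib.Aschbacher.frU e' P M ∈ Cfsg.Geo.omegaGL ⇑R := by
    intro y hy M hM
    rw [hΩ]
    have hΘ : Θ y ∈ commutator (quadIso R) := by
      have h2 := Subgroup.mem_map_of_mem Θ hy
      rw [_root_.commutator_def, Subgroup.map_commutator] at h2
      rw [_root_.commutator_def]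
      exact Subgroup.commutator_mono le_top le_top h2
    refine ⟨Θ y, hΘ, Units.ext (Matrix.toLin'.injective (LinearMap.ext fun v => ?_))⟩
    obtain ⟨X, rfl⟩ := hΦsurj v
    rw [Matrix.toLin'_apply, Matrix.toLin'_apply, toMat_mulVec, hact, hM]
    show Φ (y.1 (Φe.symm (Φe X))) = Φ (y.1 X)
    rw [Φe.symm_apply_apply]
  -- every overgroup
  have key : ∀ K : Subgroup (GL ι F),
      Cfsg.Geo.tensorWreathSubgroup 3 2 e P ⊓ Cfsg.Geo.omegaGL ⇑R ≤ K → K ≤ Cfsg.Geo.omegaGL ⇑R →
      ∃ (G : Subgroup (Matrix (Fin 3) (Fin 3) F ≃ₗ[F] Matrix (Fin 3) (Fin 3) F)) (O : OO f₁ f₁ f G),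
        (∀ M, mmap M ∈ G ↔ CfsgLib.Aschbacher.frU e' P M ∈ K) ∧ (NoRoot O → Sq O) := by
    intro K hHK hKΩ
    let G := (K.comap (CfsgLib.Aschbacher.frU e' P).toMonoidHom).map mmap
    have hmem : ∀ y ∈ commutator (quadIso HF.quad), Semi y.1 → y.1 ∈ G := by
      intro y hy hs
      obtain ⟨M, hM⟩ := hsurjM y.1
      exact ⟨M, hHK ⟨(hW M).2 (hM ▸ hs), hderived y hy M hM⟩, hM⟩
    have O : OO f₁ f₁ f G :=
    { h1 := H1
      h2 := H1
      h := HF
      f_pure := hfp
      isom := by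
        rintro _ ⟨M, hM, rfl⟩
        exact hΩiso M (hKΩ hM)
      pu := fun g hgi hgp hu => by
        obtain ⟨M, rfl, hM⟩ := hunip g hgi hu
        exact ⟨M, hHK ⟨(hW M).2 (Or.inl hgp), hM⟩, rfl⟩
      split := fun g h hgi hgp hhi hu hgh => by
        obtain ⟨M, rfl⟩ := hsurjM g
        obtain ⟨M', rfl, hM'⟩ := hunip h hhi hu
        obtain ⟨M'', hM'', he''⟩ := hgh
        rw [← map_mul] at he''
        obtain rfl := mmap_injective he''
        have hmem : CfsgLib.Aschbacher.frU e' P M ∈ Cfsg.Geo.omegaGL ⇑R := by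
          have h1 := mul_mem (hKΩ hM'') (inv_mem hM')
          simpa using h1
        exact ⟨M, hHK ⟨(hW M).2 (Or.inl hgp), hmem⟩, rfl⟩
      a3 := by rw [Fintype.card_fin]
      ab := Or.inr ⟨Fintype.card_fin 3, Fintype.card_fin 3⟩
      b4 := Or.inr ⟨Or.inr (Fintype.card_fin 3), by rwa [Nat.card_eq_fintype_card], fun W hW => by
        have := two_mul_le H1 hW
        rw [Module.finrank_fin_fun] at this
        omega⟩
      odd := Or.inl (by rw [Fintype.card_fin]; decide)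
      small := Or.inr (by rwa [Nat.card_eq_fintype_card])
      minus := fun h => absurd h (by simp) }
    refine ⟨G, O, fun M => ⟨fun ⟨M', hM', he''⟩ => mmap_injective he'' ▸ hM', fun h => ⟨M, h, rfl⟩⟩,
      fun hN => ⟨hN, Fintype.card_fin 3, fun c' hc' => ?_, ?_⟩⟩
    · obtain ⟨b, hbc, hb⟩ := exists_perp_value H1 (Fintype.card_fin 3) hc'
      obtain ⟨d, hd, hdc, hdb, -⟩ := third H1 (Fintype.card_fin 3) hc' (by rwa [hb]) hbc
      obtain ⟨y, hy, hyd⟩ := turn_mem H1 (Fintype.card_fin 3) HF hfp hd hc' hbc hb hdc hdb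
      refine ⟨d, hd, hdc, ?_⟩
      have := hmem y hy (Or.inl ⟨halfTurn H1 d, LinearMap.id, fun a x => by rw [hyd, turn_pure]; rfl⟩)
      rwa [hyd] at this
    · obtain ⟨η, hη0, -⟩ := H1.exists_iso (hda O)
      obtain ⟨c', hc'⟩ := H1.exists_aniso hη0
      obtain ⟨b, hbc, hb⟩ := exists_perp_value H1 (Fintype.card_fin 3) hc'
      obtain ⟨d, hd, hdc, hdb, -⟩ := third H1 (Fintype.card_fin 3) hc' (by rwa [hb]) hbc
      obtain ⟨w, hw, y, hy, hyw⟩ := swap_mem H1 (Fintype.card_fin 3) HF hfp hd hc' hbc hb hdc hdb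
      refine ⟨w, hw, ?_⟩
      have := hmem y hy (Or.inr ⟨LinearMap.id, H1.refl w, fun a x => by rw [hyw, swp_pure, reflE_apply]; rfl⟩)
      rwa [hyw] at this
  refine ⟨lt_of_le_of_ne inf_le_right fun h => ?_, fun K hK hKG => ?_⟩
  · obtain ⟨G, O, hG, -⟩ := key _ inf_le_right le_rfl
    obtain ⟨η, hη0, hη⟩ := H1.exists_iso (hda O)
    obtain ⟨ζ, hζ, hηζ⟩ := exists_pair H1 hη0 hη
    obtain ⟨z, hz, hzz⟩ := exists_aniso_pairPerp H1 (hda O) hη hζ hηζ
    obtain ⟨hzη, hzζ⟩ := (mem_pairPerp H1).1 hz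
    obtain ⟨u, hu0, hu⟩ := H1.exists_iso (by have := hdb O; omega)
    obtain ⟨v, hv, huv⟩ := exists_pair H1 hu0 hu
    have hQu : HF.quad (vecMulVec η u) = 0 := by rw [HF.quad_apply, hfp, hu, mul_zero]
    have hpol : QuadraticMap.polar HF.quad (vecMulVec η u) (vecMulVec z u) = 0 := by
      rw [HF.quad_polar, hfp, hu, mul_zero, mul_zero]
    obtain ⟨x, hx⟩ := exists_eich HF.quad hQu hpol
    have hxi : ∀ X Y, f (x.1 X) (x.1 Y) = f X Y := fun X Y => by
      have h := OrthOrder.polar_map x.2 X Y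
      rw [HF.quad_polar, HF.quad_polar] at h
      exact mul_left_cancel₀ h2 h
    have hxu : Unip x.1 := ⟨3, LinearMap.ext fun X => by
      have hd : ∀ Y, ((x.1.toLinearMap : Module.End F _) - 1) Y =
          (2 * f (vecMulVec η u) Y) • vecMulVec z u - (2 * f (vecMulVec z u) Y) • vecMulVec η u := fun Y => by
        rw [LinearMap.sub_apply, Module.End.one_apply]
        show x.1 Y - Y = _
        rw [hx Y, HF.quad_polar, HF.quad_polar, HF.quad_apply, hfp z z u u, hu]
        match_scalars <;> ring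
      rw [pow_succ, pow_succ, pow_one, Module.End.mul_apply, Module.End.mul_apply, LinearMap.zero_apply]
      simp only [hd, HF.sub_right, HF.smul_right, HF.zero_right, hfp, hu, mul_zero, sub_zero, zero_smul]⟩
    obtain ⟨M, hMx, hM⟩ := hunip x.1 hxi hxu
    have hs := (hW M).1 (h.ge hM).1
    rw [hMx] at hs
    obtain ⟨A, B, hx'⟩ : ∃ A B : Fin 3 → F, x.1 (vecMulVec ζ v) = vecMulVec A B := by
      rcases hs with ⟨L, N, hLN⟩ | ⟨L, N, hLN⟩ <;> exact ⟨_, _, hLN _ _⟩
    have e1 : x.1 (vecMulVec ζ v) = vecMulVec ζ v + (2 : F) • vecMulVec z u := by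
      rw [hx, HF.quad_polar, HF.quad_polar, HF.quad_apply, hfp, hfp, hfp, hηζ, hzζ, huv, hu]
      match_scalars <;> ring
    rw [hx'] at e1
    have e2 := congrArg (cw O η) e1
    have e3 := congrArg (cw O z) e1
    rw [map_add, map_smul, cw_pure, cw_pure, cw_pure, H1.symm η ζ, hηζ, hzη, zero_smul, smul_zero,
      add_zero, one_smul] at e2
    rw [map_add, map_smul, cw_pure, cw_pure, cw_pure, H1.symm0 hzζ, zero_smul, zero_add, smul_smul] at e3
    set s := f₁ A η
    set t := f₁ A z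
    have e4 := congrArg (f₁ · u) e2
    have e5 := congrArg (f₁ · u) e3
    simp only [H1.smul_left, H1.symm u v, huv, hu, mul_zero] at e4 e5
    rcases mul_eq_zero.1 e5 with h0 | h0
    · rw [h0, zero_smul, eq_comm, smul_eq_zero] at e3
      exact e3.elim (mul_ne_zero h2 hzz) hu0
    · rw [h0, mul_zero] at e4
      exact zero_ne_one e4
  by_cases hin : K ≤ Cfsg.Geo.tensorWreathSubgroup 3 2 e P
  · exact Or.inl (le_antisymm (le_inf hin hKG) hK)
  refine Or.inr (le_antisymm hKG ?_)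
  obtain ⟨G, O, hG, hSq⟩ := key K hK hKG
  obtain ⟨g₀, hg₀, hg₀n⟩ := SetLike.not_le_iff_exists.1 hin
  obtain ⟨M₀, rfl⟩ := (CfsgLib.Aschbacher.frU e' P).surjective g₀
  have hsieg := sieg_le O fun hN => hg₀n ((hW M₀).2 (semi_all (hSq hN) ((hG M₀).2 hg₀)))
  rw [hΩ]
  rintro _ ⟨x, hx, rfl⟩
  have h1 : Ψ x ∈ commutator (quadIso HF.quad) := by
    have h2 := Subgroup.mem_map_of_mem Ψ hx
    rw [_root_.commutator_def, Subgroup.map_commutator] at h2
    rw [_root_.commutator_def]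
    exact Subgroup.commutator_mono le_top le_top h2
  rw [OmegaSimple.commutator_eq HF.quad (quad_nondeg O) (by
    simp [Module.finrank_matrix, Fintype.card_fin])] at h1
  have h3 : (Ψ x).1 ∈ G := hsieg h1
  obtain ⟨M, hM⟩ := hsurjM (Ψ x).1
  rw [← hM] at h3
  convert (hG M).1 h3 using 1
  refine Units.ext (Matrix.toLin'.injective (LinearMap.ext fun v => ?_))
  obtain ⟨X, rfl⟩ := hΦsurj v
  rw [Matrix.toLin'_apply, Matrix.toLin'_apply, toMat_mulVec, hact, hM]
  show x.1 (Φ X) = Φ (Φe.symm (x.1 (Φ X)))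
  exact (Φe.apply_symm_apply _).symm


end CfsgLib.MaxSub.TensorOO
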